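import Cfsg.Agent.Lib.CIT.Local
import Cfsg.Agent.Lib.FrobSystem.Main
import Cfsg.Agent.Lib.PGroup.TwoPQModule
import Cfsg.Agent.Lib.CFun.OddTypePBasic
import Cfsg.Agent.Lib.Lie.Suz.Group
import Cfsg.Agent.Lib.Lie.Suz.Twisted
import Cfsg.Agent.S4235

/-!
# Simple groups with TI Sylow two-subgroups and a kernel

Let `T` be a TI Sylow two-subgroup of a simple group, and suppose that `F = T C(T)` contains the
centralizer of each of its nontrivial elements.  Then `(N(T), F)` is a Frobenius system, and the group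
is `PSL₂(2ⁿ)` or a Suzuki group.
-/

set_option autoImplicit false
set_option linter.unusedSectionVars false
set_option linter.style.haveILetI false

namespace CfsgLib.CIT

open Subgroup

universe u

variable {G : Type u} [Group G] [Finite G]

/-- `T C(T)`. -/
def tiKer (T : Subgroup G) : Subgroup G := T ⊔ centralizer (T : Set G)

/-- A 2-element is a member as soon as its 2-part and its odd part are. -/
theorem mem_of_parts {H : Subgroup G} {c : G}
    (h2 : ∀ y ∈ zpowers c, IsPGroup 2 (zpowers y) → y ∈ H)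
    (ho : ∀ y ∈ zpowers c, Odd (orderOf y) → y ∈ H) : c ∈ H := by
  refine CfsgLib.PGroup.mem_of_forall_prime_pow_mem fun r hr => ?_
  obtain ⟨a, m, hm, hcm⟩ := Nat.exists_eq_two_pow_mul_odd (orderOf_pos c).ne'
  have hm0 : m ≠ 0 := hm.pos.ne'
  by_cases h : r = 2
  · subst h
    refine ⟨m, Nat.odd_iff.1 hm |> fun e hd => by omega, h2 _ (pow_mem (mem_zpowers c) m) ?_⟩
    refine IsPGroup.of_card (n := a) ?_
    rw [Nat.card_zpowers, orderOf_pow_of_dvd hm0 (hcm ▸ dvd_mul_left m _), hcm,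
      Nat.mul_div_cancel _ hm.pos]
  · refine ⟨2 ^ a, fun hd => h ((Nat.prime_dvd_prime_iff_eq hr Nat.prime_two).1 (hr.dvd_of_dvd_pow hd)),
      ho _ (pow_mem (mem_zpowers c) _) ?_⟩
    rw [orderOf_pow_of_dvd (by positivity) (hcm ▸ dvd_mul_right _ _), hcm,
      Nat.mul_div_cancel_left _ (by positivity)]
    exact hm

/-- A two-element normalizing a Sylow two-subgroup lies in it. -/
theorem mem_of_two_normalizer {T : Sylow 2 G} {x : G}
    (hx : x ∈ normalizer ((T : Subgroup G) : Set G)) (h2 : IsPGroup 2 (zpowers x)) :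
    x ∈ (T : Subgroup G) := by
  have h : IsPGroup 2 ((T : Subgroup G) ⊔ zpowers x : Subgroup G) :=
    T.2.to_sup_of_normal_left' h2 (zpowers_le.2 hx)
  exact (T.is_maximal' h le_sup_left).le (mem_sup_right (mem_zpowers x))

theorem isPGroup_zpowers_invol {x : G} (hx : orderOf x = 2) : IsPGroup 2 (zpowers x) :=
  IsPGroup.of_card (n := 1) (by rw [Nat.card_zpowers, hx, pow_one])

theorem tiKer_le_normalizer (T : Subgroup G) : tiKer T ≤ normalizer (T : Set G) :=
  sup_le le_normalizer (centralizer_le_normalizer _)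

theorem normalizer_le_normalizer_tiKer (T : Subgroup G) :
    normalizer (T : Set G) ≤ normalizer (tiKer T : Set G) := by
  intro g hg
  refine cj_eq_self_iff.1 ?_
  have hT : cj g T = T := cj_eq_self_iff.2 hg
  refine eq_of_le_of_card_ge ?_ (card_cj g _).ge
  rw [tiKer, cj, Subgroup.map_sup]
  refine sup_le (le_sup_of_le_left hT.le) (le_sup_of_le_right ?_)
  intro y hy
  have hy' : g⁻¹ * y * g ∈ centralizer (T : Set G) := mem_cj.1 hy
  refine mem_centralizer_iff.2 fun t ht => ?_
  have ht' : g⁻¹ * t * g ∈ T := mem_cj.1 (hT.symm ▸ ht)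
  have h := mem_centralizer_iff.1 hy' _ ht'
  calc t * y = g * (g⁻¹ * t * g * (g⁻¹ * y * g)) * g⁻¹ := by group
    _ = g * (g⁻¹ * y * g * (g⁻¹ * t * g)) * g⁻¹ := by rw [h]
    _ = y * t := by group

theorem exists_central_invol {T : Sylow 2 G} (h2 : 2 ∣ Nat.card G) :
    ∃ z ∈ (T : Subgroup G), orderOf z = 2 ∧ ∀ x ∈ (T : Subgroup G), x * z = z * x := by
  haveI : Fact (Nat.Prime 2) := ⟨Nat.prime_two⟩
  haveI : Nontrivial (T : Subgroup G) := by
    rw [← Finite.one_lt_card_iff_nontrivial]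
    exact lt_of_lt_of_le one_lt_two (Nat.le_of_dvd Nat.card_pos (T.dvd_card_of_dvd_card h2))
  haveI := T.isPGroup'.center_nontrivial
  obtain ⟨k, hk, e⟩ := (T.isPGroup'.to_subgroup (Subgroup.center (T : Subgroup G))).nontrivial_iff_card.1
    inferInstance
  obtain ⟨z, hz⟩ := exists_prime_orderOf_dvd_card' (G := Subgroup.center (T : Subgroup G)) 2
    (e ▸ dvd_pow_self 2 hk.ne')
  refine ⟨((z : (T : Subgroup G)) : G), SetLike.coe_mem _, ?_, fun x hx =>
    congrArg Subtype.val (mem_center_iff.1 z.2 ⟨x, hx⟩)⟩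
  rw [Subgroup.orderOf_coe, Subgroup.orderOf_coe, hz]

theorem two_dvd_card_of_simple [IsSimpleGroup G] (hna : ¬ IsMulCommutative G) : 2 ∣ Nat.card G := by
  by_contra h
  have hs : Group.IsSolvable G := Cfsg.Agent.S0205.result (Nat.odd_iff.2 (by omega))
  exact hna (isMulCommutative_iff.2 (IsSimpleGroup.comm_iff_isSolvable.2 hs))

theorem two_dvd_card_of_nsolv (hns : ¬ Group.IsSolvable G) : 2 ∣ Nat.card G := by
  by_contra h
  exact hns (Cfsg.Agent.S0205.result (Nat.odd_iff.2 (by omega)))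

/-- No nontrivial solvable normal subgroup. -/
def NoSolv (G : Type u) [Group G] : Prop := ∀ R : Subgroup G, R.Normal → Group.IsSolvable R → R = ⊥

theorem nsolv_of_simple [IsSimpleGroup G] (hna : ¬ IsMulCommutative G) : ¬ Group.IsSolvable G :=
  fun hs => hna (isMulCommutative_iff.2 (IsSimpleGroup.comm_iff_isSolvable.2 hs))

theorem noSolv_of_simple [IsSimpleGroup G] (hna : ¬ IsMulCommutative G) : NoSolv G :=
  fun R hR hs => hR.eq_bot_or_eq_top.resolve_right fun e => nsolv_of_simple hna (by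
    subst e
    exact Group.isSolvable_of_surjective (f := (Subgroup.topEquiv : (⊤ : Subgroup G) ≃* G).toMonoidHom)
      (Subgroup.topEquiv : (⊤ : Subgroup G) ≃* G).surjective)

/-- A Sylow two-subgroup of a group without solvable normal subgroups has two commuting involutions. -/
theorem exists_second_invol (hns : ¬ Group.IsSolvable G) (hR : NoSolv G) (T : Sylow 2 G) {z : G}
    (hz : orderOf z = 2) : ∃ x ∈ (T : Subgroup G), orderOf x = 2 ∧ x ≠ z := by
  by_contra h
  push Not at h
  have hc := CfsgLib.Invol.zcentral_of_unique_invol T hz h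
  have hO : Cfsg.pPrimeCore 2 G = ⊥ := by
    haveI := CfsgLib.Coprime.pPrimeCore_characteristic (G := G) 2
    exact hR _ inferInstance (CfsgLib.FrobSystem.isSolvable_subgroup_of_odd
      (Nat.odd_iff.2 (Nat.two_dvd_ne_zero.1 (CfsgLib.Coprime.pPrimeCore_not_dvd Nat.prime_two))))
  have hzc : z ∈ Subgroup.center G := mem_center_iff.2 fun g => by
    have h1 := hc g
    rw [hO, mem_bot, mul_inv_eq_one] at h1
    exact (mul_inv_eq_iff_eq_mul.1 h1).symm
  rw [hR (Subgroup.center G) inferInstance (Group.isSolvable_of_comm fun a b =>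
    Subtype.ext (mem_center_iff.1 b.2 a)), mem_bot] at hzc
  exact CfsgLib.Invol.invol_ne_one hz hzc

/-- An involution without fixed points inverts an abelian group. -/
theorem inverts_of_fpf {A : Subgroup G} {v : G} (hv : orderOf v = 2) (hvA : v ∈ normalizer (A : Set G))
    (hfix : ∀ a ∈ A, v * a = a * v → a = 1) {a : G} (ha : a ∈ A) : v * a * v⁻¹ = a⁻¹ := by
  let φ : A →* A := MonoidHom.mk' (fun u => ⟨v * u * v⁻¹, (mem_normalizer_iff.1 hvA u).1 u.2⟩)
    fun x y => Subtype.ext (by simp [mul_assoc])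
  have hfp : MonoidHom.FixedPointFree φ := fun u hu =>
    Subtype.ext (hfix u u.2 (mul_inv_eq_iff_eq_mul.1 (congrArg Subtype.val hu)))
  have hii : Function.Involutive φ := fun u => Subtype.ext (by
    show v * (v * u * v⁻¹) * v⁻¹ = u
    rw [CfsgLib.Invol.invol_inv hv]
    calc v * (v * (u : G) * v) * v = (v * v) * u * (v * v) := by group
      _ = u := by rw [CfsgLib.Invol.invol_mul_self hv, one_mul, mul_one])
  exact congrArg Subtype.val (congrFun (hfp.coe_eq_inv_of_involutive hii) ⟨a, ha⟩)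

section Kernel

variable {T : Sylow 2 G}
  (hTI : ∀ g : G, g ∉ normalizer ((T : Subgroup G) : Set G) → ∀ x ∈ (T : Subgroup G),
    g * x * g⁻¹ ∈ (T : Subgroup G) → x = 1)
  (hker : ∀ x ∈ tiKer (T : Subgroup G), x ≠ 1 → ∀ c : G, c * x = x * c → c ∈ tiKer (T : Subgroup G))

include hTI hker

omit hker in
theorem mem_normalizer_of_conj {g x : G} (hx : x ∈ (T : Subgroup G)) (hx1 : x ≠ 1)
    (hgx : g * x * g⁻¹ ∈ (T : Subgroup G)) : g ∈ normalizer ((T : Subgroup G) : Set G) := by
  by_contra hg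
  exact hx1 (hTI g hg x hx hgx)

variable (hns : ¬ Group.IsSolvable G) (hR : NoSolv G)

include hns hR

/-- The normalizer of the Sylow subgroup is a maximal solvable subgroup. -/
theorem normalizer_maximal (M' : Subgroup G) (hlt : normalizer ((T : Subgroup G) : Set G) < M') :
    ¬ Group.IsSolvable M' := by
  intro hs
  haveI : Fact (Nat.Prime 2) := ⟨Nat.prime_two⟩
  set N := normalizer ((T : Subgroup G) : Set G) with hN
  refine hlt.not_ge fun g hg => ?_
  obtain ⟨z, hzT, hz, hzc⟩ := exists_central_invol (T := T) (two_dvd_card_of_nsolv hns)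
  have hTM : (T : Subgroup G) ≤ M' := le_normalizer.trans hlt.le
  haveI : Nontrivial M' :=
    ⟨⟨⟨z, hTM hzT⟩, 1, fun e => CfsgLib.Invol.invol_ne_one hz (congrArg Subtype.val e)⟩⟩
  obtain ⟨A₀, hA₀n, hA₀1, hA₀c⟩ := CfsgLib.TwoPQ.exists_abelian_normal (G := M')
  set A := A₀.map M'.subtype with hA
  have hAM : A ≤ M' := map_subtype_le _
  have hconj : ∀ m ∈ M', ∀ a ∈ A, m * a * m⁻¹ ∈ A := by
    rintro m hm _ ⟨a, ha, rfl⟩
    exact ⟨⟨m, hm⟩ * a * ⟨m, hm⟩⁻¹, hA₀n.conj_mem a ha _, rfl⟩
  have hMA : M' ≤ normalizer (A : Set G) := le_normalizer_of_forall hconj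
  have hcomm : ∀ a ∈ A, ∀ b ∈ A, a * b = b * a := by
    rintro _ ⟨a, ha, rfl⟩ _ ⟨b, hb, rfl⟩
    exact congrArg Subtype.val (hA₀c a ha b hb)
  by_cases h2 : 2 ∣ Nat.card A
  · -- a normal two-subgroup forces the Sylow subgroup to be normal
    obtain ⟨⟨a, haA⟩, ha⟩ := exists_prime_orderOf_dvd_card' (G := A) 2 h2
    rw [Subgroup.orderOf_mk] at ha
    let W : Subgroup G :=
      { carrier := {x | x ∈ A ∧ x * x = 1}
        one_mem' := ⟨one_mem A, one_mul 1⟩
        mul_mem' := fun {x y} hx hy => ⟨mul_mem hx.1 hy.1, by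
          calc x * y * (x * y) = x * (y * x) * y := by group
            _ = (x * x) * (y * y) := by rw [hcomm y hy.1 x hx.1]; group
            _ = 1 := by rw [hx.2, hy.2, one_mul]⟩
        inv_mem' := fun {x} hx => ⟨inv_mem hx.1, by rw [← mul_inv_rev, hx.2, inv_one]⟩ }
    have hW2 : IsPGroup 2 W := fun x => ⟨1, Subtype.ext (by
      rw [Subgroup.coe_pow, Subgroup.coe_one, pow_one, pow_two]; exact x.2.2)⟩
    have hMW : M' ≤ normalizer (W : Set G) := le_normalizer_of_forall fun m hm x hx =>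
      ⟨hconj m hm x hx.1, by
        rw [show m * x * m⁻¹ * (m * x * m⁻¹) = m * (x * x) * m⁻¹ by group, hx.2, mul_one,
          mul_inv_cancel]⟩
    have hWT : W ≤ (T : Subgroup G) := by
      have h : IsPGroup 2 (W ⊔ (T : Subgroup G) : Subgroup G) :=
        hW2.to_sup_of_normal_left' T.2 (hTM.trans hMW)
      exact le_sup_left.trans (T.is_maximal' h le_sup_right).le
    have haW : a ∈ W := ⟨haA, CfsgLib.Invol.invol_mul_self ha⟩
    refine mem_normalizer_of_conj hTI (hWT ((mem_normalizer_iff.1 (hMW (inv_mem hg)) a).1 haW))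
      ?_ ?_
    · exact fun e => CfsgLib.Invol.invol_ne_one ha (conj_eq_one_iff.1 e)
    · rw [show g * (g⁻¹ * a * g⁻¹⁻¹) * g⁻¹ = a by group]
      exact hWT haW
  · -- an involution of a four group centralizes part of an odd normal subgroup
    obtain ⟨x, hxT, hx, hxz⟩ := exists_second_invol hns hR T hz
    have hzF : ∀ f ∈ tiKer (T : Subgroup G), f * z = z * f := by
      intro f hf
      have h : tiKer (T : Subgroup G) ≤ centralizer ({z} : Set G) := sup_le
        (fun t ht => mem_centralizer_singleton_iff.2 (hzc t ht))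
        (fun c hc => mem_centralizer_singleton_iff.2 (mem_centralizer_iff.1 hc z hzT).symm)
      exact mem_centralizer_singleton_iff.1 (h hf)
    obtain ⟨v, hvT, hv, q, hqA, hq1, hvq⟩ : ∃ v ∈ (T : Subgroup G), orderOf v = 2 ∧
        ∃ q ∈ A, q ≠ 1 ∧ v * q = q * v := by
      by_contra hno
      push Not at hno
      obtain ⟨⟨q, hq⟩, hq1⟩ := ne_bot_iff_exists_ne_one.1 (show A ≠ ⊥ from fun e => hA₀1
        ((map_eq_bot_iff_of_injective _ M'.subtype_injective).1 e))
      have hq1' : q ≠ 1 := fun e => hq1 (Subtype.ext e)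
      have hinv : ∀ v ∈ (T : Subgroup G), orderOf v = 2 → ∀ a ∈ A, v * a * v⁻¹ = a⁻¹ :=
        fun v hvT hv a ha => inverts_of_fpf hv (hMA (hTM hvT))
          (fun b hb h => by_contra fun hb1 => hno v hvT hv b hb hb1 h) ha
      have hxz' : x * z = z * x := hzc x hxT
      have hzx : orderOf (z * x) = 2 := orderOf_eq_prime (by
          rw [pow_two]
          calc z * x * (z * x) = z * (x * z) * x := by group
            _ = (z * z) * (x * x) := by rw [hxz']; group
            _ = 1 := by rw [CfsgLib.Invol.invol_mul_self hz, CfsgLib.Invol.invol_mul_self hx, one_mul])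
        (fun e => hxz (by rw [← inv_eq_of_mul_eq_one_right e, CfsgLib.Invol.invol_inv hz]))
      refine hno (z * x) (mul_mem hzT hxT) hzx q hq hq1' (mul_inv_eq_iff_eq_mul.1 ?_)
      calc z * x * q * (z * x)⁻¹ = z * (x * q * x⁻¹) * z⁻¹ := by group
        _ = (z * q * z⁻¹)⁻¹ := by rw [hinv x hxT hx q hq]; group
        _ = q := by rw [hinv z hzT hz q hq, inv_inv]
    have hqF : q ∈ tiKer (T : Subgroup G) :=
      hker v (mem_sup_left hvT) (CfsgLib.Invol.invol_ne_one hv) q hvq.symm
    have hgqF : g * q * g⁻¹ ∈ tiKer (T : Subgroup G) :=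
      hker q hqF hq1 _ (hcomm _ (hconj g hg q hqA) q hqA)
    have hzq : (g⁻¹ * z * g) * q = q * (g⁻¹ * z * g) := by
      calc g⁻¹ * z * g * q = g⁻¹ * (z * (g * q * g⁻¹)) * g := by group
        _ = g⁻¹ * ((g * q * g⁻¹) * z) * g := by rw [hzF _ hgqF]
        _ = q * (g⁻¹ * z * g) := by group
    have hzg : orderOf (g⁻¹ * z * g) = 2 := by
      have := CfsgLib.Invol.invol_conj hz g⁻¹
      rwa [inv_inv] at this
    have hmem := mem_of_two_normalizer (tiKer_le_normalizer _ (hker q hqF hq1 _ hzq))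
      (isPGroup_zpowers_invol hzg)
    refine mem_normalizer_of_conj hTI hmem (CfsgLib.Invol.invol_ne_one hzg) ?_
    rw [show g * (g⁻¹ * z * g) * g⁻¹ = z by group]
    exact hzT

/-- The Frobenius system. -/
theorem isPart : CfsgLib.FrobSystem.IsPart (normalizer ((T : Subgroup G) : Set G))
    (tiKer (T : Subgroup G)) where
  solv := Cfsg.Agent.S4235.isSolvable_normalizer T
  top := normalizer_maximal hTI hker hns hR
  le := tiKer_le_normalizer _
  norm := normalizer_le_normalizer_tiKer _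
  fpf := fun a _ haF x hx h => by_contra fun hx1 => haF (hker x hx hx1 a h.symm)
  ti := fun g hg x hx hgx => by
    by_contra hx1
    obtain ⟨z, hzT, hz, hzc⟩ := exists_central_invol (T := T) (two_dvd_card_of_nsolv hns)
    have hzx : z * x = x * z := by
      have h : tiKer (T : Subgroup G) ≤ centralizer ({z} : Set G) := sup_le
        (fun t ht => mem_centralizer_singleton_iff.2 (hzc t ht))
        (fun c hc => mem_centralizer_singleton_iff.2 (mem_centralizer_iff.1 hc z hzT).symm)
      exact (mem_centralizer_singleton_iff.1 (h hx)).symm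
    have hzg : (g * z * g⁻¹) * (g * x * g⁻¹) = (g * x * g⁻¹) * (g * z * g⁻¹) := by
      calc g * z * g⁻¹ * (g * x * g⁻¹) = g * (z * x) * g⁻¹ := by group
        _ = g * (x * z) * g⁻¹ := by rw [hzx]
        _ = g * x * g⁻¹ * (g * z * g⁻¹) := by group
    have hzg2 := CfsgLib.Invol.invol_conj hz g
    have hmem := mem_of_two_normalizer
      (tiKer_le_normalizer _ (hker _ hgx (fun e => hx1 (conj_eq_one_iff.1 e)) _ hzg))
      (isPGroup_zpowers_invol hzg2)
    exact hg (mem_normalizer_of_conj hTI hzT (CfsgLib.Invol.invol_ne_one hz) hmem)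
  ne := fun e => by
    haveI : Fact (Nat.Prime 2) := ⟨Nat.prime_two⟩
    obtain ⟨z, hzT, hz, -⟩ := exists_central_invol (T := T) (two_dvd_card_of_nsolv hns)
    have h : z ∈ tiKer (T : Subgroup G) := mem_sup_left hzT
    rw [e, mem_bot] at h
    exact CfsgLib.Invol.invol_ne_one hz h
  nsolv := hns

theorem sl_or_isoSuzuki :
    (∃ (K : Type) (_ : Field K) (_ : Fintype K), (∃ n : ℕ, 2 ≤ n ∧ Fintype.card K = 2 ^ n) ∧
        Nonempty (G ≃* Matrix.SpecialLinearGroup (Fin 2) K)) ∨ Cfsg.Lie.IsoSuzuki G :=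
  CfsgLib.FrobSystem.EvenPart.sl_or_isoSuzuki (T := T)
    ⟨isPart hTI hker hns hR, le_normalizer, two_dvd_card_of_nsolv hns⟩

end Kernel

/-- Over a field of characteristic two `SL₂` is `PSL₂`. -/
theorem sl_two_equiv_psl {K : Type} [Field K] [CharP K 2] :
    Nonempty (Matrix.SpecialLinearGroup (Fin 2) K ≃* Matrix.ProjectiveSpecialLinearGroup (Fin 2) K) := by
  have hc : Subgroup.center (Matrix.SpecialLinearGroup (Fin 2) K) = ⊥ := by
    refine eq_bot_iff.2 fun g hg => Subgroup.mem_bot.2 ?_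
    obtain ⟨r, hr, hrg⟩ := Matrix.SpecialLinearGroup.mem_center_iff.1 hg
    have hr1 : r = 1 := by
      have h2 : (r - 1) ^ 2 = 0 := by
        rw [Fintype.card_fin] at hr
        rw [sub_pow_char, one_pow, hr, sub_self]
      exact sub_eq_zero.1 (pow_eq_zero_iff two_ne_zero |>.1 h2)
    exact Subtype.ext (by rw [← hrg, hr1, map_one]; rfl)
  exact ⟨MulEquiv.ofBijective (QuotientGroup.mk' (Subgroup.center _))
    ⟨(MonoidHom.ker_eq_bot_iff _).1 (by rw [QuotientGroup.ker_mk', hc]),
      QuotientGroup.mk'_surjective _⟩⟩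

/-- A group isomorphic to a Suzuki group has Suzuki order. -/
theorem isSuzuki_of_isoSuzuki [IsSimpleGroup G] (h : Cfsg.Lie.IsoSuzuki G) : Cfsg.IsSuzuki G := by
  obtain ⟨F, iF, iF', m, hm, hF, ⟨e⟩⟩ := h
  obtain ⟨e'⟩ := CfsgLib.Lie.Suz.exists_twEquiv (F := F) hm hF
  refine ⟨inferInstance, m, hm, ?_⟩
  rw [Nat.card_congr e.toEquiv, ← Nat.card_congr e'.toEquiv, CfsgLib.Lie.Suz.card_Sz hm hF, hF]

end CfsgLib.CIT
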