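import Cfsg.Agent.Lib.CIT.Pair
import Cfsg.Agent.Lib.Perm.SelfCentCyc.Forward

/-!
# A simple CIT group with a self-centralizing four group

Its Sylow two-subgroup is dihedral, so the group is `PSL₂(q)` with `q` odd, and an involution
centralizer being a two-group forces `q = 9` or a prime of the form `2ᵏ ± 1`.
-/

set_option autoImplicit false
set_option linter.unusedSectionVars false
set_option linter.style.haveILetI false

namespace CfsgLib.CIT

open Subgroup

universe u

variable {G : Type u} [Group G] [Finite G]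

/-- An element commuting with an involution has two-power order. -/
theorem IsCIT.isPGroup_centralizer_invol (hc : IsCIT G) {t : G} (ht : orderOf t = 2) :
    IsPGroup 2 (centralizer ({t} : Set G)) :=
  hc.isPGroup_centralizer_mem (P := zpowers t)
    (IsPGroup.of_card (n := 1) (by rw [Nat.card_zpowers, ht, pow_one])) (mem_zpowers t)
    (CfsgLib.Invol.invol_ne_one ht)

/-- The possible odd fields for a CIT group `PSL₂(q)`. -/
theorem psl_card_cases (hc : IsCIT G) {F : Type} [Field F] [Fintype F] (hodd : Odd (Fintype.card F))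
    (e : G ≃* Matrix.ProjectiveSpecialLinearGroup (Fin 2) F) :
    Fintype.card F = 9 ∨
      ((Fintype.card F).Prime ∧ ∃ k : ℕ, Fintype.card F = 2 ^ k + 1 ∨ Fintype.card F + 1 = 2 ^ k) := by
  classical
  obtain ⟨p, hpc⟩ := CharP.exists F
  obtain ⟨f, hp, hf⟩ := FiniteField.card F p
  have ho : Fintype.card F % 2 = 1 := Nat.odd_iff.1 hodd
  set q := Fintype.card F with hq
  have hq3 : 3 ≤ q := by
    have := Fintype.one_lt_card (α := F)
    omega
  have key : ∀ m : ℕ, Even m → (∃ g : Matrix.ProjectiveSpecialLinearGroup (Fin 2) F, orderOf g = m) →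
      ∃ j : ℕ, m = 2 ^ j := by
    rintro m hme ⟨g, hg⟩
    haveI : Fact (Nat.Prime 2) := ⟨Nat.prime_two⟩
    set h := e.symm g with hh
    have hho : orderOf h = m := by rw [hh, e.symm.orderOf_eq, hg]
    have h2 : 2 ∣ orderOf h := hho ▸ hme.two_dvd
    have ht : orderOf (h ^ (orderOf h / 2)) = 2 := orderOf_pow_orderOf_div (orderOf_pos h).ne' h2
    obtain ⟨j, hj⟩ := hc.isPGroup_centralizer_invol ht
      ⟨h, mem_centralizer_singleton_iff.2 ((Commute.refl h).pow_right _).eq⟩
    have hj' : h ^ 2 ^ j = 1 := congrArg Subtype.val hj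
    obtain ⟨i, -, hi⟩ := (Nat.dvd_prime_pow Nat.prime_two).1 (orderOf_dvd_of_pow_eq_one hj')
    exact ⟨i, hho ▸ hi⟩
  haveI : Fact p.Prime := ⟨hp⟩
  have hf' : q = p ^ (f : ℕ) := hf
  have hp2 : p ≠ 2 := fun h => by
    rw [hf', h] at ho
    have : 2 ∣ 2 ^ (f : ℕ) := dvd_pow_self 2 f.ne_zero
    omega
  rcases Nat.even_or_odd ((q - 1) / 2) with hev | hev
  · obtain ⟨a, ha⟩ := CfsgLib.Classical.PSL2Spectrum.exists_order_sub_one (F := F)
    obtain ⟨j, hj⟩ := key _ hev ⟨_, CfsgLib.Classical.PSL2Spectrum.orderOf_π_half ho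
      (show orderOf a = 2 * ((q - 1) / 2) by omega)⟩
    have hk : p ^ (f : ℕ) = 2 ^ (j + 1) + 1 := by rw [← hf', pow_succ]; omega
    rcases CfsgLib.Char.HalfLinear.exp_one_of_sub_one (hp.odd_of_ne_two hp2) f.pos hk with h1 | ⟨h1, h2⟩
    · exact Or.inr ⟨by rw [hf', h1, pow_one]; exact hp, j + 1, Or.inl (by rw [hf', hk])⟩
    · exact Or.inl (by rw [hf', h1, h2]; norm_num)
  · have hev' : Even ((q + 1) / 2) := by
      rcases hev with ⟨c, hc⟩
      exact ⟨c + 1, by omega⟩
    obtain ⟨a, ha⟩ := CfsgLib.Classical.PSL2Spectrum.exists_order_add_one (F := F)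
    obtain ⟨j, hj⟩ := key _ hev' ⟨_, CfsgLib.Classical.PSL2Spectrum.orderOf_π_half ho
      (show orderOf a = 2 * ((q + 1) / 2) by omega)⟩
    have hk : p ^ (f : ℕ) + 1 = 2 ^ (j + 1) := by rw [← hf', pow_succ]; omega
    have h1 := CfsgLib.Char.HalfLinear.exp_one_of_add_one (hp.odd_of_ne_two hp2) f.pos hk
    exact Or.inr ⟨by rw [hf', h1, pow_one]; exact hp, j + 1, Or.inr (by rw [hf', hk])⟩

/-- A simple CIT group with a self-centralizing four group is a two-dimensional projective special
linear group in odd characteristic. -/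
theorem psl_of_four [IsSimpleGroup G] (hna : ¬ IsMulCommutative G) (hc : IsCIT G) {t s : G}
    (ht : orderOf t = 2) (hs : orderOf s = 2) (hts : Commute t s) (hne : s ≠ t)
    (hfour : ∀ x : G, Commute x t → Commute x s → x = 1 ∨ x = t ∨ x = s ∨ x = t * s) :
    ∃ (F : Type) (_ : Field F) (_ : Fintype F),
      (Fintype.card F = 9 ∨
        ((Fintype.card F).Prime ∧ ∃ k : ℕ, Fintype.card F = 2 ^ k + 1 ∨ Fintype.card F + 1 = 2 ^ k)) ∧
      Nonempty (G ≃* Matrix.ProjectiveSpecialLinearGroup (Fin 2) F) := by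
  haveI : Fact (Nat.Prime 2) := ⟨Nat.prime_two⟩
  suffices h : ∃ (F : Type) (_ : Field F) (_ : Fintype F),
      Odd (Fintype.card F) ∧ Nonempty (G ≃* Matrix.ProjectiveSpecialLinearGroup (Fin 2) F) by
    obtain ⟨F, iF, iF', hodd, ⟨e⟩⟩ := h
    exact ⟨F, iF, iF', psl_card_cases hc hodd e, ⟨e⟩⟩
  -- a Sylow subgroup containing the four group
  have h4 : IsPGroup 2 (zpowers t ⊔ zpowers s : Subgroup G) := by
    refine (IsPGroup.of_card (n := 1) (by rw [Nat.card_zpowers, ht, pow_one])).to_sup_of_normal_left'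
      (IsPGroup.of_card (n := 1) (by rw [Nat.card_zpowers, hs, pow_one])) (zpowers_le.2 ?_)
    refine cj_eq_self_iff.1 ?_
    rw [cj, MonoidHom.map_zpowers]
    refine congrArg zpowers ?_
    show s * t * s⁻¹ = t
    rw [← hts.eq, mul_inv_cancel_right]
  obtain ⟨S, hle⟩ := h4.exists_le_sylow
  have htS : t ∈ (S : Subgroup G) := hle (mem_sup_left (mem_zpowers t))
  have hsS : s ∈ (S : Subgroup G) := hle (mem_sup_right (mem_zpowers s))
  -- a central involution
  haveI : Nontrivial (S : Subgroup G) :=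
    ⟨⟨⟨t, htS⟩, 1, fun e => CfsgLib.Invol.invol_ne_one ht (congrArg Subtype.val e)⟩⟩
  haveI := S.isPGroup'.center_nontrivial
  obtain ⟨k, hk, e⟩ := (S.isPGroup'.to_subgroup (Subgroup.center (S : Subgroup G))).nontrivial_iff_card.1
    inferInstance
  obtain ⟨z, hz⟩ := exists_prime_orderOf_dvd_card' (G := Subgroup.center (S : Subgroup G)) 2
    (e ▸ dvd_pow_self 2 hk.ne')
  set t₀ : G := ((z : (S : Subgroup G)) : G) with ht₀def
  have ht₀ : orderOf t₀ = 2 := by rw [ht₀def, Subgroup.orderOf_coe, Subgroup.orderOf_coe, hz]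
  have ht₀S : t₀ ∈ (S : Subgroup G) := SetLike.coe_mem _
  have ht₀Z : ∀ x ∈ (S : Subgroup G), x * t₀ = t₀ * x := fun x hx =>
    congrArg Subtype.val (mem_center_iff.1 z.2 ⟨x, hx⟩)
  have hC2 := hc.isPGroup_centralizer_invol ht₀
  have htype := CfsgLib.Perm.SelfCentCyc.two_type S.isPGroup' (t := ⟨t, htS⟩) (s := ⟨s, hsS⟩)
    (by rw [← Subgroup.orderOf_coe]; exact ht) (by rw [← Subgroup.orderOf_coe]; exact hs)
    (Subtype.ext hts.eq) (fun h => hne (congrArg Subtype.val h)) fun x h1 h2 => by
      rcases hfour (x : G) (congrArg Subtype.val h1.eq) (congrArg Subtype.val h2.eq) with h | h | h | h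
      · exact Or.inl (Subtype.ext h)
      · exact Or.inr (Or.inl (Subtype.ext h))
      · exact Or.inr (Or.inr (Or.inl (Subtype.ext h)))
      · exact Or.inr (Or.inr (Or.inr (Subtype.ext h)))
  have hdih : ∀ n : ℕ, 2 ≤ n → Nonempty ((S : Subgroup G) ≃* DihedralGroup n) →
      ∃ (F : Type) (_ : Field F) (_ : Fintype F),
        Odd (Fintype.card F) ∧ Nonempty (G ≃* Matrix.ProjectiveSpecialLinearGroup (Fin 2) F) := by
    intro n hn hS
    set O := (Cfsg.oddCore (Subgroup.centralizer ({t₀} : Set G))).map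
      (Subgroup.centralizer ({t₀} : Set G)).subtype with hO
    have hbot : O = ⊥ := by
      rw [hO, Subgroup.map_eq_bot_iff_of_injective _ (Subgroup.subtype_injective _)]
      obtain ⟨j, hj⟩ := (hC2.to_subgroup (Cfsg.oddCore (Subgroup.centralizer ({t₀} : Set G)))).exists_card_eq
      have h1 := CfsgLib.Coprime.pPrimeCore_coprime (G := Subgroup.centralizer ({t₀} : Set G)) Nat.prime_two
      rcases j with _ | j
      · exact card_eq_one.1 (by rw [hj, pow_zero])
      · exfalso
        unfold Cfsg.oddCore at hj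
        rw [hj] at h1
        exact (Nat.prime_two.coprime_iff_not_dvd).1 h1.symm (dvd_pow_self 2 (Nat.succ_ne_zero j))
    refine Cfsg.Agent.S0508.result S n hn hS t₀ ht₀ ht₀S ht₀Z O hO (fun h => absurd hbot h) ?_ ?_
    · intro x _ hx
      exact absurd (mem_centralizer_iff.2 fun y hy => by
        rw [hbot, coe_bot, Set.mem_singleton_iff] at hy
        rw [hy, one_mul, mul_one]) hx
    · intro Y hY hY1
      exact absurd (le_bot_iff.1 (hbot ▸ hY)) hY1
  rcases htype with h4 | ⟨n, hn, hS⟩ | hQ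
  · refine hdih 2 le_rfl ?_
    have ht' : orderOf (⟨t, htS⟩ : (S : Subgroup G)) = 2 := by rw [← Subgroup.orderOf_coe]; exact ht
    have hs' : orderOf (⟨s, hsS⟩ : (S : Subgroup G)) = 2 := by rw [← Subgroup.orderOf_coe]; exact hs
    have hc' : Commute (⟨t, htS⟩ : (S : Subgroup G)) ⟨s, hsS⟩ := Subtype.ext hts.eq
    haveI : IsKleinFour (S : Subgroup G) := by
      refine ⟨h4, ?_⟩
      have h1 : Monoid.exponent (S : Subgroup G) ∣ 2 := Monoid.exponent_dvd_of_forall_pow_eq_one fun x => by
        rw [pow_two]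
        rcases CfsgLib.Perm.SelfCentCyc.four_list h4 ht' hs' hc' (fun h => hne (congrArg Subtype.val h)) x
          with h | h | h | h <;> rw [h]
        · exact one_mul 1
        · exact CfsgLib.Perm.SelfCentCyc.sq_one ht'
        · exact CfsgLib.Perm.SelfCentCyc.sq_one hs'
        · rw [← pow_two, hc'.mul_pow, pow_two, pow_two, CfsgLib.Perm.SelfCentCyc.sq_one ht',
            CfsgLib.Perm.SelfCentCyc.sq_one hs', one_mul]
      rcases (Nat.dvd_prime Nat.prime_two).1 h1 with h | h
      · exfalso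
        have := Monoid.exp_eq_one_iff.1 h
        exact not_nontrivial (S : Subgroup G) inferInstance
      · exact h
    exact IsKleinFour.nonempty_mulEquiv
  · exact hdih n (by omega) hS
  · exfalso
    obtain ⟨k, a, b, hk, -, Q⟩ := CfsgLib.Invol.exists_qdFrame hQ
    by_cases h4 : CfsgLib.Invol.FusedFour a b ((2 : ℤ) ^ (k - 2))
    · obtain ⟨i, hi, hconj⟩ := h4
      obtain ⟨g, hg⟩ := isConj_iff.1 hconj
      set T := CfsgLib.Invol.rotG a (2 * (2 : ℤ) ^ (k - 2)) with hT
      have hgT : g * T * g⁻¹ = T := by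
        calc g * T * g⁻¹ = (g * CfsgLib.Invol.refG a b i * g⁻¹) * (g * CfsgLib.Invol.refG a b i * g⁻¹) := by
              rw [hT, ← Q.sq_refG_odd hi]; group
          _ = T := by rw [hg, CfsgLib.Invol.QDFrame.sq_quarter]
      have hgC : g ∈ centralizer ({T} : Set G) :=
        mem_centralizer_singleton_iff.2 (mul_inv_eq_iff_eq_mul.1 hgT)
      have hST : (S : Subgroup G) ≤ centralizer ({T} : Set G) := fun x hx =>
        mem_centralizer_singleton_iff.2 (Q.commute_center hx)
      have hTS : centralizer ({T} : Set G) = (S : Subgroup G) :=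
        S.is_maximal' (hc.isPGroup_centralizer_invol Q.orderOf_centerG) hST
      have hgS : g⁻¹ ∈ (S : Subgroup G) := inv_mem (hTS.le hgC)
      have hr : g⁻¹ * CfsgLib.Invol.rotG a ((2 : ℤ) ^ (k - 2)) * g⁻¹⁻¹ = CfsgLib.Invol.refG a b i := by
        rw [← hg]; group
      rcases Q.conj_quarterG hgS with e | e <;> rw [hr] at e <;>
        exact Q.rotG_ne_refG _ _ e.symm
    · obtain ⟨H, hH, -⟩ := Q.exists_index_two_four h4
      rcases (Subgroup.normal_of_index_eq_two hH).eq_bot_or_eq_top with h | h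
      · rw [h, index_bot] at hH
        exact hna (isMulCommutative_iff.2 (by
          haveI : IsCyclic G := isCyclic_of_prime_card hH
          letI : CommGroup G := IsCyclic.commGroup
          exact mul_comm))
      · rw [h, index_top] at hH; omega

/-- The parameter two. -/
theorem Pair.iso_psl_odd [IsSimpleGroup G] (hna : ¬ IsMulCommutative G) {E F U : Subgroup G}
    (p : Pair E F U 2) :
    ∃ (K : Type) (_ : Field K) (_ : Fintype K),
      (Fintype.card K = 9 ∨
        ((Fintype.card K).Prime ∧ ∃ k : ℕ, Fintype.card K = 2 ^ k + 1 ∨ Fintype.card K + 1 = 2 ^ k)) ∧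
      Nonempty (G ≃* Matrix.ProjectiveSpecialLinearGroup (Fin 2) K) := by
  classical
  haveI := Fintype.ofFinite G
  have h4 : Nat.card E = 4 := p.offE.card
  obtain ⟨⟨t, htE⟩, ht1⟩ := Subgroup.ne_bot_iff_exists_ne_one.1 p.offE.sp.ne
  have ht1' : t ≠ 1 := fun e => ht1 (Subtype.ext e)
  have ho : ∀ x ∈ E, x ≠ 1 → orderOf x = 2 := fun x hx hx1 =>
    orderOf_eq_prime (by rw [pow_two]; exact p.offE.sp.sq x hx) hx1
  obtain ⟨s, hsE, hs⟩ : ∃ s ∈ E, s ∉ ({1, t} : Finset G) := by
    by_contra hno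
    push Not at hno
    have h := Finset.card_le_card (s := Finset.univ.filter fun x => x ∈ E) (t := ({1, t} : Finset G))
      fun x hx => hno x (Finset.mem_filter.1 hx).2
    rw [← Fintype.card_subtype, ← Nat.card_eq_fintype_card, Finset.card_pair ht1'.symm] at h
    have h' : Nat.card E ≤ 2 := h
    omega
  simp only [Finset.mem_insert, Finset.mem_singleton, not_or] at hs
  refine psl_of_four hna p.cit (ho t htE ht1') (ho s hsE hs.1) (p.offE.sp.comm t htE s hsE) hs.2
    fun x hxt hxs => ?_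
  have hall : ∀ e ∈ E, e = 1 ∨ e = t ∨ e = s ∨ e = t * s := by
    have hts1 : t * s ≠ 1 := fun h => hs.2 (by
      calc s = t * t * s := by rw [p.offE.sp.sq t htE, one_mul]
        _ = t * (t * s) := mul_assoc _ _ _
        _ = t := by rw [h, mul_one])
    have hts2 : t * s ≠ t := fun h => hs.1 (mul_eq_left.1 h)
    have hts3 : t * s ≠ s := fun h => ht1' (mul_eq_right.1 h)
    have hsub : ({1, t, s, t * s} : Finset G) ⊆ Finset.univ.filter fun x => x ∈ E := by
      intro y hy
      simp only [Finset.mem_insert, Finset.mem_singleton] at hy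
      refine Finset.mem_filter.2 ⟨Finset.mem_univ _, ?_⟩
      rcases hy with rfl | rfl | rfl | rfl
      exacts [one_mem E, htE, hsE, mul_mem htE hsE]
    have he := Finset.eq_of_subset_of_card_le hsub (by
      rw [← Fintype.card_subtype, ← Nat.card_eq_fintype_card,
        Finset.card_insert_of_notMem (by simp [ht1'.symm, Ne.symm hs.1, hts1.symm]),
        Finset.card_insert_of_notMem (by simp [Ne.symm hs.2, hts2.symm]),
        Finset.card_pair hts3.symm]
      exact h4.le)
    intro e he'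
    have : e ∈ ({1, t, s, t * s} : Finset G) := he ▸ Finset.mem_filter.2 ⟨Finset.mem_univ _, he'⟩
    simpa using this
  refine hall x (p.offE.sp.rad.centralizer_le p.cit (mem_centralizer_iff.2 fun e he => ?_))
  rcases hall e he with rfl | rfl | rfl | rfl
  · rw [one_mul, mul_one]
  · exact hxt.eq.symm
  · exact hxs.eq.symm
  · exact (hxt.mul_right hxs).eq.symm

end CfsgLib.CIT
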