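import Cfsg.Agent.Lib.CIT.Plane
import Cfsg.Agent.Lib.CIT.Dihedral
import Cfsg.Agent.Lib.CIT.TI

/-!
# Classification of the simple CIT groups
-/

set_option autoImplicit false
set_option linter.unusedSectionVars false
set_option linter.style.haveILetI false

namespace CfsgLib.CIT

open Subgroup

universe u

variable {G : Type u} [Group G] [Finite G]

/-- Maximal two-subgroups are Sylow subgroups. -/
def IsSyl.sylowTop {T : Subgroup G} (hT : IsSyl ⊤ T) : Sylow 2 G :=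
  ⟨T, hT.2.1, fun {Q} hQ hle => hT.2.2 Q hle le_top hQ⟩

theorem Sylow.isSylTop (T : Sylow 2 G) : IsSyl ⊤ (T : Subgroup G) :=
  ⟨le_top, T.2, fun _ hle _ hV => T.is_maximal' hV hle⟩

theorem noCore_of_simple [IsSimpleGroup G] (hna : ¬ IsMulCommutative G) : NoCore G := by
  haveI : Fact (Nat.Prime 2) := ⟨Nat.prime_two⟩
  haveI := CfsgLib.Coprime.pCore_normal' (G := G) 2
  refine noCore_of_pCore ((inferInstance : (Cfsg.pCore 2 G).Normal).eq_bot_or_eq_top.resolve_right fun e => ?_)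
  have h : IsPGroup 2 (⊤ : Subgroup G) := e ▸ CfsgLib.Coprime.pCore_isPGroup 2
  have hG : IsPGroup 2 G := h.of_equiv Subgroup.topEquiv
  haveI := hG.isNilpotent
  exact hna (isMulCommutative_iff.2 (IsSimpleGroup.comm_iff_isSolvable.2 inferInstance))

theorem index_ne_two_of_simple [IsSimpleGroup G] (hna : ¬ IsMulCommutative G) (M : Subgroup G)
    (hM : M.Normal) : M.index ≠ 2 := by
  intro h2
  rcases hM.eq_bot_or_eq_top with h | h
  · rw [h, index_bot] at h2
    exact hna (isMulCommutative_iff.2 (by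
      haveI : IsCyclic G := isCyclic_of_prime_card h2
      letI : CommGroup G := IsCyclic.commGroup
      exact mul_comm))
  · rw [h, index_top] at h2
    omega

/-- TI in terms of conjugation. -/
theorem ti_conj (T : Sylow 2 G)
    (hTI : ∀ S S' : Subgroup G, IsSyl ⊤ S → IsSyl ⊤ S' → S ⊓ S' ≠ ⊥ → S = S') (g : G)
    (hg : g ∉ normalizer ((T : Subgroup G) : Set G)) (x : G) (hx : x ∈ (T : Subgroup G))
    (hgx : g * x * g⁻¹ ∈ (T : Subgroup G)) : x = 1 := by
  by_contra hx1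
  refine hg (cj_eq_self_iff.1 (hTI _ _ ((Sylow.isSylTop T).cj_top g) (Sylow.isSylTop T) fun e => ?_))
  have h : g * x * g⁻¹ ∈ cj g (T : Subgroup G) ⊓ (T : Subgroup G) := ⟨conj_mem_cj.2 hx, hgx⟩
  rw [e, mem_bot] at h
  exact hx1 (conj_eq_one_iff.1 h)

/-- In a CIT group the centralizer of an element of a TI Sylow subgroup lies in it. -/
theorem ker_of_cit (hc : IsCIT G) (T : Sylow 2 G) (h2 : 2 ∣ Nat.card G)
    (hTI : ∀ S S' : Subgroup G, IsSyl ⊤ S → IsSyl ⊤ S' → S ⊓ S' ≠ ⊥ → S = S') :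
    ∀ x ∈ tiKer (T : Subgroup G), x ≠ 1 → ∀ c : G, c * x = x * c → c ∈ tiKer (T : Subgroup G) := by
  obtain ⟨z, hzT, hz, -⟩ := exists_central_invol (T := T) h2
  have hcT : centralizer ((T : Subgroup G) : Set G) ≤ (T : Subgroup G) := by
    intro y hy
    obtain ⟨S, hS, hle⟩ := exists_syl_top (Q := centralizer ({z} : Set G))
      (hc.isPGroup_centralizer_mem T.2 hzT (CfsgLib.Invol.invol_ne_one hz))
    have hzS : z ∈ S := hle (mem_centralizer_singleton_iff.2 rfl)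
    have hST : S = (T : Subgroup G) := hTI S T hS (Sylow.isSylTop T) fun e => by
      have h : z ∈ S ⊓ (T : Subgroup G) := ⟨hzS, hzT⟩
      rw [e, mem_bot] at h
      exact CfsgLib.Invol.invol_ne_one hz h
    exact hST ▸ hle (mem_centralizer_singleton_iff.2 (mem_centralizer_iff.1 hy z hzT).symm)
  have hF : tiKer (T : Subgroup G) = (T : Subgroup G) := sup_eq_left.2 hcT
  rw [hF]
  intro x hx hx1 c hcx
  obtain ⟨S, hS, hle⟩ := exists_syl_top (Q := centralizer ({x} : Set G))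
    (hc.isPGroup_centralizer_mem T.2 hx hx1)
  have hST : S = (T : Subgroup G) := hTI S T hS (Sylow.isSylTop T) fun e => by
    have h : x ∈ S ⊓ (T : Subgroup G) := ⟨hle (mem_centralizer_singleton_iff.2 rfl), hx⟩
    rw [e, mem_bot] at h
    exact hx1 h
  exact hST ▸ hle (mem_centralizer_singleton_iff.2 hcx)

/-- The conclusion in the TI case. -/
theorem ti_classification [IsSimpleGroup G] (hna : ¬ IsMulCommutative G) (T : Sylow 2 G)
    (hTI : ∀ g : G, g ∉ normalizer ((T : Subgroup G) : Set G) → ∀ x ∈ (T : Subgroup G),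
      g * x * g⁻¹ ∈ (T : Subgroup G) → x = 1)
    (hker : ∀ x ∈ tiKer (T : Subgroup G), x ≠ 1 → ∀ c : G, c * x = x * c → c ∈ tiKer (T : Subgroup G)) :
    (∃ (K : Type) (_ : Field K) (_ : Fintype K), (∃ n : ℕ, 2 ≤ n ∧ Fintype.card K = 2 ^ n) ∧
        Nonempty (G ≃* Matrix.ProjectiveSpecialLinearGroup (Fin 2) K)) ∨ Cfsg.Lie.IsoSuzuki G := by
  rcases sl_or_isoSuzuki hTI hker (nsolv_of_simple hna) (noSolv_of_simple hna) with ⟨K, iK, iK', ⟨n, hn, hK⟩, ⟨e⟩⟩ | h
  · haveI : CharP K 2 := CfsgLib.Classical.PSL2Spectrum.char_two_of_dvd (hK ▸ dvd_pow_self 2 (by omega))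
    obtain ⟨e'⟩ := sl_two_equiv_psl (K := K)
    exact Or.inl ⟨K, iK, iK', ⟨n, hn, hK⟩, ⟨e.trans e'⟩⟩
  · exact Or.inr h

/-- The simple CIT groups, with the Suzuki groups up to isomorphism. -/
theorem simple_cases [IsSimpleGroup G] (hna : ¬ IsMulCommutative G) (hc : IsCIT G) :
    (∃ (K : Type) (_ : Field K) (_ : Fintype K),
      (Fintype.card K = 9 ∨ (∃ n : ℕ, 2 ≤ n ∧ Fintype.card K = 2 ^ n) ∨
        ((Fintype.card K).Prime ∧ ∃ k : ℕ, Fintype.card K = 2 ^ k + 1 ∨ Fintype.card K + 1 = 2 ^ k)) ∧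
      Nonempty (G ≃* Matrix.ProjectiveSpecialLinearGroup (Fin 2) K)) ∨
    (∃ (K : Type) (_ : Field K) (_ : Fintype K), Fintype.card K = 4 ∧
        Nonempty (G ≃* Matrix.ProjectiveSpecialLinearGroup (Fin 3) K)) ∨
    Cfsg.Lie.IsoSuzuki G := by
  have hO := noCore_of_simple hna
  by_cases hTI : ∀ S S' : Subgroup G, IsSyl ⊤ S → IsSyl ⊤ S' → S ⊓ S' ≠ ⊥ → S = S'
  · obtain ⟨T⟩ : Nonempty (Sylow 2 G) := inferInstance
    rcases ti_classification hna T (ti_conj T hTI) (ker_of_cit hc T (two_dvd_card_of_simple hna) hTI) with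
      ⟨K, iK, iK', h, e⟩ | h
    · exact Or.inl ⟨K, iK, iK', Or.inr (Or.inl h), e⟩
    · exact Or.inr (Or.inr h)
  · push Not at hTI
    obtain ⟨S, S', hS, hS', h, hne⟩ := hTI
    obtain ⟨E, F, U, q, p⟩ := exists_pair hc hO hS hS' h hne
    rcases p.two_or_four with rfl | rfl
    · obtain ⟨K, iK, iK', h, e⟩ := p.iso_psl_odd hna
      exact Or.inl ⟨K, iK, iK', h.imp_right Or.inr, e⟩
    · exact Or.inr (Or.inl (p.iso_psl_three_four
        (p.syl_top_of_four rfl (index_ne_two_of_simple hna)) hO))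

end CfsgLib.CIT
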