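import Mathlib
import Cfsg.Prelude.Def_Solvable
import Cfsg.Agent.Lib.Invol.InvertedOdd
import Cfsg.Agent.S4006

/-!
# Groups in which every centralizer of an involution is a 2-group (CIT groups)

`IsCIT G`: no nontrivial element of odd order commutes with an involution.  The property passes to
subgroups and to quotients by normal 2-subgroups; involutions of such a quotient inverting an element
of odd order lift to involutions; a 2-subgroup with a fixed-point-free operator of order three has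
class at most two.
-/

set_option autoImplicit false
set_option linter.unusedSectionVars false
set_option linter.style.haveILetI false

open scoped commutatorElement

namespace CfsgLib.CIT

open Subgroup

universe u

variable {G : Type u} [Group G]

/-- No nontrivial element of odd order commutes with an involution. -/
def IsCIT (G : Type u) [Group G] : Prop :=
  ∀ t y : G, orderOf t = 2 → Odd (orderOf y) → y * t = t * y → y = 1

/-- The conjugate `g H g⁻¹`. -/
def cj (g : G) (H : Subgroup G) : Subgroup G := H.map (MulAut.conj g).toMonoidHom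

theorem mem_cj {g x : G} {H : Subgroup G} : x ∈ cj g H ↔ g⁻¹ * x * g ∈ H := by
  rw [cj, mem_map_equiv, MulAut.conj_symm_apply]

theorem conj_mem_cj {g x : G} {H : Subgroup G} : g * x * g⁻¹ ∈ cj g H ↔ x ∈ H := by
  rw [mem_cj, show g⁻¹ * (g * x * g⁻¹) * g = x by group]

theorem cj_mul (g h : G) (H : Subgroup G) : cj g (cj h H) = cj (g * h) H := by
  ext w; simp only [mem_cj, mul_inv_rev, mul_assoc]

theorem cj_one (H : Subgroup G) : cj 1 H = H := by
  ext w; simp [mem_cj]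

theorem cj_mono {g : G} {H K : Subgroup G} (h : H ≤ K) : cj g H ≤ cj g K := map_mono h

theorem cj_le_iff {g : G} {H K : Subgroup G} : cj g H ≤ K ↔ H ≤ cj g⁻¹ K :=
  ⟨fun h => by simpa [cj_mul, cj_one] using cj_mono (g := g⁻¹) h,
    fun h => by simpa [cj_mul, cj_one] using cj_mono (g := g) h⟩

theorem card_cj (g : G) (H : Subgroup G) : Nat.card (cj g H) = Nat.card H :=
  (Nat.card_congr (H.equivMapOfInjective _ (MulAut.conj g).injective).toEquiv).symm

theorem cj_eq_self_iff {g : G} {H : Subgroup G} : cj g H = H ↔ g ∈ normalizer (H : Set G) := by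
  rw [mem_normalizer_iff]
  refine ⟨fun h x => ⟨fun hx => ?_, fun hx => ?_⟩, fun h => ?_⟩
  · rw [← h]; exact conj_mem_cj.2 hx
  · rw [← h] at hx; exact conj_mem_cj.1 hx
  · ext x
    rw [mem_cj, h (g⁻¹ * x * g), show g * (g⁻¹ * x * g) * g⁻¹ = x by group]

theorem isPGroup_cj {p : ℕ} {g : G} {H : Subgroup G} (h : IsPGroup p H) : IsPGroup p (cj g H) :=
  h.map _

/-- Some power with two-power exponent has odd order. -/
theorem exists_pow_odd [Finite G] (c : G) : ∃ k : ℕ, Odd (orderOf (c ^ 2 ^ k)) := by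
  refine ⟨(orderOf c).factorization 2, ?_⟩
  rw [orderOf_pow' c (pow_ne_zero _ two_ne_zero),
    Nat.gcd_eq_right (Nat.ordProj_dvd _ _), Nat.odd_iff]
  have := Nat.not_dvd_ordCompl Nat.prime_two (orderOf_pos c).ne'
  omega

theorem orderOf_two_pow {P : Subgroup G} (hP : IsPGroup 2 P) {x : G} (hx : x ∈ P) :
    ∃ k : ℕ, orderOf x = 2 ^ k := by
  haveI : Fact (Nat.Prime 2) := ⟨Nat.prime_two⟩
  obtain ⟨k, hk⟩ := IsPGroup.iff_orderOf.1 hP ⟨x, hx⟩
  exact ⟨k, by rw [← hk, Subgroup.orderOf_mk]⟩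

theorem eq_one_of_two_of_odd {P : Subgroup G} (hP : IsPGroup 2 P) {x : G} (hx : x ∈ P)
    (ho : Odd (orderOf x)) : x = 1 := by
  obtain ⟨k, hk⟩ := orderOf_two_pow hP hx
  rcases Nat.eq_zero_or_pos k with rfl | hk'
  · exact orderOf_eq_one_iff.1 (by simpa using hk)
  · rw [hk, Nat.odd_iff, Nat.pow_mod, Nat.mod_self, zero_pow hk'.ne'] at ho
    simp at ho

theorem odd_orderOf_map {H : Type*} [Group H] (f : G →* H) {x : G} (h : Odd (orderOf x)) :
    Odd (orderOf (f x)) :=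
  h.of_dvd_nat (orderOf_map_dvd f x)

theorem orderOf_conj_eq (g y : G) : orderOf (g * y * g⁻¹) = orderOf y :=
  (MulAut.conj g).orderOf_eq y

/-- The usual formulation. -/
theorem isCIT_of_isPGroup [Finite G]
    (h : ∀ t : G, orderOf t = 2 → IsPGroup 2 (centralizer ({t} : Set G))) : IsCIT G :=
  fun t _ ht hy hc => eq_one_of_two_of_odd (h t ht) (mem_centralizer_singleton_iff.2 hc) hy

theorem IsCIT.subgroup (hc : IsCIT G) (H : Subgroup G) : IsCIT H := by
  intro t y ht hy h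
  exact Subtype.ext (hc t y (by rwa [orderOf_coe]) (by rwa [orderOf_coe]) (congrArg Subtype.val h))

variable [Finite G]

/-- An element of odd order commuting with a nontrivial 2-element is trivial. -/
theorem IsCIT.comm_two (hc : IsCIT G) {P : Subgroup G} (hP : IsPGroup 2 P) {x y : G} (hx : x ∈ P)
    (hx1 : x ≠ 1) (hy : Odd (orderOf y)) (h : y * x = x * y) : y = 1 := by
  obtain ⟨k, hk⟩ := orderOf_two_pow hP hx
  have h2 : 2 ∣ orderOf x := by
    rw [hk]
    refine dvd_pow_self 2 fun e => hx1 (orderOf_eq_one_iff.1 ?_)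
    rw [hk, e, pow_zero]
  exact hc _ y (orderOf_pow_orderOf_div (orderOf_pos x).ne' h2) hy
    ((show Commute y x from h).pow_right _).eq

/-- Odd elements act fixed point freely on 2-subgroups. -/
theorem IsCIT.fpf (hc : IsCIT G) {P : Subgroup G} (hP : IsPGroup 2 P) {x y : G} (hx : x ∈ P)
    (hy : Odd (orderOf y)) (hy1 : y ≠ 1) (h : y * x = x * y) : x = 1 :=
  by_contra fun hx1 => hy1 (hc.comm_two hP hx hx1 hy h)

theorem IsCIT.isPGroup_centralizer_mem (hc : IsCIT G) {P : Subgroup G} (hP : IsPGroup 2 P) {x : G}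
    (hx : x ∈ P) (hx1 : x ≠ 1) : IsPGroup 2 (centralizer ({x} : Set G)) := by
  intro c
  obtain ⟨k, hk⟩ := exists_pow_odd (c : G)
  refine ⟨k, Subtype.ext ?_⟩
  rw [Subgroup.coe_pow, Subgroup.coe_one]
  exact hc.comm_two hP hx hx1 hk
    ((show Commute (c : G) x from mem_centralizer_singleton_iff.1 c.2).pow_left _).eq

theorem IsCIT.isPGroup_centralizer (hc : IsCIT G) {P : Subgroup G} (hP : IsPGroup 2 P) (hne : P ≠ ⊥) :
    IsPGroup 2 (centralizer (P : Set G)) := by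
  obtain ⟨⟨x, hx⟩, hx1⟩ := ne_bot_iff_exists_ne_one.1 hne
  exact (hc.isPGroup_centralizer_mem hP hx fun e => hx1 (Subtype.ext e)).to_le
    (centralizer_le (Set.singleton_subset_iff.2 hx))

/-- Conjugation by a nontrivial odd element has every coset element as a twisted conjugate. -/
theorem IsCIT.exists_conj_eq (hc : IsCIT G) {N : Subgroup G} [N.Normal] (hN : IsPGroup 2 N) {y u : G}
    (hy : Odd (orderOf y)) (hy1 : y ≠ 1) (h : u * y⁻¹ ∈ N) : ∃ d ∈ N, d * y * d⁻¹ = u := by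
  let f : N → N := fun d => ⟨(d : G) * y * (d : G)⁻¹ * y⁻¹, by
    rw [show (d : G) * y * (d : G)⁻¹ * y⁻¹ = d * (y * (d : G)⁻¹ * y⁻¹) by group]
    exact N.mul_mem d.2 (Subgroup.Normal.conj_mem inferInstance _ (N.inv_mem d.2) y)⟩
  have hf : Function.Injective f := fun a b hab => by
    have e : (a : G) * y * (a : G)⁻¹ = b * y * (b : G)⁻¹ := mul_right_cancel (congrArg Subtype.val hab)
    refine Subtype.ext (inv_mul_eq_one.1 (hc.fpf hN (N.mul_mem (N.inv_mem b.2) a.2) hy hy1 ?_)).symm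
    calc y * ((b : G)⁻¹ * a) = (b : G)⁻¹ * ((b : G) * y * (b : G)⁻¹) * a := by group
      _ = (b : G)⁻¹ * ((a : G) * y * (a : G)⁻¹) * a := by rw [e]
      _ = (b : G)⁻¹ * a * y := by group
  obtain ⟨d, hd⟩ := (Finite.injective_iff_surjective.1 hf) ⟨_, h⟩
  exact ⟨d, d.2, mul_right_cancel (congrArg Subtype.val hd)⟩

/-- A preimage of odd order. -/
theorem exists_odd_preimage {H : Type*} [Group H] (f : G →* H) {x : G} (hx : Odd (orderOf (f x))) :
    ∃ y : G, Odd (orderOf y) ∧ f y = f x := by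
  obtain ⟨k, hk⟩ := exists_pow_odd x
  have hcop : (orderOf (f x)).Coprime (2 ^ k) :=
    Nat.Coprime.pow_right _ (Nat.coprime_two_right.2 hx)
  obtain ⟨m, hm⟩ := exists_pow_eq_self_of_coprime hcop.symm
  refine ⟨(x ^ 2 ^ k) ^ m, hk.of_dvd_nat (orderOf_pow_dvd m), ?_⟩
  rw [map_pow, map_pow]
  exact hm

theorem IsCIT.quotient (hc : IsCIT G) (N : Subgroup G) [N.Normal] (hN : IsPGroup 2 N) : IsCIT (G ⧸ N) := by
  intro tq yq ht hy h
  obtain ⟨t, rfl⟩ := QuotientGroup.mk'_surjective N tq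
  obtain ⟨y₀, rfl⟩ := QuotientGroup.mk'_surjective N yq
  obtain ⟨y, hyo, he⟩ := exists_odd_preimage _ hy
  rw [← he] at h ⊢
  by_contra hne
  have hy1 : y ≠ 1 := fun e => hne (by rw [e, map_one])
  have hmem : t * y * t⁻¹ * y⁻¹ ∈ N := by
    rw [← QuotientGroup.ker_mk' N, MonoidHom.mem_ker]
    simp only [map_mul, map_inv]
    rw [← h, mul_inv_cancel_right, mul_inv_cancel]
  obtain ⟨d, hd, e⟩ := hc.exists_conj_eq hN hyo hy1 hmem
  have hcy : Commute y (d⁻¹ * t) := by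
    show y * (d⁻¹ * t) = d⁻¹ * t * y
    calc y * (d⁻¹ * t) = d⁻¹ * (d * y * d⁻¹) * t := by group
      _ = d⁻¹ * t * y := by rw [e]; group
  have h2 : 2 ∣ orderOf (d⁻¹ * t) := by
    have h1 := orderOf_map_dvd (QuotientGroup.mk' N) (d⁻¹ * t)
    rwa [map_mul, map_inv, show QuotientGroup.mk' N d = 1 from (QuotientGroup.eq_one_iff d).2 hd, inv_one,
      one_mul, ht] at h1
  exact hy1 (hc _ y (orderOf_pow_orderOf_div (orderOf_pos _).ne' h2) hyo (hcy.pow_right _).eq)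

/-- An element inverting an odd element modulo a normal 2-subgroup gives an involution in its coset. -/
theorem IsCIT.exists_lift_inverting (hc : IsCIT G) {N : Subgroup G} [N.Normal] (hN : IsPGroup 2 N) {t x : G}
    (hx : Odd (orderOf x)) (hx1 : x ≠ 1) (ht : t ∉ N) (h2 : t * t ∈ N) (h : t * x * t⁻¹ * x ∈ N) :
    ∃ s : G, s * t⁻¹ ∈ N ∧ orderOf s = 2 ∧ s * x * s⁻¹ = x⁻¹ := by
  obtain ⟨d, hd, e⟩ := hc.exists_conj_eq hN (y := x⁻¹) (u := t * x * t⁻¹) (by rwa [orderOf_inv])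
    (inv_ne_one.2 hx1) (by rwa [inv_inv])
  have hs : (d⁻¹ * t) * x * (d⁻¹ * t)⁻¹ = x⁻¹ := by
    rw [show (d⁻¹ * t) * x * (d⁻¹ * t)⁻¹ = d⁻¹ * (t * x * t⁻¹) * d by group, ← e]
    group
  have hsN : d⁻¹ * t * (d⁻¹ * t) ∈ N := by
    rw [show d⁻¹ * t * (d⁻¹ * t) = d⁻¹ * (t * d⁻¹ * t⁻¹) * (t * t) by group]
    exact N.mul_mem (N.mul_mem (N.inv_mem hd) (Subgroup.Normal.conj_mem inferInstance _ (N.inv_mem hd) t)) h2
  refine ⟨d⁻¹ * t, by rw [mul_inv_cancel_right]; exact N.inv_mem hd,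
    orderOf_eq_prime ?_ fun e1 => ht ?_, hs⟩
  · rw [pow_two]
    refine hc.fpf hN hsN hx hx1 ?_
    set s := d⁻¹ * t
    have h1 : s * s * x * (s * s)⁻¹ = x := by
      rw [show s * s * x * (s * s)⁻¹ = s * (s * x * s⁻¹) * s⁻¹ by group, hs,
        show s * x⁻¹ * s⁻¹ = (s * x * s⁻¹)⁻¹ by group, hs, inv_inv]
    exact (mul_inv_eq_iff_eq_mul.1 h1).symm
  · rw [inv_mul_eq_one] at e1
    exact e1 ▸ hd

/-- The norm of a fixed-point-free operator of order three is trivial. -/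
theorem IsCIT.norm_eq_one (hc : IsCIT G) {N : Subgroup G} (hN : IsPGroup 2 N) {r : G} (h3 : r ^ 3 = 1)
    (hr : r ≠ 1) (hn : r ∈ normalizer (N : Set G)) {x : G} (hx : x ∈ N) :
    x * (r * x * r⁻¹) * (r⁻¹ * x * r) = 1 := by
  haveI : Fact (Nat.Prime 3) := ⟨Nat.prime_three⟩
  have hro : Odd (orderOf r) := by rw [orderOf_eq_prime h3 hr]; decide
  have hn' : ∀ y ∈ N, r * y * r⁻¹ ∈ N := fun y hy => (mem_normalizer_iff.1 hn y).1 hy
  let f : N → N := fun d => ⟨(d : G)⁻¹ * (r * d * r⁻¹), N.mul_mem (N.inv_mem d.2) (hn' _ d.2)⟩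
  have hf : Function.Injective f := fun a b hab => by
    have e : (a : G)⁻¹ * (r * a * r⁻¹) = (b : G)⁻¹ * (r * b * r⁻¹) := congrArg Subtype.val hab
    refine Subtype.ext (mul_inv_eq_one.1 (hc.fpf hN (N.mul_mem a.2 (N.inv_mem b.2)) hro hr ?_))
    calc r * ((a : G) * (b : G)⁻¹) = a * ((a : G)⁻¹ * (r * a * r⁻¹)) * ((r * b * r⁻¹))⁻¹ * r := by group
      _ = a * ((b : G)⁻¹ * (r * b * r⁻¹)) * ((r * b * r⁻¹))⁻¹ * r := by rw [e]
      _ = a * (b : G)⁻¹ * r := by group
  obtain ⟨⟨d, hd⟩, he⟩ := (Finite.injective_iff_surjective.1 hf) ⟨x, hx⟩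
  have he' : d⁻¹ * (r * d * r⁻¹) = x := congrArg Subtype.val he
  subst he'
  rw [pow_three'] at h3
  calc d⁻¹ * (r * d * r⁻¹) * (r * (d⁻¹ * (r * d * r⁻¹)) * r⁻¹) * (r⁻¹ * (d⁻¹ * (r * d * r⁻¹)) * r)
      = d⁻¹ * r * r * d * (r * r * r)⁻¹ * d⁻¹ * r * d := by group
    _ = d⁻¹ * r * r * d * d⁻¹ * r * d := by rw [h3, inv_one, mul_one]
    _ = d⁻¹ * (r * r * r) * d := by group
    _ = 1 := by rw [h3, mul_one, inv_mul_cancel]

theorem IsCIT.commute_conj (hc : IsCIT G) {N : Subgroup G} (hN : IsPGroup 2 N) {r : G} (h3 : r ^ 3 = 1)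
    (hr : r ≠ 1) (hn : r ∈ normalizer (N : Set G)) {x : G} (hx : x ∈ N) : Commute x (r * x * r⁻¹) := by
  have e1 := hc.norm_eq_one hN h3 hr hn (x := r⁻¹ * x * r)
    (by simpa using (mem_normalizer_iff.1 (inv_mem hn) x).1 hx)
  have e2 := hc.norm_eq_one hN (r := r⁻¹) (by rw [inv_pow, h3, inv_one]) (inv_ne_one.2 hr) (inv_mem hn)
    (x := r⁻¹ * x * r) (by simpa using (mem_normalizer_iff.1 (inv_mem hn) x).1 hx)
  rw [inv_inv] at e2
  rw [show r * (r⁻¹ * x * r) * r⁻¹ = x by group] at e1 e2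
  have e4 : r⁻¹ * (r⁻¹ * x * r) * r = r * x * r⁻¹ := by
    rw [pow_three'] at h3
    have hinv : r⁻¹ = r * r := inv_eq_of_mul_eq_one_left h3
    rw [hinv]
    calc r * r * (r * r * x * r) * r = r * r * r * r * x * (r * r) := by group
      _ = r * x * (r * r) := by rw [h3, one_mul]
  rw [e4] at e1 e2
  rw [mul_assoc] at e1 e2
  exact mul_left_cancel (e1.trans e2.symm)

/-- Class at most two in the presence of a fixed-point-free operator of order three. -/
theorem IsCIT.commute_commutator (hc : IsCIT G) {N : Subgroup G} (hN : IsPGroup 2 N) {r : G}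
    (h3 : r ^ 3 = 1) (hr : r ≠ 1) (hn : r ∈ normalizer (N : Set G)) {a b d : G}
    (ha : a ∈ N) (hb : b ∈ N) (hd : d ∈ N) : Commute ⁅a, b⁆ d := by
  haveI : Fact (Nat.Prime 3) := ⟨Nat.prime_three⟩
  have hro : Odd (orderOf r) := by rw [orderOf_eq_prime h3 hr]; decide
  have hn' : ∀ y ∈ N, r * y * r⁻¹ ∈ N := fun y hy => (mem_normalizer_iff.1 hn y).1 hy
  -- conjugates of `r` by elements of `N`
  let f : N → N := fun d => ⟨(d : G) * (r * (d : G)⁻¹ * r⁻¹), N.mul_mem d.2 (hn' _ (N.inv_mem d.2))⟩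
  have hf : Function.Injective f := fun a b hab => by
    have e : (a : G) * (r * (a : G)⁻¹ * r⁻¹) = b * (r * (b : G)⁻¹ * r⁻¹) := congrArg Subtype.val hab
    refine Subtype.ext (inv_mul_eq_one.1 (hc.fpf hN (N.mul_mem (N.inv_mem b.2) a.2) hro hr ?_)).symm
    calc r * ((b : G)⁻¹ * a) = (b : G)⁻¹ * ((b : G) * (r * (b : G)⁻¹ * r⁻¹)) * (r * a) := by group
      _ = (b : G)⁻¹ * ((a : G) * (r * (a : G)⁻¹ * r⁻¹)) * (r * a) := by rw [e]
      _ = (b : G)⁻¹ * a * r := by group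
  have hadj : ∀ x ∈ N, ∀ g ∈ N, Commute x (g * (r * x * r⁻¹) * g⁻¹) ∧ Commute x (g * (r⁻¹ * x * r) * g⁻¹) := by
    have key : ∀ s : G, (s = r ∨ s = r⁻¹) → ∀ x ∈ N, ∀ g ∈ N, Commute x (g * (s * x * s⁻¹) * g⁻¹) := by
      intro s hs x hx g hg
      have hs3 : s ^ 3 = 1 := by rcases hs with rfl | rfl; exacts [h3, by rw [inv_pow, h3, inv_one]]
      have hsn : s ∈ normalizer (N : Set G) := by rcases hs with rfl | rfl; exacts [hn, inv_mem hn]
      obtain ⟨e, he, hee⟩ : ∃ e ∈ N, e * s * e⁻¹ = g * s := by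
        rcases hs with rfl | rfl
        · obtain ⟨⟨e, he⟩, hee⟩ := (Finite.injective_iff_surjective.1 hf) ⟨g, hg⟩
          have : e * (s * e⁻¹ * s⁻¹) = g := congrArg Subtype.val hee
          exact ⟨e, he, by rw [← this]; group⟩
        · obtain ⟨⟨e, he⟩, hee⟩ := (Finite.injective_iff_surjective.1 hf) ⟨r * g⁻¹ * r⁻¹, hn' _ (N.inv_mem hg)⟩
          have h' : e * (r * e⁻¹ * r⁻¹) = r * g⁻¹ * r⁻¹ := congrArg Subtype.val hee
          refine ⟨e, he, inv_injective ?_⟩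
          calc (e * r⁻¹ * e⁻¹)⁻¹ = e * (r * e⁻¹ * r⁻¹) * r := by group
            _ = (g * r⁻¹)⁻¹ := by rw [h']; group
      have h1 := hc.commute_conj hN (r := g * s) (x := x)
        (by rw [← hee, conj_pow, hs3, mul_one, mul_inv_cancel])
        (fun e1 => by
          have : s = 1 := by
            have := hee.trans e1
            exact conj_eq_one_iff.1 this
          rcases hs with rfl | rfl; exacts [hr this, hr (inv_eq_one.1 this)])
        (mul_mem (le_normalizer hg) hsn) hx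
      rwa [show g * s * x * (g * s)⁻¹ = g * (s * x * s⁻¹) * g⁻¹ by group] at h1
    intro x hx g hg
    refine ⟨key r (Or.inl rfl) x hx g hg, ?_⟩
    have := key r⁻¹ (Or.inr rfl) x hx g hg
    rwa [inv_inv] at this
  have hengel : ∀ x g : N, Commute x (g * x * g⁻¹) := fun x g => by
    show x * (g * x * g⁻¹) = g * x * g⁻¹ * x
    apply Subtype.ext
    simp only [Subgroup.coe_mul, Subgroup.coe_inv]
    obtain ⟨c1, c2⟩ := hadj x x.2 g g.2
    have e1 : (x : G) = ((r * x * r⁻¹) * (r⁻¹ * x * r))⁻¹ :=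
      eq_inv_of_mul_eq_one_left (by rw [← mul_assoc]; exact hc.norm_eq_one hN h3 hr hn x.2)
    have c3 := (c1.mul_right c2).inv_right
    rw [show ((g : G) * (r * x * r⁻¹) * (g : G)⁻¹ * ((g : G) * (r⁻¹ * x * r) * (g : G)⁻¹))⁻¹ =
      (g : G) * ((r * x * r⁻¹) * (r⁻¹ * x * r))⁻¹ * (g : G)⁻¹ by group, ← e1] at c3
    exact c3.eq
  have h := Cfsg.Agent.S4006.commute_commutator_of_engel (fun n => hN n) hengel
    ⟨a, ha⟩ ⟨b, hb⟩ ⟨d, hd⟩
  have h' := h.map N.subtype
  rwa [map_commutatorElement] at h'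

end CfsgLib.CIT
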