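import Cfsg.Agent.Lib.CIT.Main

/-!
# CN groups

A group with nilpotent centralizers is a CIT group or has TI Sylow two-subgroups, and then `T C(T)`
contains the centralizers of its nontrivial elements.
-/

set_option autoImplicit false
set_option linter.unusedSectionVars false
set_option linter.style.haveILetI false

namespace CfsgLib.CIT

open Subgroup

universe u

variable {G : Type u} [Group G] [Finite G]
  (hCN : ∀ x : G, x ≠ 1 → Group.IsNilpotent (centralizer ({x} : Set G)))

include hCN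

/-- Coprime elements centralizing a common nontrivial element commute. -/
theorem cn_comm {x a b : G} (hx : x ≠ 1) (ha : a * x = x * a) (hb : b * x = x * b)
    (h : (orderOf a).Coprime (orderOf b)) : a * b = b * a := by
  haveI := hCN x hx
  have h' := CfsgLib.CFun.commute_of_coprime_order
    (x := (⟨a, mem_centralizer_singleton_iff.2 ha⟩ : centralizer ({x} : Set G)))
    (y := ⟨b, mem_centralizer_singleton_iff.2 hb⟩) (by rwa [Subgroup.orderOf_mk, Subgroup.orderOf_mk])
  exact congrArg Subtype.val h'.eq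

omit hCN in
theorem coprime_of_two_odd {P : Subgroup G} (hP : IsPGroup 2 P) {u y : G} (hu : u ∈ P)
    (hy : Odd (orderOf y)) : (orderOf u).Coprime (orderOf y) := by
  obtain ⟨k, hk⟩ := orderOf_two_pow hP hu
  rw [hk]
  exact Nat.Coprime.pow_left _ (Nat.coprime_two_left.2 hy)

/-- An element of odd order commuting with a central involution of a Sylow subgroup centralizes it. -/
theorem cn_centralizes {T : Sylow 2 G} {z y : G} (hz : orderOf z = 2)
    (hzc : ∀ x ∈ (T : Subgroup G), x * z = z * x) (hy : Odd (orderOf y)) (h : y * z = z * y) :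
    y ∈ centralizer ((T : Subgroup G) : Set G) :=
  mem_centralizer_iff.2 fun t ht => cn_comm hCN (CfsgLib.Invol.invol_ne_one hz) (hzc t ht) h
    (coprime_of_two_odd T.2 ht hy)

/-- A two-element in the centralizer of an element centralizing `T` lies in `T`. -/
theorem cn_mem_sylow {T : Sylow 2 G} {x u : G} (hx : x ≠ 1)
    (hT : ∀ t ∈ (T : Subgroup G), t * x = x * t) (hu : u * x = x * u) (h2 : IsPGroup 2 (zpowers u)) :
    u ∈ (T : Subgroup G) := by
  haveI : Fact (Nat.Prime 2) := ⟨Nat.prime_two⟩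
  haveI := hCN x hx
  have hle : (T : Subgroup G) ≤ centralizer ({x} : Set G) := fun t ht =>
    mem_centralizer_singleton_iff.2 (hT t ht)
  have hn : ((T.subtype hle : Sylow 2 (centralizer ({x} : Set G))) :
      Subgroup (centralizer ({x} : Set G))).Normal := inferInstance
  rw [Sylow.coe_subtype, normal_subgroupOf_iff_le_normalizer hle] at hn
  exact mem_of_two_normalizer (hn (mem_centralizer_singleton_iff.2 hu)) h2

/-- A CN group is CIT or has TI Sylow two-subgroups. -/
theorem cn_ti (hc : ¬ IsCIT G) :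
    ∀ S S' : Subgroup G, IsSyl ⊤ S → IsSyl ⊤ S' → S ⊓ S' ≠ ⊥ → S = S' := by
  simp only [IsCIT, not_forall] at hc
  obtain ⟨t, y, ht, hy, hyt, hy1⟩ := hc
  have hkey : ∀ (S : Sylow 2 G) (x : G), x ∈ (S : Subgroup G) → x ≠ 1 → y * x = x * y →
      ∀ s ∈ (S : Subgroup G), s * y = y * s := by
    intro S x hxS hx1 hyx s hs
    have h2 : 2 ∣ Nat.card G := ht ▸ orderOf_dvd_natCard t
    obtain ⟨z, hzS, hz, hzc⟩ := exists_central_invol (T := S) h2
    have hyz : y * z = z * y := (cn_comm hCN hx1 (hzc x hxS).symm hyx (coprime_of_two_odd S.2 hzS hy)).symm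
    exact mem_centralizer_iff.1 (cn_centralizes hCN hz hzc hy hyz) s hs
  obtain ⟨S₀, hS₀, htS₀⟩ := exists_syl_top (isPGroup_zpowers_invol ht)
  have hcen := hkey hS₀.sylowTop t (htS₀ (mem_zpowers t)) (CfsgLib.Invol.invol_ne_one ht) hyt
  have huniq : ∀ S : Subgroup G, IsSyl ⊤ S → S ⊓ S₀ ≠ ⊥ → S = S₀ := by
    intro S hS hne
    obtain ⟨⟨x, hxS, hx0⟩, hx1⟩ := Subgroup.ne_bot_iff_exists_ne_one.1 hne
    have hcS := hkey hS.sylowTop x hxS (fun e => hx1 (Subtype.ext e)) (hcen x hx0).symm
    refine (hS.2.2 S₀ (fun s hs => ?_) le_top hS₀.2.1).symm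
    exact cn_mem_sylow hCN (T := hS₀.sylowTop) hy1 hcen (hcS s hs) (hS.2.1.to_le (zpowers_le.2 hs))
  intro S S' hS hS' hne
  obtain ⟨g, -, rfl⟩ := hS₀.exists_conj hS'
  have h : cj g⁻¹ S ⊓ S₀ ≠ ⊥ := fun e => hne (by
    refine (eq_bot_iff_forall _).2 fun x hx => ?_
    have h1 : g⁻¹ * x * g ∈ cj g⁻¹ S ⊓ S₀ := ⟨mem_cj.2 (by
      rw [inv_inv, show g * (g⁻¹ * x * g) * g⁻¹ = x by group]; exact hx.1), mem_cj.1 hx.2⟩
    rw [e, mem_bot] at h1
    calc x = g * (g⁻¹ * x * g) * g⁻¹ := by group
      _ = 1 := by rw [h1]; group)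
  have h' := huniq _ (hS.cj_top g⁻¹) h
  rw [← h', cj_mul, mul_inv_cancel, cj_one]

/-- In a CN group with TI Sylow two-subgroups `T C(T)` contains the centralizers of its elements. -/
theorem ker_of_cn (T : Sylow 2 G) (h2 : 2 ∣ Nat.card G)
    (hTI : ∀ S S' : Subgroup G, IsSyl ⊤ S → IsSyl ⊤ S' → S ⊓ S' ≠ ⊥ → S = S') :
    ∀ x ∈ tiKer (T : Subgroup G), x ≠ 1 → ∀ c : G, c * x = x * c → c ∈ tiKer (T : Subgroup G) := by
  haveI : Fact (Nat.Prime 2) := ⟨Nat.prime_two⟩
  obtain ⟨z, hzT, hz, hzc⟩ := exists_central_invol (T := T) h2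
  have hzF : ∀ f ∈ tiKer (T : Subgroup G), f * z = z * f := fun f hf => by
    have h : tiKer (T : Subgroup G) ≤ centralizer ({z} : Set G) := sup_le
      (fun t ht => mem_centralizer_singleton_iff.2 (hzc t ht))
      (fun c hc => mem_centralizer_singleton_iff.2 (mem_centralizer_iff.1 hc z hzT).symm)
    exact mem_centralizer_singleton_iff.1 (h hf)
  intro x hx hx1 c hcx
  by_cases he : 2 ∣ orderOf x
  · -- a power of `x` is an involution of `T`
    have hv : orderOf (x ^ (orderOf x / 2)) = 2 := orderOf_pow_orderOf_div (orderOf_pos x).ne' he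
    set v := x ^ (orderOf x / 2)
    have hvT : v ∈ (T : Subgroup G) :=
      mem_of_two_normalizer (tiKer_le_normalizer _ (pow_mem hx _)) (isPGroup_zpowers_invol hv)
    have hcv : c * v = v * c := ((show Commute c x from hcx).pow_right _).eq
    refine mem_of_parts (fun u hu hu2 => ?_) fun o ho hodd => ?_
    · refine mem_sup_left ?_
      obtain ⟨i, rfl⟩ := hu
      have hiv : c ^ i * v = v * c ^ i := ((show Commute c v from hcv).zpow_left i).eq
      obtain ⟨S, hS, hle⟩ := exists_syl_top (Q := zpowers v ⊔ zpowers (c ^ i))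
        ((isPGroup_zpowers_invol hv).to_sup_of_normal_left' hu2 (zpowers_le.2 (by
          refine cj_eq_self_iff.1 ?_
          rw [cj, MonoidHom.map_zpowers]
          exact congrArg zpowers (show c ^ i * v * (c ^ i)⁻¹ = v by rw [hiv, mul_inv_cancel_right]))))
      have hST : S = (T : Subgroup G) := hTI S T hS (Sylow.isSylTop T) fun e => by
        have h : v ∈ S ⊓ (T : Subgroup G) := ⟨hle (mem_sup_left (mem_zpowers v)), hvT⟩
        rw [e, mem_bot] at h
        exact CfsgLib.Invol.invol_ne_one hv h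
      exact hST ▸ hle (mem_sup_right (mem_zpowers _))
    · obtain ⟨i, rfl⟩ := ho
      refine mem_sup_right (cn_centralizes hCN hz hzc hodd ?_)
      exact cn_comm hCN (CfsgLib.Invol.invol_ne_one hv) ((show Commute c v from hcv).zpow_left i).eq
        (hzc v hvT).symm (coprime_of_two_odd T.2 hzT hodd).symm
  · have hxodd : Odd (orderOf x) := Nat.odd_iff.2 (by omega)
    have hxT := mem_centralizer_iff.1 (cn_centralizes hCN hz hzc hxodd (hzF x hx))
    refine mem_of_parts (fun u hu hu2 => ?_) fun o ho hodd => ?_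
    · obtain ⟨i, rfl⟩ := hu
      exact mem_sup_left (cn_mem_sylow hCN hx1 hxT ((show Commute c x from hcx).zpow_left i).eq hu2)
    · obtain ⟨i, rfl⟩ := ho
      refine mem_sup_right (cn_centralizes hCN hz hzc hodd ?_)
      exact cn_comm hCN hx1 ((show Commute c x from hcx).zpow_left i).eq
        (hzF x hx).symm (coprime_of_two_odd T.2 hzT hodd).symm

/-- The simple CN groups. -/
theorem simple_cn_cases [IsSimpleGroup G] (hna : ¬ IsMulCommutative G) :
    (∃ (K : Type) (_ : Field K) (_ : Fintype K),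
      (Fintype.card K = 9 ∨ (∃ n : ℕ, 2 ≤ n ∧ Fintype.card K = 2 ^ n) ∨
        ((Fintype.card K).Prime ∧ ∃ k : ℕ, Fintype.card K = 2 ^ k + 1 ∨ Fintype.card K + 1 = 2 ^ k)) ∧
      Nonempty (G ≃* Matrix.ProjectiveSpecialLinearGroup (Fin 2) K)) ∨
    (∃ (K : Type) (_ : Field K) (_ : Fintype K), Fintype.card K = 4 ∧
        Nonempty (G ≃* Matrix.ProjectiveSpecialLinearGroup (Fin 3) K)) ∨
    Cfsg.Lie.IsoSuzuki G := by
  by_cases hc : IsCIT G
  · exact simple_cases hna hc
  have hTI := cn_ti hCN hc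
  obtain ⟨T⟩ : Nonempty (Sylow 2 G) := inferInstance
  rcases ti_classification hna T (ti_conj T hTI)
      (ker_of_cn hCN T (two_dvd_card_of_simple hna) hTI) with ⟨K, iK, iK', h, e⟩ | h
  · exact Or.inl ⟨K, iK, iK', Or.inr (Or.inl h), e⟩
  · exact Or.inr (Or.inr h)

end CfsgLib.CIT
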