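import Cfsg.Agent.Lib.CIT.Main
import Cfsg.Agent.Lib.Lie.Suz.Tori
import Cfsg.Agent.S0144
import Cfsg.Agent.S0252
import Cfsg.Agent.S0253
import Cfsg.Agent.S0254

/-!
# Simple groups in which every element has prime-power order
-/

set_option autoImplicit false
set_option linter.unusedSectionVars false
set_option linter.style.haveILetI false

namespace CfsgLib.CIT

open Subgroup

universe u

/-- Every nontrivial element has prime-power order. -/
def IsEPPO (G : Type u) [Group G] : Prop := ∀ g : G, g ≠ 1 → IsPrimePow (orderOf g)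

theorem IsEPPO.order_cases {G : Type u} [Group G] [Finite G] (h : IsEPPO G) (g : G) {p : ℕ}
    (hp : p.Prime) (hd : p ∣ orderOf g) : ∃ k : ℕ, orderOf g = p ^ k := by
  have hg : g ≠ 1 := fun e => hp.not_dvd_one (by rwa [e, orderOf_one] at hd)
  obtain ⟨r, k, hr, hk, e⟩ := h g hg
  have hr' : r.Prime := Nat.prime_iff.2 hr
  rw [← e] at hd
  rw [(Nat.prime_dvd_prime_iff_eq hp hr').1 (hp.dvd_of_dvd_pow hd)]
  exact ⟨k, e.symm⟩

theorem IsEPPO.isCIT {G : Type u} [Group G] [Finite G] (h : IsEPPO G) : IsCIT G := by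
  intro t y ht hy hyt
  have hcop : (orderOf t).Coprime (orderOf y) := by rw [ht]; exact Nat.coprime_two_left.2 hy
  have ho := (show Commute t y from hyt.symm).orderOf_mul_eq_mul_orderOf_of_coprime hcop
  obtain ⟨k, hk⟩ := h.order_cases (t * y) Nat.prime_two (ho ▸ ht ▸ dvd_mul_right _ _)
  by_contra hy1
  have h1 : orderOf y ∣ 2 ^ k := hk ▸ ho ▸ dvd_mul_left _ _
  obtain ⟨i, -, hi⟩ := (Nat.dvd_prime_pow Nat.prime_two).1 h1
  rcases i with _ | i
  · exact hy1 (orderOf_eq_one_iff.1 (by rw [hi, pow_zero]))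
  · exact absurd (hy.of_dvd_nat (hi ▸ dvd_pow_self 2 (Nat.succ_ne_zero i))) (by decide)

theorem IsEPPO.of_mulEquiv {G : Type u} [Group G] {H : Type*} [Group H] (h : IsEPPO G) (e : G ≃* H) :
    IsEPPO H := fun x hx => by
  rw [← e.symm.orderOf_eq x]
  exact h _ fun h1 => hx (e.symm.map_eq_one_iff.1 h1)

/-- `2 ^ (j + 3) ∣ 5 ^ a - 1` forces `2 ^ (j + 1) ∣ a`. -/
theorem two_pow_dvd_exp : ∀ (j a : ℕ), 2 ^ (j + 3) ∣ 5 ^ a - 1 → 2 ^ (j + 1) ∣ a := by
  intro j
  induction j with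
  | zero =>
    intro a h
    rcases Nat.even_or_odd' a with ⟨b, rfl | rfl⟩
    · exact dvd_mul_right 2 b
    · exfalso
      have h1 : 5 ^ (2 * b + 1) % 8 = 5 := by
        rw [pow_succ, pow_mul, Nat.mul_mod, Nat.pow_mod]
        norm_num
      have := Nat.one_le_pow (2 * b + 1) 5 (by norm_num)
      norm_num at h
      omega
  | succ j ih =>
    intro a h
    rcases Nat.even_or_odd' a with ⟨b, rfl | rfl⟩
    · obtain ⟨u, hu⟩ : ∃ u, 5 ^ b = 4 * u + 1 := ⟨5 ^ b / 4, by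
        have : 5 ^ b % 4 = 1 := by rw [Nat.pow_mod]; norm_num
        omega⟩
      have h2 : 5 ^ (2 * b) - 1 = 2 * ((5 ^ b - 1) * (2 * u + 1)) := by
        have : 5 ^ (2 * b) = 16 * (u * u) + 8 * u + 1 := by rw [mul_comm 2 b, pow_mul, hu]; ring
        have h' : (5 ^ b - 1) * (2 * u + 1) = 8 * (u * u) + 4 * u := by
          rw [hu, Nat.add_sub_cancel]; ring
        omega
      rw [h2, show j + 1 + 3 = (j + 3) + 1 by omega, pow_succ'] at h
      have h3 : 2 ^ (j + 3) ∣ 5 ^ b - 1 :=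
        (Nat.Coprime.pow_left _ (Nat.coprime_two_left.2 ⟨u, rfl⟩)).dvd_of_dvd_mul_right
          (Nat.dvd_of_mul_dvd_mul_left two_pos h)
      rw [pow_succ' 2 (j + 1)]
      exact Nat.mul_dvd_mul_left 2 (ih b h3)
    · exfalso
      have h1 : 5 ^ (2 * b + 1) % 8 = 5 := by
        rw [pow_succ, pow_mul, Nat.mul_mod, Nat.pow_mod]
        norm_num
      have h8 : 8 ∣ 5 ^ (2 * b + 1) - 1 := (pow_dvd_pow 2 (show 3 ≤ j + 1 + 3 by omega)).trans h
      have := Nat.one_le_pow (2 * b + 1) 5 (by norm_num)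
      omega

/-- The Suzuki torus orders are powers of five only for the two smallest groups. -/
theorem suz_bound {m a : ℕ} (hm : 1 ≤ m)
    (h : 2 ^ (2 * m + 1) + 2 ^ (m + 1) + 1 = 5 ^ a ∨ 2 ^ (2 * m + 1) - 2 ^ (m + 1) + 1 = 5 ^ a) :
    m = 1 ∨ m = 2 := by
  by_contra hcon
  have hm3 : 3 ≤ m := by omega
  have hd : 2 ^ (m + 1) ∣ 5 ^ a - 1 := by
    have e : 2 ^ (2 * m + 1) = 2 ^ (m + 1) * 2 ^ m := by rw [← pow_add]; congr 1; omega
    rcases h with h | h <;> rw [← h, Nat.add_sub_cancel, e]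
    · exact dvd_add (dvd_mul_right _ _) dvd_rfl
    · exact Nat.dvd_sub (dvd_mul_right _ _) dvd_rfl
  have h2 := two_pow_dvd_exp (m - 2) a (by rwa [show m - 2 + 3 = m + 1 by omega])
  rw [show m - 2 + 1 = m - 1 by omega] at h2
  have ha : 5 ^ a ≤ 2 ^ (2 * m + 2) := by
    have h1 : 2 ^ (2 * m + 2) = 2 * 2 ^ (2 * m + 1) := by rw [← pow_succ']
    have h3 : 2 ^ (m + 1) + 1 ≤ 2 ^ (2 * m + 1) := by
      have : 2 ^ (m + 1) < 2 ^ (2 * m + 1) := Nat.pow_lt_pow_right (by norm_num) (by omega)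
      omega
    rcases h with h | h <;> omega
  have ha0 : a ≠ 0 := fun e => by
    rw [e, pow_zero] at h
    have : 2 ^ (m + 1) < 2 ^ (2 * m + 1) := Nat.pow_lt_pow_right (by norm_num) (by omega)
    have := Nat.one_le_two_pow (n := 2 * m + 1)
    omega
  have hale : 2 ^ (m - 1) ≤ a := Nat.le_of_dvd (Nat.pos_of_ne_zero ha0) h2
  have h4 : 2 ^ (2 * a) ≤ 5 ^ a := by rw [pow_mul]; exact Nat.pow_le_pow_left (by norm_num) a
  have h5 : 2 * a ≤ 2 * m + 2 := (Nat.pow_le_pow_iff_right (by norm_num)).1 (h4.trans ha)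
  obtain rfl | hm4 : m = 3 ∨ 4 ≤ m := by omega
  · obtain rfl : a = 4 := by norm_num at hale; omega
    norm_num at h
  · obtain ⟨j, rfl⟩ : ∃ j, m = j + 4 := ⟨m - 4, by omega⟩
    rw [show j + 4 - 1 = j + 3 by omega, pow_add] at hale
    have := Nat.lt_two_pow_self (n := j)
    omega

/-- A Suzuki group with all orders prime powers is `Sz(8)` or `Sz(32)`. -/
theorem IsEPPO.isoSuzuki_cases {G : Type u} [Group G] [Finite G] (hE : IsEPPO G)
    (h : Cfsg.Lie.IsoSuzuki G) :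
    ∃ (F : Type) (_ : Field F) (_ : Fintype F),
      (Fintype.card F = 8 ∧ Nonempty (G ≃* ↥(Cfsg.Lie.Sz F 4))) ∨
      (Fintype.card F = 32 ∧ Nonempty (G ≃* ↥(Cfsg.Lie.Sz F 8))) := by
  obtain ⟨F, iF, iF', m, hm, hF, ⟨e⟩⟩ := h
  obtain ⟨e'⟩ := CfsgLib.Lie.Suz.exists_twEquiv (F := F) hm hF
  have hS : IsEPPO (Cfsg.Sz F m) := hE.of_mulEquiv (e.trans e'.symm)
  haveI : Finite (Cfsg.Sz F m) := Finite.of_equiv _ (e.trans e'.symm).toEquiv
  set P := 2 ^ (2 * m + 1) + 2 ^ (m + 1) + 1 with hP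
  set M := 2 ^ (2 * m + 1) - 2 ^ (m + 1) + 1 with hM
  have hpm : ∃ a, P = 5 ^ a ∨ M = 5 ^ a := by
    have h5 : 5 ∣ P * M := by
      have hlt : 2 ^ (m + 1) ≤ 2 ^ (2 * m + 1) := Nat.pow_le_pow_right (by norm_num) (by omega)
      have e2 : 2 ^ (m + 1) * 2 ^ (m + 1) = 2 * 2 ^ (2 * m + 1) := by
        rw [← pow_add, ← pow_succ']; congr 1; omega
      have hPM : P * M = 2 ^ (2 * m + 1) * 2 ^ (2 * m + 1) + 1 := by
        have key : ∀ x y : ℕ, x ≤ y → x * x = 2 * y → (y + x + 1) * (y - x + 1) = y * y + 1 := by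
          intro x y hxy hx2
          obtain ⟨d, rfl⟩ := Nat.exists_eq_add_of_le hxy
          rw [Nat.add_sub_cancel_left]
          nlinarith [hx2]
        exact key _ _ hlt e2
      rw [hPM, ← pow_add, show 2 * m + 1 + (2 * m + 1) = 4 * m + 2 by omega, pow_add, pow_mul]
      have : (2 ^ 4) ^ m % 5 = 1 := by rw [Nat.pow_mod]; norm_num
      omega
    have hcyc : ∀ k, (k = P ∨ k = M) → 5 ∣ k → ∃ a, k = 5 ^ a := by
      intro k hk h5k
      obtain ⟨T, hT, hcard, -⟩ := CfsgLib.Lie.Suz.exists_tori hm hF (k := k) hk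
      haveI := CfsgLib.Lie.Suz.torus_cyclic hm hF hT
      obtain ⟨g, hg⟩ := IsCyclic.exists_ofOrder_eq_natCard (α := T)
      rw [hcard, ← Subgroup.orderOf_coe] at hg
      obtain ⟨a, ha⟩ := hS.order_cases (g : Cfsg.Sz F m) Nat.prime_five (hg ▸ h5k)
      exact ⟨a, hg ▸ ha⟩
    rcases Nat.prime_five.dvd_mul.1 h5 with h | h
    · obtain ⟨a, ha⟩ := hcyc P (Or.inl rfl) h; exact ⟨a, Or.inl ha⟩
    · obtain ⟨a, ha⟩ := hcyc M (Or.inr rfl) h; exact ⟨a, Or.inr ha⟩
  obtain ⟨a, ha⟩ := hpm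
  rcases suz_bound hm ha with rfl | rfl
  · exact ⟨F, iF, iF', Or.inl ⟨by rw [hF]; norm_num, ⟨e⟩⟩⟩
  · exact ⟨F, iF, iF', Or.inr ⟨by rw [hF]; norm_num, ⟨e⟩⟩⟩

/-- `PSL₂(2ⁿ)` with all orders prime powers has `n ≤ 3`. -/
theorem psl_even_cases {K : Type} [Field K] [Fintype K] {n : ℕ} (hn : 2 ≤ n) (hK : Fintype.card K = 2 ^ n)
    (hS : IsEPPO (Matrix.ProjectiveSpecialLinearGroup (Fin 2) K)) :
    Fintype.card K = 4 ∨ Fintype.card K = 8 := by
  have he : 2 ∣ Fintype.card K := hK ▸ dvd_pow_self 2 (by omega)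
  haveI : Fact (Nat.Prime 3) := ⟨Nat.prime_three⟩
  rcases Nat.even_or_odd n with ⟨j, hj⟩ | ⟨j, hj⟩
  · obtain ⟨A, hA⟩ := CfsgLib.Classical.PSL2Spectrum.exists_order_sub_one (F := K)
    have ho := (CfsgLib.Classical.PSL2Spectrum.orderOf_π_even he A).trans hA
    have h3 : 3 ∣ Fintype.card K - 1 := by
      rw [hK, hj, ← two_mul, pow_mul]
      have : (2 ^ 2) ^ j % 3 = 1 := by rw [Nat.pow_mod]; norm_num
      omega
    obtain ⟨k, hk⟩ := hS.order_cases _ Nat.prime_three (ho ▸ h3)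
    rw [ho] at hk
    have hk1 : 1 ≤ k := by
      rcases k with _ | k
      · rw [hk] at h3; norm_num at h3
      · omega
    have h := CfsgLib.Char.HalfLinear.exp_one_of_add_one (q := 3) (m := n) (by decide) hk1 (by
      rw [← hk, hK]; have := Nat.one_le_two_pow (n := n); omega)
    left
    rw [h, pow_one] at hk
    omega
  · obtain ⟨A, hA⟩ := CfsgLib.Classical.PSL2Spectrum.exists_order_add_one (F := K)
    have ho := (CfsgLib.Classical.PSL2Spectrum.orderOf_π_even he A).trans hA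
    have h3 : 3 ∣ Fintype.card K + 1 := by
      rw [hK, hj, pow_succ, pow_mul]
      have : (2 ^ 2) ^ j % 3 = 1 := by rw [Nat.pow_mod]; norm_num
      omega
    obtain ⟨k, hk⟩ := hS.order_cases _ Nat.prime_three (ho ▸ h3)
    rw [ho] at hk
    have hk1 : 1 ≤ k := by
      rcases k with _ | k
      · rw [hk] at h3; norm_num at h3
      · omega
    have h4 : 4 ≤ 2 ^ n := le_trans (by norm_num) (Nat.pow_le_pow_right two_pos hn)
    rcases CfsgLib.Char.HalfLinear.exp_one_of_sub_one (q := 3) (k := n) (by decide) hk1 (by rw [← hk, hK])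
      with h | ⟨-, h⟩
    · rw [h, pow_one] at hk; omega
    · right
      rw [h] at hk
      omega

/-- `PSL₂(p)`, `p = 2ᵏ ± 1` prime, with all orders prime powers. -/
theorem psl_prime_cases {K : Type} [Field K] [Fintype K] (hp : (Fintype.card K).Prime) {k : ℕ}
    (h : Fintype.card K = 2 ^ k + 1 ∨ Fintype.card K + 1 = 2 ^ k) (h5 : 5 ≤ Fintype.card K)
    (hS : IsEPPO (Matrix.ProjectiveSpecialLinearGroup (Fin 2) K)) :
    Fintype.card K = 5 ∨ Fintype.card K = 7 ∨ Fintype.card K = 17 := by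
  haveI : Fact (Nat.Prime 3) := ⟨Nat.prime_three⟩
  set q := Fintype.card K with hq
  have ho2 : q % 2 = 1 := Nat.odd_iff.1 (hp.odd_of_ne_two (by omega))
  have hq3 : ¬ 3 ∣ q := fun hd => by
    rcases (Nat.dvd_prime hp).1 hd with h | h <;> omega
  rcases h with h | h
  · have hk : k % 2 = 0 := by
      by_contra hk
      obtain ⟨j, hj⟩ := Nat.odd_iff.2 (by omega : k % 2 = 1)
      refine hq3 ?_
      rw [h, hj, pow_succ, pow_mul]
      have : (2 ^ 2) ^ j % 3 = 1 := by rw [Nat.pow_mod]; norm_num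
      omega
    obtain ⟨j, hj⟩ : ∃ j, k = 2 * j + 2 := ⟨k / 2 - 1, by
      rcases k with _ | k
      · rw [h] at h5; norm_num at h5
      · omega⟩
    obtain ⟨A, hA⟩ := CfsgLib.Classical.PSL2Spectrum.exists_order_add_one (F := K)
    have e : 2 ^ k = 2 * 2 ^ (2 * j + 1) := by rw [hj, ← pow_succ']
    have ho := CfsgLib.Classical.PSL2Spectrum.orderOf_π_half ho2
      (show orderOf A = 2 * (2 ^ (2 * j + 1) + 1) by rw [hA, ← hq, h, e]; ring)
    have h3 : 3 ∣ 2 ^ (2 * j + 1) + 1 := by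
      rw [pow_succ, pow_mul]
      have : (2 ^ 2) ^ j % 3 = 1 := by rw [Nat.pow_mod]; norm_num
      omega
    obtain ⟨i, hi⟩ := hS.order_cases _ Nat.prime_three (ho ▸ h3)
    rw [ho] at hi
    have hi1 : 1 ≤ i := by
      rcases i with _ | i
      · rw [hi] at h3; norm_num at h3
      · omega
    rcases CfsgLib.Char.HalfLinear.exp_one_of_sub_one (q := 3) (by decide) hi1 hi.symm with h' | ⟨-, h'⟩
    · rw [h', pow_one] at hi; omega
    · rw [h'] at hi; omega
  · have hk : k % 2 = 1 := by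
      by_contra hk
      obtain ⟨j, hj⟩ : ∃ j, k = 2 * j := ⟨k / 2, by omega⟩
      refine hq3 ?_
      have : 2 ^ k % 3 = 1 := by rw [hj, pow_mul, Nat.pow_mod]; norm_num
      omega
    obtain ⟨j, hj⟩ : ∃ j, k = 2 * j + 3 := ⟨k / 2 - 1, by
      have : k ≠ 1 := fun e => by rw [e] at h; omega
      omega⟩
    obtain ⟨A, hA⟩ := CfsgLib.Classical.PSL2Spectrum.exists_order_sub_one (F := K)
    have e : 2 ^ k = 2 * 2 ^ (2 * j + 2) := by rw [hj, ← pow_succ']
    have h4 : 4 ≤ 2 ^ (2 * j + 2) := le_trans (by norm_num) (Nat.pow_le_pow_right two_pos (show 2 ≤ 2 * j + 2 by omega))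
    have ho := CfsgLib.Classical.PSL2Spectrum.orderOf_π_half ho2
      (show orderOf A = 2 * (2 ^ (2 * j + 2) - 1) by rw [hA, ← hq]; omega)
    have h3 : 3 ∣ 2 ^ (2 * j + 2) - 1 := by
      have : 2 ^ (2 * j + 2) % 3 = 1 := by
        rw [show 2 * j + 2 = 2 * (j + 1) by ring, pow_mul, Nat.pow_mod]; norm_num
      omega
    obtain ⟨i, hi⟩ := hS.order_cases _ Nat.prime_three (ho ▸ h3)
    rw [ho] at hi
    have hi1 : 1 ≤ i := by
      rcases i with _ | i
      · rw [hi] at h3; norm_num at h3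
      · omega
    have h' := CfsgLib.Char.HalfLinear.exp_one_of_add_one (q := 3) (m := 2 * j + 2) (by decide) hi1 (by omega)
    rw [h', pow_one] at hi
    omega

/-- The simple groups in which every element has prime-power order. -/
theorem IsEPPO.simple_cases {G : Type u} [Group G] [Finite G] [IsSimpleGroup G]
    (hna : ¬ IsMulCommutative G) (h : IsEPPO G) :
    Nonempty (G ≃* alternatingGroup (Fin 6)) ∨
    (∃ (F : Type) (_ : Field F) (_ : Fintype F), Fintype.card F ∈ ({4, 7, 8, 17} : Finset ℕ) ∧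
      Nonempty (G ≃* Matrix.ProjectiveSpecialLinearGroup (Fin 2) F)) ∨
    (∃ (F : Type) (_ : Field F) (_ : Fintype F), Fintype.card F = 4 ∧
      Nonempty (G ≃* Matrix.ProjectiveSpecialLinearGroup (Fin 3) F)) ∨
    (∃ (F : Type) (_ : Field F) (_ : Fintype F),
      (Fintype.card F = 8 ∧ Nonempty (G ≃* ↥(Cfsg.Lie.Sz F 4))) ∨
      (Fintype.card F = 32 ∧ Nonempty (G ≃* ↥(Cfsg.Lie.Sz F 8)))) := by
  classical
  rcases CfsgLib.CIT.simple_cases hna h.isCIT with ⟨F, iF, iF', hq, ⟨e⟩⟩ | h' | h'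
  · have hS := h.of_mulEquiv e
    rcases hq with h9 | ⟨n, hn, hK⟩ | ⟨hp, k, hk⟩
    · exact Or.inl ⟨e.trans (Cfsg.Agent.S0254.result h9).some⟩
    · refine Or.inr (Or.inl ⟨F, iF, iF', ?_, ⟨e⟩⟩)
      rcases psl_even_cases hn hK hS with h4 | h4 <;> rw [h4] <;> decide
    · have hsolv : ∀ a b : ℕ, Nat.card G ≠ 2 ^ a * 3 ^ b := fun a b hc =>
        hna (isMulCommutative_iff.2 (IsSimpleGroup.comm_iff_isSolvable.2
          (Cfsg.Agent.S0144.result 2 3 a b Nat.prime_two Nat.prime_three hc)))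
      have h5 : 5 ≤ Fintype.card F := by
        have hcard := CfsgLib.Classical.card_psl2 (F := F)
        rw [← Nat.card_congr e.toEquiv] at hcard
        have h2 := hp.two_le
        have h2' : Fintype.card F ≠ 2 := fun h => hsolv 1 1 (by simpa [h] using hcard)
        have h3' : Fintype.card F ≠ 3 := fun h => hsolv 2 1 (by
          rw [h, show Nat.gcd 2 (3 - 1) = 2 from rfl] at hcard; omega)
        have h4' : Fintype.card F ≠ 4 := fun h => absurd (h ▸ hp) (by norm_num)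
        omega
      rcases psl_prime_cases hp hk h5 hS with h' | h' | h'
      · letI : Fintype (GaloisField 2 2) := Fintype.ofFinite _
        have hK : Fintype.card (GaloisField 2 2) = 4 := by
          rw [← Nat.card_eq_fintype_card, GaloisField.card 2 2 (by norm_num)]; norm_num
        refine Or.inr (Or.inl ⟨GaloisField 2 2, inferInstance, inferInstance, by rw [hK]; decide, ⟨?_⟩⟩)
        exact (e.trans (Cfsg.Agent.S0253.result h').some).trans (Cfsg.Agent.S0252.result hK).some.symm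
      · exact Or.inr (Or.inl ⟨F, iF, iF', by rw [h']; decide, ⟨e⟩⟩)
      · exact Or.inr (Or.inl ⟨F, iF, iF', by rw [h']; decide, ⟨e⟩⟩)
  · exact Or.inr (Or.inr (Or.inl h'))
  · exact Or.inr (Or.inr (Or.inr (h.isoSuzuki_cases h')))

end CfsgLib.CIT
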