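import Cfsg.Agent.Lib.CIT.Main
import Cfsg.Agent.S0225
import Cfsg.Agent.Lib.Coprime.SchurZassenhaus
import Cfsg.Agent.Lib.Coprime.FpfAction

/-!
# Insoluble CIT groups

An insoluble CIT group has no normal subgroup of odd order; modulo its largest normal 2-subgroup
its minimal normal subgroup `N` is simple with trivial centraliser.  If the normalizer in `N` of a
Sylow 2-subgroup is transitive on at least seven central involutions, `N` is the whole group.
-/

set_option autoImplicit false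
set_option linter.unusedSectionVars false
set_option linter.style.haveILetI false

namespace CfsgLib.CIT

open Subgroup

universe u

variable {G : Type u} [Group G] [Finite G]

/-- The central elements of square one of a subgroup. -/
def omZ (P : Subgroup G) : Subgroup G where
  carrier := {x | x ∈ P ∧ x * x = 1 ∧ ∀ y ∈ P, y * x = x * y}
  one_mem' := ⟨one_mem P, one_mul 1, fun y _ => by rw [mul_one, one_mul]⟩
  mul_mem' := by
    rintro a b ⟨ha, ha2, hac⟩ ⟨hb, hb2, hbc⟩
    refine ⟨mul_mem ha hb, ?_, fun y hy => ?_⟩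
    · rw [mul_assoc, ← mul_assoc b, hac b hb, ← mul_assoc, ← mul_assoc, ha2, one_mul, hb2]
    · rw [← mul_assoc, hac y hy, mul_assoc, hbc y hy, ← mul_assoc]
  inv_mem' := by
    rintro a ⟨ha, ha2, hac⟩
    rw [inv_eq_of_mul_eq_one_right ha2]
    exact ⟨ha, ha2, hac⟩

theorem omZ_le (P : Subgroup G) : omZ P ≤ P := fun _ h => h.1

theorem isPGroup_omZ {P : Subgroup G} (hP : IsPGroup 2 P) : IsPGroup 2 (omZ P) := hP.to_le (omZ_le P)

theorem conj_mem_omZ {P : Subgroup G} {g x : G} (hg : g ∈ normalizer (P : Set G)) (hx : x ∈ omZ P) :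
    g * x * g⁻¹ ∈ omZ P := by
  obtain ⟨hxP, hx2, hxc⟩ := hx
  refine ⟨(mem_normalizer_iff.1 hg x).1 hxP, ?_, fun y hy => ?_⟩
  · calc g * x * g⁻¹ * (g * x * g⁻¹) = g * (x * x) * g⁻¹ := by group
      _ = 1 := by rw [hx2, mul_one, mul_inv_cancel]
  · have h := hxc (g⁻¹ * y * g) ((mem_normalizer_iff''.1 hg y).1 hy)
    calc y * (g * x * g⁻¹) = g * ((g⁻¹ * y * g) * x) * g⁻¹ := by group
      _ = g * (x * (g⁻¹ * y * g)) * g⁻¹ := by rw [h]
      _ = g * x * g⁻¹ * y := by group

omit [Finite G] in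
theorem map_omZ {M : Type*} [Group M] [Finite M] (f : M →* G) (hf : Function.Injective f) (P : Subgroup M) :
    omZ (P.map f) = (omZ P).map f := by
  ext g
  constructor
  · rintro ⟨⟨x, hx, rfl⟩, h2, hc⟩
    exact ⟨x, ⟨hx, hf (by rw [map_mul, map_one]; exact h2),
      fun y hy => hf (by rw [map_mul, map_mul]; exact hc _ ⟨y, hy, rfl⟩)⟩, rfl⟩
  · rintro ⟨x, ⟨hx, h2, hc⟩, rfl⟩
    exact ⟨⟨x, hx, rfl⟩, by rw [← map_mul, h2, map_one],
      by rintro _ ⟨y, hy, rfl⟩; rw [← map_mul, ← map_mul, hc y hy]⟩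

/-- An insoluble CIT group has no nontrivial normal subgroup of odd order. -/
theorem IsCIT.odd_normal_eq_bot (hc : IsCIT G) (heven : Even (Nat.card G)) (hs : ¬ Group.IsSolvable G)
    (W : Subgroup G) [W.Normal] (hW : Odd (Nat.card W)) : W = ⊥ := by
  by_contra hne
  have hoW : ∀ w ∈ W, Odd (orderOf w) := fun w hw => hW.of_dvd_nat (orderOf_dvd_natCard _ hw)
  have hfix : ∀ {t : G}, orderOf t = 2 → ∀ w ∈ W, t * w = w * t → w = 1 := fun ht w hw h =>
    hc _ w ht (hoW w hw) h.symm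
  have hinv : ∀ {t : G}, orderOf t = 2 → ∀ w ∈ W, t * w * t⁻¹ = w⁻¹ := fun ht w hw =>
    inverts_of_fpf ht (by rw [normalizer_eq_top]; exact mem_top _) (hfix ht) hw
  have hrank : ∀ E : Subgroup G, ¬ IsKleinFour E := by
    intro E hE
    classical
    haveI := hE
    obtain ⟨⟨w, hw⟩, hw1⟩ := ne_bot_iff_exists_ne_one.1 hne
    obtain ⟨a, b, hab, ha1, hb1⟩ : ∃ a b : E, a ≠ b ∧ a ≠ 1 ∧ b ≠ 1 := by
      haveI := Fintype.ofFinite E
      have h4 : Fintype.card E = 4 := by rw [← Nat.card_eq_fintype_card]; exact IsKleinFour.card_four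
      have h3 : 1 < (Finset.univ.erase (1 : E)).card := by
        rw [Finset.card_erase_of_mem (Finset.mem_univ _), Finset.card_univ, h4]; norm_num
      obtain ⟨a, ha, b, hb, hab⟩ := Finset.one_lt_card.1 h3
      exact ⟨a, b, hab, (Finset.mem_erase.1 ha).1, (Finset.mem_erase.1 hb).1⟩
    have ho : ∀ e : E, e ≠ 1 → orderOf (e : G) = 2 := fun e he => by
      rw [orderOf_coe]
      exact orderOf_eq_prime (by rw [← Monoid.pow_exponent_eq_one e, IsKleinFour.exponent_two]) he
    have hab1 : a * b ≠ 1 := fun h => hab (by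
      have hbi : b⁻¹ = b := inv_eq_of_mul_eq_one_right (by
        rw [← sq, ← IsKleinFour.exponent_two (G := E), Monoid.pow_exponent_eq_one])
      rw [mul_eq_one_iff_eq_inv.1 h, hbi])
    have h1 : ((a * b : E) : G) * w * ((a * b : E) : G)⁻¹ = w := by
      rw [Subgroup.coe_mul, mul_inv_rev,
        show (a : G) * b * w * ((b : G)⁻¹ * (a : G)⁻¹) = a * (b * w * (b : G)⁻¹) * (a : G)⁻¹ by group,
        hinv (ho b hb1) w hw, hinv (ho a ha1) _ (W.inv_mem hw), inv_inv]
    rw [hinv (ho _ hab1) w hw] at h1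
    exact hw1 (Subtype.ext (CfsgLib.Invol.eq_one_of_odd_of_mul_self (hoW w hw)
      (by rw [mul_eq_one_iff_eq_inv]; exact h1.symm)))
  obtain ⟨z, hz, N, hN, hNodd, hzN⟩ := Cfsg.Agent.S0225.result heven hrank
  haveI := hN
  have hz1 : ∀ x : G, Odd (orderOf x) → x ∈ N := by
    intro x hx
    have hK : Odd (Nat.card (zpowers x ⊔ N : Subgroup G)) := by
      have h := card_mul_index (N.subgroupOf (zpowers x ⊔ N))
      rw [Nat.card_congr (subgroupOfEquivOfLe (le_sup_right : N ≤ zpowers x ⊔ N)).toEquiv] at h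
      rw [← h]
      refine hNodd.mul (hx.of_dvd_nat ?_)
      rw [← relIndex, relIndex_sup_right, ← Nat.card_zpowers]
      exact relIndex_dvd_card _ _
    have hzK : z ∈ normalizer ((zpowers x ⊔ N : Subgroup G) : Set G) := by
      refine mem_normalizer_iff.2 fun g => ?_
      have key : ∀ g, z * g * z⁻¹ * g⁻¹ ∈ zpowers x ⊔ N := fun g => le_sup_right (a := zpowers x) (hzN g)
      constructor
      · intro hg
        simpa [inv_mul_cancel_right] using mul_mem (key g) hg
      · intro hg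
        have h := mul_mem (inv_mem (key g)) hg
        rwa [show (z * g * z⁻¹ * g⁻¹)⁻¹ * (z * g * z⁻¹) = g by group] at h
    have hxi : z * x * z⁻¹ = x⁻¹ := inverts_of_fpf hz hzK
      (fun a ha h => hc z a hz (hK.of_dvd_nat (orderOf_dvd_natCard _ ha)) h.symm)
      (le_sup_left (b := N) (mem_zpowers x))
    have h2 := hzN x
    rw [hxi, ← mul_inv_rev] at h2
    obtain ⟨k, hk, hkk⟩ := CfsgLib.Invol.exists_sqrt_of_odd hx
    rw [← hkk]
    obtain ⟨j, hj⟩ := hx
    have h3 : (x * x) ^ (j + 1) = x := by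
      rw [← sq, ← pow_mul, show 2 * (j + 1) = orderOf x + 1 by omega, pow_succ, pow_orderOf_eq_one, one_mul]
    rw [hkk, ← h3]
    exact pow_mem (inv_mem_iff.1 h2) _
  haveI hNs : Group.IsSolvable N := by
    haveI : IsMulCommutative N := isMulCommutative_iff.2 fun a b => Subtype.ext (by
      have hI : ∀ y ∈ N, z * y * z⁻¹ = y⁻¹ := fun y hy =>
        inverts_of_fpf hz (by rw [normalizer_eq_top]; exact mem_top _)
          (fun u hu h => hc z u hz (hNodd.of_dvd_nat (orderOf_dvd_natCard _ hu)) h.symm) hy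
      have h := hI _ (mul_mem a.2 b.2)
      rw [mul_inv_rev, show z * ((a : G) * b) * z⁻¹ = (z * a * z⁻¹) * (z * b * z⁻¹) by group, hI _ a.2,
        hI _ b.2, ← mul_inv_rev, ← mul_inv_rev] at h
      exact (inv_injective h).symm)
    exact Group.isSolvable_of_comm (isMulCommutative_iff.1 inferInstance)
  have hq : IsPGroup 2 (G ⧸ N) := by
    intro q
    obtain ⟨g, rfl⟩ := QuotientGroup.mk'_surjective N q
    obtain ⟨k, hk⟩ := exists_pow_odd g
    refine ⟨k, ?_⟩
    rw [← map_pow, QuotientGroup.mk'_apply, QuotientGroup.eq_one_iff]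
    exact hz1 _ hk
  haveI : Group.IsNilpotent (G ⧸ N) := hq.isNilpotent
  exact hs (Group.isSolvable_of_ker_le_range N.subtype (QuotientGroup.mk' N)
    (by rw [QuotientGroup.ker_mk', range_subtype]))

/-- Without normal 2-subgroups and odd normal subgroups a CIT group has a simple normal subgroup with
trivial centralizer. -/
theorem IsCIT.exists_simple_normal [Nontrivial G] (hc : IsCIT G)
    (hodd : ∀ W : Subgroup G, W.Normal → Odd (Nat.card W) → W = ⊥)
    (h2 : ∀ W : Subgroup G, W.Normal → IsPGroup 2 W → W = ⊥) :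
    ∃ N : Subgroup G, N.Normal ∧ IsSimpleGroup N ∧ ¬ IsMulCommutative N ∧
      centralizer (N : Set G) = ⊥ := by
  haveI : Fact (Nat.Prime 2) := ⟨Nat.prime_two⟩
  obtain ⟨N, hN, hN1, -, hmin⟩ := CfsgLib.Coprime.exists_minimal_normal_le (top_ne_bot (α := Subgroup G))
  haveI := hN
  -- odd and even parts
  have hsplit : ∀ X : Subgroup G, ¬ IsPGroup 2 X → ∃ y ∈ X, Odd (orderOf y) ∧ y ≠ 1 := by
    intro X hX
    by_contra hno
    push Not at hno
    refine hX fun x => ?_
    obtain ⟨k, hk⟩ := exists_pow_odd (x : G)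
    exact ⟨k, Subtype.ext (by rw [Subgroup.coe_pow, Subgroup.coe_one]; exact hno _ (pow_mem x.2 _) hk)⟩
  have hinvol : ∀ X : Subgroup G, ¬ Odd (Nat.card X) → ∃ t ∈ X, orderOf t = 2 := by
    intro X hX
    rw [Nat.not_odd_iff_even, even_iff_two_dvd] at hX
    obtain ⟨t, ht⟩ := exists_prime_orderOf_dvd_card' (G := X) 2 hX
    exact ⟨t, t.2, by rwa [orderOf_coe]⟩
  haveI : Nontrivial N := (nontrivial_iff_ne_bot N).2 hN1
  obtain ⟨K, hK, hK1, -, hKmin⟩ := CfsgLib.Coprime.exists_minimal_normal_le (top_ne_bot (α := Subgroup N))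
  haveI := hK
  set K' : Subgroup G := K.map N.subtype with hK'
  have hK'N : K' ≤ N := map_subtype_le K
  have hcardK : Nat.card K' = Nat.card K := card_map_of_injective N.subtype_injective
  have hKeven : ¬ Odd (Nat.card K') := by
    intro ho
    haveI := CfsgLib.Coprime.pPrimeCore_characteristic (G := N) 2
    have h := hodd ((Cfsg.pPrimeCore 2 N).map N.subtype) inferInstance (by
      rw [card_map_of_injective N.subtype_injective, Nat.odd_iff]
      have := CfsgLib.Coprime.pPrimeCore_not_dvd (G := N) Nat.prime_two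
      omega)
    rw [map_eq_bot_iff_of_injective _ N.subtype_injective] at h
    refine hK1 (le_bot_iff.1 (h ▸ CfsgLib.Coprime.le_pPrimeCore ?_))
    rw [hcardK] at ho
    exact Nat.coprime_two_right.2 ho
  have hKtwo : ¬ IsPGroup 2 K' := by
    intro hp
    haveI : (Cfsg.pCore 2 N).Characteristic := CfsgLib.Coprime.pCore_characteristic 2
    have h := h2 ((Cfsg.pCore 2 N).map N.subtype) inferInstance ((CfsgLib.Coprime.pCore_isPGroup 2).map _)
    rw [map_eq_bot_iff_of_injective _ N.subtype_injective] at h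
    refine hK1 (le_bot_iff.1 (h ▸ CfsgLib.Coprime.le_pCore ?_))
    exact hp.of_equiv (equivMapOfInjective K N.subtype N.subtype_injective).symm
  obtain ⟨y, hy, hyo, hy1⟩ := hsplit K' hKtwo
  obtain ⟨t, ht, hto⟩ := hinvol K' hKeven
  have hconj : ∀ g : G, cj g K' = K' := by
    intro g
    by_contra hne
    have hgN : cj g K' ≤ N := fun x hx => by
      have h := hN.conj_mem _ (hK'N (mem_cj.1 hx)) g
      rwa [show g * (g⁻¹ * x * g) * g⁻¹ = x by group] at h
    have hn2 : ∀ n ∈ N, ∀ x ∈ cj g K', n * x * n⁻¹ ∈ cj g K' := by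
      intro n hn x hx
      rw [mem_cj] at hx ⊢
      obtain ⟨k, hk, hke⟩ := hx
      have hn' : g⁻¹ * n * g ∈ N := by
        have := hN.conj_mem n hn g⁻¹
        rwa [inv_inv] at this
      refine ⟨⟨_, hn'⟩ * k * ⟨_, hn'⟩⁻¹, hK.conj_mem k hk _, ?_⟩
      simp only [coe_subtype, map_mul, map_inv] at hke ⊢
      rw [hke]
      group
    have hKn : ∀ n ∈ N, ∀ x ∈ K', n * x * n⁻¹ ∈ K' := by
      rintro n hn _ ⟨k, hk, rfl⟩
      exact ⟨⟨n, hn⟩ * k * ⟨n, hn⟩⁻¹, hK.conj_mem k hk _, by simp⟩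
    have hmeet : K' ⊓ cj g K' = ⊥ := by
      have hn : ((K' ⊓ cj g K').subgroupOf N).Normal := ⟨fun x hx n => by
        rw [mem_subgroupOf] at hx ⊢
        exact ⟨hKn n n.2 x hx.1, hn2 n n.2 x hx.2⟩⟩
      rcases hKmin _ hn (fun x hx => by
        rw [mem_subgroupOf] at hx
        obtain ⟨k, hk, hke⟩ := hx.1
        exact (Subtype.ext hke : k = x) ▸ hk) with h | h
      · rw [subgroupOf_eq_bot] at h
        exact (h.eq_bot_of_le (inf_le_left.trans hK'N) :)
      · exfalso
        refine hne (eq_of_le_of_card_ge (fun x hx => ?_) (card_cj g K').le).symm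
        obtain ⟨k, hk, rfl⟩ := hx
        have hk' : k ∈ (K' ⊓ cj g K').subgroupOf N := h.symm ▸ hk
        exact (mem_inf.1 (mem_subgroupOf.1 hk')).2
    have ht' : g * t * g⁻¹ ∈ cj g K' := conj_mem_cj.2 ht
    have hcom : y * (g * t * g⁻¹) * y⁻¹ * (g * t * g⁻¹)⁻¹ = 1 := by
      rw [← mem_bot, ← hmeet]
      refine mem_inf.2 ⟨?_, mul_mem (hn2 y (hK'N hy) _ ht') (inv_mem ht')⟩
      rw [show y * (g * t * g⁻¹) * y⁻¹ * (g * t * g⁻¹)⁻¹ =
        y * ((g * t * g⁻¹) * y⁻¹ * (g * t * g⁻¹)⁻¹) by group]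
      exact mul_mem hy (hKn _ (hgN ht') _ (inv_mem hy))
    rw [mul_inv_eq_one, mul_inv_eq_iff_eq_mul] at hcom
    exact hy1 (hc _ y (by rw [orderOf_conj_eq, hto]) hyo hcom)
  have hKN : K' = N := by
    haveI : K'.Normal := ⟨fun x hx g => by
      have h := (conj_mem_cj (g := g)).2 hx
      rwa [hconj g] at h⟩
    exact (hmin K' inferInstance hK'N).resolve_left fun h => hK1
      ((map_eq_bot_iff_of_injective _ N.subtype_injective).1 h)
  have hKtop : K = ⊤ := map_injective N.subtype_injective (by rw [← hK', hKN, ← MonoidHom.range_eq_map, range_subtype])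
  have hS : IsSimpleGroup N := ⟨fun H hH => (hKmin H hH (hKtop ▸ le_top)).imp_right fun h => h.trans hKtop⟩
  rw [hKN] at hKeven hKtwo
  have hna : ¬ IsMulCommutative N := by
    intro h
    haveI := hS
    letI : CommGroup N := { (inferInstance : Group N) with mul_comm := isMulCommutative_iff.1 h }
    have hp := IsSimpleGroup.prime_card (α := N)
    rcases hp.eq_two_or_odd' with e | e
    · exact hKtwo (IsPGroup.of_card (n := 1) (by rw [e, pow_one]))
    · exact hKeven e
  refine ⟨N, hN, hS, hna, ?_⟩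
  set C := centralizer (N : Set G) with hC
  by_contra hC1
  obtain ⟨u, hu, huo⟩ := hinvol C fun ho => hC1 (hodd C inferInstance ho)
  obtain ⟨w, hw, hwo, hw1⟩ := hsplit N hKtwo
  exact hw1 (hc u w huo hwo (mem_centralizer_iff.1 hu w hw))

variable {N P : Subgroup G}

/-- The Frattini argument for a Sylow 2-subgroup of a normal subgroup. -/
theorem IsSyl.frattini [N.Normal] (hP : IsSyl N P) : normalizer (P : Set G) ⊔ N = ⊤ := by
  haveI : Fact (Nat.Prime 2) := ⟨Nat.prime_two⟩
  have h := Sylow.normalizer_sup_eq_top hP.toSylow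
  rwa [show ((hP.toSylow : Subgroup N).map N.subtype) = P from map_subgroupOf_eq_of_le hP.1] at h

/-- Transitivity on at least seven central involutions forces the normal subgroup to be everything. -/
theorem IsCIT.eq_top_of_transitive (hc : IsCIT G) [N.Normal] (hP : IsSyl N P) {D : Subgroup G}
    (hDN : D ≤ N) (hDP : D ≤ normalizer (P : Set G)) (hcard : Nat.card D + 1 = Nat.card (omZ P))
    (h8 : 8 ≤ Nat.card (omZ P)) (hDodd : Odd (Nat.card D)) : N = ⊤ := by
  haveI : Fact (Nat.Prime 2) := ⟨Nat.prime_two⟩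
  set Z := omZ P with hZ
  have hZp : IsPGroup 2 Z := isPGroup_omZ hP.2.1
  have hoD : ∀ d ∈ D, Odd (orderOf d) := fun d hd => hDodd.of_dvd_nat (orderOf_dvd_natCard _ hd)
  obtain ⟨⟨z₀, hz₀⟩, hz₀1⟩ : ∃ z : Z, z ≠ 1 := by
    haveI : Nontrivial Z := Finite.one_lt_card_iff_nontrivial.1 (by omega)
    exact exists_ne 1
  have hz₀1' : z₀ ≠ 1 := fun h => hz₀1 (Subtype.ext h)
  let f : D → {z : Z // z ≠ 1} := fun d => ⟨⟨d * z₀ * (d : G)⁻¹, conj_mem_omZ (hDP d.2) hz₀⟩,
    fun h => hz₀1' (conj_eq_one_iff.1 (congrArg Subtype.val h))⟩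
  have hfinj : Function.Injective f := by
    intro a b hab
    have e : (a : G) * z₀ * (a : G)⁻¹ = b * z₀ * (b : G)⁻¹ :=
      congrArg (fun x : {z : Z // z ≠ 1} => ((x : Z) : G)) hab
    by_contra hne
    refine hz₀1' (hc.fpf hZp hz₀ (hoD _ (D.mul_mem (D.inv_mem b.2) a.2))
      (fun h => hne (Subtype.ext (inv_mul_eq_one.1 h).symm)) ?_)
    calc (b : G)⁻¹ * a * z₀ = (b : G)⁻¹ * (a * z₀ * (a : G)⁻¹) * a := by group
      _ = (b : G)⁻¹ * (b * z₀ * (b : G)⁻¹) * a := by rw [e]
      _ = z₀ * ((b : G)⁻¹ * a) := by group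
  have hfsurj : Function.Surjective f := by
    classical
    haveI := Fintype.ofFinite Z
    haveI := Fintype.ofFinite D
    refine (hfinj.bijective_of_nat_card_le ?_).2
    rw [Nat.card_eq_fintype_card (α := {z : Z // z ≠ 1}), Fintype.card_subtype_compl,
      Fintype.card_subtype_eq, ← Nat.card_eq_fintype_card]
    omega
  set H := normalizer (P : Set G) with hH
  -- the stabiliser of the chosen involution
  have hdec : ∀ h ∈ H, ∃ d ∈ D, (d⁻¹ * h) * z₀ = z₀ * (d⁻¹ * h) := by
    intro h hh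
    obtain ⟨d, hd⟩ := hfsurj ⟨⟨h * z₀ * h⁻¹, conj_mem_omZ hh hz₀⟩,
      fun e => hz₀1' (conj_eq_one_iff.1 (congrArg Subtype.val e))⟩
    have e : (d : G) * z₀ * (d : G)⁻¹ = h * z₀ * h⁻¹ :=
      congrArg (fun x : {z : Z // z ≠ 1} => ((x : Z) : G)) hd
    refine ⟨d, d.2, ?_⟩
    calc (d : G)⁻¹ * h * z₀ = (d : G)⁻¹ * (h * z₀ * h⁻¹) * h := by group
      _ = (d : G)⁻¹ * (d * z₀ * (d : G)⁻¹) * h := by rw [e]
      _ = z₀ * ((d : G)⁻¹ * h) := by group
  have hR : IsPGroup 2 (centralizer ({z₀} : Set G)) := hc.isPGroup_centralizer_mem hZp hz₀ hz₀1'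
  have hPR : P ⊔ (centralizer ({z₀} : Set G) ⊓ H ⊓ N) = P := by
    refine (hP.2.2 (P ⊔ (centralizer ({z₀} : Set G) ⊓ H ⊓ N)) le_sup_left (sup_le hP.1 inf_le_right) ?_)
    exact hP.2.1.to_sup_of_normal_left' (hR.to_le (inf_le_left.trans inf_le_left))
      (inf_le_left.trans inf_le_right)
  have hHN : ∀ x ∈ H, x ∈ N → x ∈ D ⊔ P := by
    intro x hx hxN
    obtain ⟨d, hd, he⟩ := hdec x hx
    have h1 : d⁻¹ * x ∈ P := hPR.le (le_sup_right (a := P) (mem_inf.2 ⟨mem_inf.2 ⟨mem_centralizer_singleton_iff.2 he,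
      mul_mem (inv_mem (hDP hd)) hx⟩, mul_mem (N.inv_mem (hDN hd)) hxN⟩))
    simpa using mul_mem (le_sup_left (b := P) hd) (le_sup_right (a := D) h1)
  -- no element of the stabiliser normalizes the complement
  set K := centralizer ({z₀} : Set G) ⊓ normalizer (D : Set G) ⊓ H with hK
  have hKp : IsPGroup 2 K := hR.to_le (inf_le_left.trans inf_le_left)
  obtain ⟨⟨d₀, hd₀⟩, hd₀1⟩ : ∃ d : D, d ≠ 1 := by
    haveI : Nontrivial D := Finite.one_lt_card_iff_nontrivial.1 (by omega)
    exact exists_ne 1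
  have hKfix : ∀ u ∈ K, u ≠ 1 → ∀ d ∈ D, u * d = d * u → d = 1 := fun u hu hu1 d hd h =>
    hc.comm_two hKp hu hu1 (hoD d hd) h.symm
  have hKtriv : ∀ u ∈ K, u = 1 := by
    by_contra hno
    push Not at hno
    obtain ⟨u₀, hu₀, hu₀1⟩ := hno
    obtain ⟨⟨u, hu⟩, huo'⟩ := exists_prime_orderOf_dvd_card' (G := K) 2 (by
      obtain ⟨k, hk⟩ := orderOf_two_pow hKp hu₀
      refine dvd_trans ?_ (orderOf_dvd_natCard _ hu₀)
      rw [hk]
      exact dvd_pow_self 2 fun e => hu₀1 (orderOf_eq_one_iff.1 (by rw [hk, e, pow_zero])))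
    have huo : orderOf u = 2 := by rw [← orderOf_coe] at huo'; exact huo'
    have hu1 : u ≠ 1 := CfsgLib.Invol.invol_ne_one huo
    obtain ⟨⟨huz, huD⟩, huH⟩ := hu
    have huN : u ∉ N := by
      intro huN
      have huP : u ∈ P := hPR.le (le_sup_right (a := P) (mem_inf.2 ⟨mem_inf.2 ⟨huz, huH⟩, huN⟩))
      refine hd₀1 (Subtype.ext (hKfix u ⟨⟨huz, huD⟩, huH⟩ hu1 d₀ hd₀ ?_))
      have h1 : u * d₀ * u⁻¹ * d₀⁻¹ = 1 := by
        refine eq_one_of_two_of_odd hP.2.1 ?_ (hoD _ (D.mul_mem ((mem_normalizer_iff.1 huD d₀).1 hd₀) (D.inv_mem hd₀)))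
        rw [show u * d₀ * u⁻¹ * d₀⁻¹ = u * (d₀ * u⁻¹ * d₀⁻¹) by group]
        exact P.mul_mem huP ((mem_normalizer_iff.1 (hDP hd₀) _).1 (P.inv_mem huP))
      rwa [mul_inv_eq_one, mul_inv_eq_iff_eq_mul] at h1
    have hinv : ∀ d ∈ D, u * d * u⁻¹ = d⁻¹ := fun d hd =>
      inverts_of_fpf huo huD (hKfix u ⟨⟨huz, huD⟩, huH⟩ hu1) hd
    have huz' : u * z₀ = z₀ * u := mem_centralizer_singleton_iff.1 huz
    -- the fixed involutions of `u`
    have hfix : ∀ z ∈ Z, u * z = z * u → z = 1 ∨ z = z₀ := by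
      intro z hz huzz
      by_cases hz1 : z = 1
      · exact Or.inl hz1
      right
      obtain ⟨d, hd⟩ := hfsurj ⟨⟨z, hz⟩, fun e => hz1 (congrArg Subtype.val e)⟩
      have e : (d : G) * z₀ * (d : G)⁻¹ = z := congrArg (fun x : {z : Z // z ≠ 1} => ((x : Z) : G)) hd
      have h1 : (d : G)⁻¹ * z₀ * d = z := by
        calc (d : G)⁻¹ * z₀ * d = (u * d * u⁻¹) * (u * z₀ * u⁻¹) * (u * d * u⁻¹)⁻¹ := by
              rw [hinv _ d.2, huz', mul_inv_cancel_right, inv_inv]
          _ = u * (d * z₀ * (d : G)⁻¹) * u⁻¹ := by group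
          _ = z := by rw [e, huzz, mul_inv_cancel_right]
      have hd2 : (d : G) * d = 1 := by
        by_contra hne
        refine hz₀1' (hc.fpf hZp hz₀ (hoD _ (mul_mem d.2 d.2)) hne ?_)
        calc (d : G) * d * z₀ = d * (d * z₀ * (d : G)⁻¹) * d := by group
          _ = d * ((d : G)⁻¹ * z₀ * d) * d := by rw [e, h1]
          _ = z₀ * (d * d) := by group
      rw [← e, CfsgLib.Invol.eq_one_of_odd_of_mul_self (hoD _ d.2) hd2]
      simp
    have hsmall : Nat.card Z ≤ 4 := by
      let ψ : Z → Z := fun z => z * ⟨u * z * u⁻¹, conj_mem_omZ huH z.2⟩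
      have himg : ∀ z : Z, ((ψ z : Z) : G) = 1 ∨ ((ψ z : Z) : G) = z₀ := by
        intro z
        refine hfix _ (ψ z).2 ?_
        show u * (z * (u * z * u⁻¹)) = z * (u * z * u⁻¹) * u
        have hc' : (u * (z : G) * u⁻¹) * z = z * (u * z * u⁻¹) :=
          ((z.2.2.2) _ (omZ_le P (conj_mem_omZ huH z.2)))
        calc u * ((z : G) * (u * z * u⁻¹)) = u * ((u * (z : G) * u⁻¹) * z) := by rw [hc']
          _ = (u * u) * z * u⁻¹ * z := by group
          _ = z * u * z := by
            rw [CfsgLib.Invol.invol_inv huo, CfsgLib.Invol.invol_mul_self huo, one_mul]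
          _ = z * (u * z * u⁻¹) * u := by group
      have hfib : ∀ z z' : Z, ψ z = ψ z' → (((z : G) * (z' : G)) = 1 ∨ (z : G) * z' = z₀) := by
        intro z z' h
        refine hfix _ (Z.mul_mem z.2 z'.2) ?_
        have h' : (z : G) * (u * z * u⁻¹) = z' * (u * z' * u⁻¹) := congrArg Subtype.val h
        have hsq : ∀ x : Z, (x : G) * x = 1 := fun x => x.2.2.1
        have hcomm : ∀ x : Z, ∀ y ∈ P, y * (x : G) = x * y := fun x => x.2.2.2
        have h2 : (u * (z : G) * u⁻¹) * (u * z' * u⁻¹) = z * z' := by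
          have a1 : u * (z : G) * u⁻¹ = z * (z' * (u * z' * u⁻¹)) := by
            rw [← h', ← mul_assoc, hsq, one_mul]
          rw [a1, mul_assoc, mul_assoc, show (u * (z' : G) * u⁻¹) * (u * z' * u⁻¹) = u * ((z' : G) * z') * u⁻¹ by group,
            hsq, mul_one, mul_inv_cancel, mul_one]
        calc u * ((z : G) * z') = ((u * (z : G) * u⁻¹) * (u * z' * u⁻¹)) * u := by group
          _ = z * z' * u := by rw [h2]
      classical
      have h2fib : ∀ w : Z, {z : Z | ψ z = w}.ncard ≤ 2 := by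
        intro w
        rcases Set.eq_empty_or_nonempty {z : Z | ψ z = w} with h | ⟨z', hz'⟩
        · rw [h, Set.ncard_empty]; omega
        refine le_trans (Set.ncard_le_ncard (t := {z', ⟨z₀, hz₀⟩ * z'}) ?_ (Set.toFinite _))
          ((Set.ncard_insert_le _ _).trans (by rw [Set.ncard_singleton]))
        intro z hz
        have hzz : (z' : G) * z' = 1 := z'.2.2.1
        rcases hfib z z' (hz.trans hz'.symm) with e | e
        · left
          exact Subtype.ext (mul_right_cancel (e.trans hzz.symm))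
        · right
          refine Subtype.ext ?_
          show (z : G) = z₀ * z'
          rw [← e, mul_assoc, hzz, mul_one]
      have himg2 : (Set.range ψ).ncard ≤ 2 := by
        refine le_trans (Set.ncard_le_ncard (t := {1, ⟨z₀, hz₀⟩}) ?_ (Set.toFinite _)) ((Set.ncard_insert_le _ _).trans (by rw [Set.ncard_singleton]))
        rintro _ ⟨z, rfl⟩
        exact (himg z).imp (fun e => Subtype.ext e) (fun e => Subtype.ext e)
      haveI := Fintype.ofFinite Z
      rw [Nat.card_eq_fintype_card, ← Finset.card_univ]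
      calc (Finset.univ : Finset Z).card ≤ 2 * (Finset.univ.image ψ).card :=
            Finset.card_le_mul_card_image _ 2 fun w _ => by
              rw [← Set.ncard_coe_finset]
              simpa using h2fib w
        _ ≤ 4 := by
            have : (Finset.univ.image ψ).card ≤ 2 := by
              rw [← Set.ncard_coe_finset, Finset.coe_image, Finset.coe_univ, Set.image_univ]
              exact himg2
            omega
    omega
  -- conclude
  have hHle : H ≤ N := by
    intro h hh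
    have hB : cj h D ≤ D ⊔ P := fun x hx => by
      have hxd := mem_cj.1 hx
      refine hHN x ?_ ?_
      · have := H.mul_mem (H.mul_mem hh (hDP hxd)) (H.inv_mem hh)
        rwa [show h * (h⁻¹ * x * h) * h⁻¹ = x by group] at this
      · have := (inferInstance : N.Normal).conj_mem _ (hDN hxd) h
        rwa [show h * (h⁻¹ * x * h) * h⁻¹ = x by group] at this
    obtain ⟨p, hp, hconj⟩ := CfsgLib.Coprime.sz_conj_in (A := D) (B := cj h D) (N := P) hDP
      (by
        obtain ⟨k, hk⟩ := IsPGroup.iff_card.1 hP.2.1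
        rw [hk]
        exact (Nat.coprime_two_left.2 hDodd).pow_left k)
      hB (card_cj h D) (Or.inr (by haveI := hP.2.1.isNilpotent; infer_instance))
    have hn : p * h ∈ normalizer (D : Set G) := by
      rw [← cj_eq_self_iff, ← cj_mul]
      exact hconj
    have hph : p * h ∈ H := mul_mem (le_normalizer hp) hh
    obtain ⟨d, hd, he⟩ := hdec _ hph
    have h1 : d⁻¹ * (p * h) ∈ K := mem_inf.2 ⟨mem_inf.2 ⟨mem_centralizer_singleton_iff.2 he,
      mul_mem (inv_mem (le_normalizer hd)) hn⟩, mul_mem (inv_mem (hDP hd)) hph⟩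
    have h2 := hKtriv _ h1
    rw [inv_mul_eq_one] at h2
    have : h = p⁻¹ * d := by rw [h2, inv_mul_cancel_left]
    rw [this]
    exact mul_mem (N.inv_mem (hP.1 hp)) (hDN hd)
  have h := hP.frattini
  rw [sup_eq_right.2 hHle] at h
  exact h

/-- An odd prime outside the normal subgroup divides the number of central involutions. -/
theorem IsCIT.dvd_omZ_sub_one (hc : IsCIT G) [N.Normal] (hP : IsSyl N P) {r : ℕ} (hr : r.Prime)
    (hr2 : r ≠ 2) (hrG : r ∣ Nat.card G) (hrN : ¬ r ∣ Nat.card N) :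
    r ∣ Nat.card (omZ P) - 1 := by
  haveI : Fact r.Prime := ⟨hr⟩
  have hrH : r ∣ Nat.card (normalizer (P : Set G)) := by
    have h : Nat.card G ∣ Nat.card (normalizer (P : Set G)) * Nat.card N := by
      have h1 := card_mul_index N
      rw [← h1, mul_comm (Nat.card (normalizer (P : Set G)))]
      refine mul_dvd_mul_left _ ?_
      rw [← relIndex_top_right, ← hP.frattini, relIndex_sup_right]
      exact relIndex_dvd_card _ _
    exact ((hr.dvd_mul).1 (hrG.trans h)).resolve_right hrN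
  obtain ⟨⟨y, hy⟩, hyo'⟩ := exists_prime_orderOf_dvd_card' (G := normalizer (P : Set G)) r hrH
  have hyo : orderOf y = r := by rw [← orderOf_coe] at hyo'; exact hyo'
  have hyodd : Odd (orderOf y) := hyo ▸ hr.odd_of_ne_two hr2
  have hle : zpowers y ≤ normalizer (omZ P : Set G) := zpowers_le.2 (by
    refine mem_normalizer_iff.2 fun x => ⟨fun hx => conj_mem_omZ hy hx, fun hx => ?_⟩
    have h := conj_mem_omZ (inv_mem hy) hx
    rwa [show y⁻¹ * (y * x * y⁻¹) * y⁻¹⁻¹ = x by group] at h)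
  have hfp : CfsgLib.Coprime.IsFpfOn (zpowers y) (omZ P) := by
    intro a ha ha1
    rw [eq_bot_iff]
    rintro v ⟨hv, hva⟩
    exact mem_bot.2 (hc.fpf (isPGroup_omZ hP.2.1) hv (hyodd.of_dvd_nat (orderOf_dvd_of_mem_zpowers ha)) ha1
      (mem_centralizer_singleton_iff.1 hva).symm)
  have h := hfp.card_mod hle
  rw [Nat.card_zpowers, hyo] at h
  exact (Nat.modEq_iff_dvd' Nat.card_pos).1 h.symm

end CfsgLib.CIT
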