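import Cfsg.Agent.Lib.CIT.Local

/-!
# A key subgroup shared by intersecting Sylow 2-subgroups forces TI Sylow 2-subgroups

If some function `key` of Sylow 2-subgroups only depends on the radical inside it, intersecting Sylow
subgroups have the same key; the normalizer of the key is then strongly embedded with nontrivial
2-core, which forces the Sylow 2-subgroup to be normal in it.
-/

set_option autoImplicit false
set_option linter.unusedSectionVars false
set_option linter.style.haveILetI false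

namespace CfsgLib.CIT

open Subgroup

universe u

variable {G : Type u} [Group G] [Finite G]

local notation "N[" X "]" => normalizer ((X : Subgroup G) : Set G)

/-- An involution outside `O₂` inverts a nontrivial element of odd order. -/
theorem exists_inverted_of_notMem {H : Subgroup G} {t : G} (ht : t ∈ H) (ho : orderOf t = 2)
    (hn : t ∉ Cfsg.pCoreOf 2 H) :
    ∃ x ∈ H, x ≠ 1 ∧ Odd (orderOf x) ∧ t * x * t⁻¹ = x⁻¹ := by
  obtain ⟨x, hx1, hx2, hx3⟩ := CfsgLib.Invol.exists_odd_inverted_of_notMem_pCore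
    (a := (⟨t, ht⟩ : H)) (by rwa [Subgroup.orderOf_mk]) (fun h => hn ⟨_, h, rfl⟩)
  exact ⟨x, x.2, fun e => hx1 (Subtype.ext e), by rwa [orderOf_coe], congrArg Subtype.val hx3⟩

/-- A 2-element outside `O₂` with square inside gives an involution in its coset. -/
theorem IsCIT.exists_invol_of_sq_mem (hc : IsCIT G) {H : Subgroup G} {t : G} (ht : t ∈ H)
    (hn : t ∉ Cfsg.pCoreOf 2 H) (h2 : t * t ∈ Cfsg.pCoreOf 2 H) :
    ∃ s x : G, s ∈ H ∧ x ∈ H ∧ s * t⁻¹ ∈ Cfsg.pCoreOf 2 H ∧ orderOf s = 2 ∧ x ≠ 1 ∧ Odd (orderOf x) ∧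
      s * x * s⁻¹ = x⁻¹ := by
  haveI : Fact (Nat.Prime 2) := ⟨Nat.prime_two⟩
  haveI hDn := CfsgLib.Coprime.pCore_normal' (G := H) 2
  set D := Cfsg.pCore 2 H
  have hmem : ∀ x : H, x ∈ D ↔ (x : G) ∈ Cfsg.pCoreOf 2 H := fun x =>
    ⟨fun h => ⟨x, h, rfl⟩, fun ⟨y, hy, e⟩ => by rwa [← Subtype.ext (e : (y : G) = x)]⟩
  set t' : H := ⟨t, ht⟩
  have htD : t' ∉ D := fun h => hn ((hmem t').1 h)
  have h2D : t' * t' ∈ D := (hmem _).2 h2
  have ho : orderOf (QuotientGroup.mk' D t') = 2 := orderOf_eq_prime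
    (by rw [← map_pow, pow_two]; exact (QuotientGroup.eq_one_iff _).2 h2D)
    (fun e => htD ((QuotientGroup.eq_one_iff _).1 e))
  obtain ⟨xq, hx1, hx2, hx3⟩ := CfsgLib.Invol.exists_odd_inverted_of_notMem_pCore ho (by
    rw [CfsgLib.Coprime.pCore_quotient_eq_bot 2]
    exact fun h => htD ((QuotientGroup.eq_one_iff _).1 (mem_bot.1 h)))
  obtain ⟨x₀, rfl⟩ := QuotientGroup.mk'_surjective D xq
  obtain ⟨x, hxo, he⟩ := exists_odd_preimage _ hx2
  rw [← he] at hx1 hx3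
  have hcore : t' * x * t'⁻¹ * x ∈ D := (QuotientGroup.eq_one_iff (N := D) _).1 (by
    show QuotientGroup.mk' D _ = 1
    rw [map_mul, map_mul, map_mul, map_inv, hx3, inv_mul_cancel])
  obtain ⟨s, hs1, hs2, hs3⟩ := (hc.subgroup H).exists_lift_inverting (CfsgLib.Coprime.pCore_isPGroup 2)
    hxo (fun e => hx1 (by rw [e, map_one])) htD h2D hcore
  exact ⟨s, x, s.2, x.2, (hmem _).1 hs1, by rwa [orderOf_coe], fun e => hx1 (by
    rw [show x = 1 from Subtype.ext e, map_one]), by rwa [orderOf_coe], congrArg Subtype.val hs3⟩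

/-- An element of a 2-group outside a subgroup has a power outside with square inside. -/
theorem exists_sq_mem {P D : Subgroup G} (hP : IsPGroup 2 P) (h : ¬ P ≤ D) :
    ∃ t ∈ P, t ∉ D ∧ t * t ∈ D := by
  classical
  obtain ⟨x, hx, hxD⟩ := SetLike.not_le_iff_exists.1 h
  obtain ⟨k, hk⟩ := orderOf_two_pow hP hx
  have hex : ∃ j, x ^ 2 ^ j ∈ D := ⟨k, by rw [← hk, pow_orderOf_eq_one]; exact D.one_mem⟩
  rcases Nat.eq_zero_or_pos (Nat.find hex) with h0 | h0
  · exact absurd (by simpa [h0] using Nat.find_spec hex) hxD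
  · refine ⟨x ^ 2 ^ (Nat.find hex - 1), P.pow_mem hx _, Nat.find_min hex (by omega), ?_⟩
    rw [← pow_add, ← two_mul, ← pow_succ', Nat.sub_add_cancel h0]
    exact Nat.find_spec hex

/-- Intersecting Sylow 2-subgroups share the key. -/
theorem key_eq {key f : Subgroup G → Subgroup G}
    (hkey : ∀ E U T : Subgroup G, IsRad E → IsSyl N[E] U → IsSyl ⊤ T → U ≤ T → key T = f E)
    {T T' : Subgroup G} (hT : IsSyl ⊤ T) (hT' : IsSyl ⊤ T') (h : T ⊓ T' ≠ ⊥) : key T = key T' := by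
  suffices H : ∀ (n : ℕ) (T T' : Subgroup G), IsSyl ⊤ T → IsSyl ⊤ T' → T ⊓ T' ≠ ⊥ →
      Nat.card G - Nat.card (T ⊓ T' : Subgroup G) = n → key T = key T' from H _ T T' hT hT' h rfl
  intro n
  induction n using Nat.strong_induction_on with
  | _ n ih =>
  intro T T' hT hT' h hn
  by_cases hne : T = T'
  · rw [hne]
  set X := T ⊓ T'
  have hX : IsPGroup 2 X := hT.2.1.to_le inf_le_left
  have step : ∀ S S₁ : Subgroup G, IsSyl ⊤ S → IsSyl ⊤ S₁ → X ≤ S → X ≠ S →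
      S ⊓ N[X] ≤ S₁ → key S = key S₁ := by
    intro S S₁ hS hS₁ hle hne' hN
    obtain ⟨x, hx, hxX, hxn⟩ := exists_normalizing_notMem hS.2.1 hle hne'
    have hlt : X < S ⊓ S₁ := lt_of_le_of_ne (le_inf hle ((le_inf hle le_normalizer).trans hN))
      (fun e => hxX (e.ge ⟨hx, hN ⟨hx, hxn⟩⟩))
    refine ih _ ?_ S S₁ hS hS₁ (fun e => h (le_bot_iff.1 (hlt.le.trans e.le))) rfl
    have hlt' : Nat.card X < Nat.card (S ⊓ S₁ : Subgroup G) := by
      refine lt_of_le_of_ne (card_le_of_le hlt.le) fun e => hlt.ne ?_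
      exact eq_of_le_of_card_ge hlt.le e.ge
    have := card_le_card_group (S ⊓ S₁ : Subgroup G)
    omega
  have hXT : X ≠ T := fun e => hne (hT.eq_of_le hT' (e ▸ inf_le_right))
  have hXT' : X ≠ T' := fun e => hne (hT'.eq_of_le hT (e ▸ inf_le_left)).symm
  obtain ⟨U, hU, hUT⟩ := exists_syl (hT.2.1.to_le inf_le_left) (inf_le_right : T ⊓ N[X] ≤ N[X])
  obtain ⟨U', hU', hUT'⟩ := exists_syl (hT'.2.1.to_le inf_le_left) (inf_le_right : T' ⊓ N[X] ≤ N[X])
  by_cases hUU : U = U'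
  · obtain ⟨S, hS, hUS⟩ := exists_syl_top hU.2.1
    rw [step T S hT hS inf_le_left hXT (hUT.trans hUS),
      step T' S hT' hS inf_le_right hXT' (hUT'.trans (hUU ▸ hUS))]
  · obtain ⟨E, W, W', hE, hW, hW', -, hUW, hU'W⟩ := exists_rad hX h hU hU' hUU
    obtain ⟨S, hS, hWS⟩ := exists_syl_top hW.2.1
    obtain ⟨S', hS', hWS'⟩ := exists_syl_top hW'.2.1
    rw [step T S hT hS inf_le_left hXT (hUT.trans (hUW.trans hWS)),
      step T' S' hT' hS' inf_le_right hXT' (hUT'.trans (hU'W.trans hWS')),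
      hkey E W S hE hW hS hWS, hkey E W' S' hE hW' hS' hWS']

/-- The Sylow 2-subgroups are TI as soon as a key exists. -/
theorem ti_of_key (hc : IsCIT G) (hO : NoCore G) {key f : Subgroup G → Subgroup G}
    (hkey : ∀ E U T : Subgroup G, IsRad E → IsSyl N[E] U → IsSyl ⊤ T → U ≤ T → key T = f E)
    (hle : ∀ T : Subgroup G, IsSyl ⊤ T → key T ≤ T ∧ key T ≠ ⊥ ∧ T ≤ N[key T])
    (hequiv : ∀ (g : G) (T : Subgroup G), IsSyl ⊤ T → key (cj g T) = cj g (key T))
    {T T' : Subgroup G} (hT : IsSyl ⊤ T) (hT' : IsSyl ⊤ T') (h : T ⊓ T' ≠ ⊥) : T = T' := by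
  obtain ⟨hkT, hk1, hkN⟩ := hle T hT
  have hkp : IsPGroup 2 (key T) := hT.2.1.to_le hkT
  set M := N[key T] with hM
  have hMtop : M ≠ ⊤ := hO _ hkp hk1
  have hTM : IsSyl M T := hT.restrict hkN
  -- every involution of `M` lies in a Sylow subgroup of `G` with the same key
  have hsame : ∀ z ∈ M, orderOf z = 2 → ∃ W, IsSyl ⊤ W ∧ z ∈ W ∧ key W = key T := by
    intro z hz hzo
    obtain ⟨W, hW, hzW⟩ := exists_syl (Q := zpowers z)
      (IsPGroup.of_card (p := 2) (n := 1) (by rw [Nat.card_zpowers, hzo, pow_one])) (zpowers_le.2 hz)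
    obtain ⟨m, hm, rfl⟩ := hTM.exists_conj hW
    exact ⟨cj m T, hT.cj_top m, hzW (mem_zpowers z), by rw [hequiv m T hT, cj_eq_self_iff.2 hm]⟩
  have hse : ∀ z ∈ M, orderOf z = 2 → ∀ g : G, g * z * g⁻¹ ∈ M → g ∈ M := by
    intro z hz hzo g hg
    obtain ⟨W, hW, hzW, hkW⟩ := hsame z hz hzo
    obtain ⟨W', hW', hzW', hkW'⟩ := hsame _ hg (CfsgLib.Invol.invol_conj hzo g)
    have hne : cj g W ⊓ W' ≠ ⊥ := fun e => CfsgLib.Invol.invol_ne_one (CfsgLib.Invol.invol_conj hzo g)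
      (mem_bot.1 (e ▸ (⟨conj_mem_cj.2 hzW, hzW'⟩ : g * z * g⁻¹ ∈ cj g W ⊓ W')))
    have e := key_eq hkey (hW.cj_top g) hW' hne
    rw [hequiv g W hW, hkW, hkW', cj_eq_self_iff] at e
    exact e
  have hcM : ∀ z ∈ M, orderOf z = 2 → ∀ g : G, g * z = z * g → g ∈ M := fun z hz hzo g hg =>
    hse z hz hzo g (by rwa [hg, mul_inv_cancel_right])
  have hodd : ∀ u ∈ M, orderOf u = 2 → ∀ v : G, v ∉ M → orderOf v = 2 → IsConj u v := by
    intro u hu huo v hv hvo
    refine CfsgLib.Invol.isConj_of_odd huo hvo (Nat.not_even_iff_odd.1 fun he => hv ?_)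
    have hcu : Commute u ((u * v) ^ (orderOf (u * v) / 2)) :=
      (CfsgLib.Invol.commute_pow_half (CfsgLib.Invol.invol_conj_mul huo hvo) he).symm
    have hcv : Commute v ((u * v) ^ (orderOf (u * v) / 2)) :=
      (CfsgLib.Invol.commute_pow_half (CfsgLib.Invol.invol_conj_mul' huo hvo) he).symm
    exact hcM _ (hcM u hu huo _ hcu.symm.eq) (CfsgLib.Invol.orderOf_pow_half he) v hcv.eq
  obtain ⟨⟨z₀, hz₀⟩, hz₀1⟩ := ne_bot_iff_exists_ne_one.1 hk1
  obtain ⟨z, hzk, hzo⟩ : ∃ z ∈ key T, orderOf z = 2 := by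
    obtain ⟨k, hk⟩ := orderOf_two_pow hkp hz₀
    refine ⟨z₀ ^ (orderOf z₀ / 2), (key T).pow_mem hz₀ _,
      orderOf_pow_orderOf_div (orderOf_pos z₀).ne' ?_⟩
    rw [hk]
    refine dvd_pow_self 2 fun e => hz₀1 (Subtype.ext (orderOf_eq_one_iff.1 ?_))
    rw [hk, e, pow_zero]
  set O := Cfsg.pCoreOf 2 M with hOdef
  have hkO : key T ≤ O := le_pc le_normalizer hkp le_rfl
  obtain ⟨g, hg⟩ : ∃ g, g ∉ M := by
    by_contra hall
    push Not at hall
    exact hMtop ((eq_top_iff' M).2 hall)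
  have hzM : z ∈ M := pc_le _ (hkO hzk)
  -- all involutions of `M` lie in `O₂(M)`
  have hinO : ∀ u ∈ M, orderOf u = 2 → u ∈ O := by
    intro u hu huo
    have hv : g * z * g⁻¹ ∉ M := fun h => hg (hse z hzM hzo g h)
    obtain ⟨m, hm⟩ := isConj_iff.1 ((hodd z hzM hzo _ hv (CfsgLib.Invol.invol_conj hzo g)).trans
      (hodd u hu huo _ hv (CfsgLib.Invol.invol_conj hzo g)).symm)
    have hmM : m ∈ M := hse z hzM hzo m (hm ▸ hu)
    rw [← hm]
    exact normalizer_conj_mem (le_normalizer_pc M hmM) (hkO hzk)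
  have hTO : T = O := by
    refine le_antisymm ?_ hTM.pc_le
    by_contra hnle
    obtain ⟨t, ht, htO, ht2⟩ := exists_sq_mem hT.2.1 hnle
    obtain ⟨s, x, hs, -, hst, hso, -⟩ := hc.exists_invol_of_sq_mem (hTM.1 ht) htO ht2
    exact htO (by simpa [← mul_assoc] using O.mul_mem (O.inv_mem hst) (hinO s hs hso))
  have hT'M : IsSyl M T' := hT'.restrict (by
    obtain ⟨-, -, h3⟩ := hle T' hT'
    rwa [← key_eq hkey hT hT' h] at h3)
  exact hTM.eq_of_le hT'M (hTO ▸ hT'M.pc_le)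

end CfsgLib.CIT
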