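import Cfsg.Prelude.Def_Amalgam
import Cfsg.Agent.Lib.CIT.Basic

/-!
# Sylow 2-subgroups of 2-local subgroups of CIT groups

`IsSyl H U`: `U` is a maximal 2-subgroup of `H`.  A radical is a nontrivial 2-subgroup `E` equal to
`O₂(N(E))` whose normalizer has more than one Sylow 2-subgroup.  `jAb` is the Thompson subgroup
generated by the abelian subgroups of largest order.
-/

set_option autoImplicit false
set_option linter.unusedSectionVars false
set_option linter.style.haveILetI false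

namespace CfsgLib.CIT

open Subgroup

universe u

variable {G : Type u} [Group G]

local notation "N[" X "]" => normalizer ((X : Subgroup G) : Set G)

/-- A maximal 2-subgroup of `H`. -/
def IsSyl (H U : Subgroup G) : Prop :=
  U ≤ H ∧ IsPGroup 2 U ∧ ∀ V : Subgroup G, U ≤ V → V ≤ H → IsPGroup 2 V → V = U

/-- Distinct Sylow 2-subgroups of `H` meet inside `O₂(H)`. -/
def IsTIMod (H : Subgroup G) : Prop :=
  ∀ U U' : Subgroup G, IsSyl H U → IsSyl H U' → U ≠ U' → U ⊓ U' ≤ Cfsg.pCoreOf 2 H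

/-- All proper subgroups with nontrivial `O₂` are TI modulo `O₂`. -/
def ProperTI (G : Type u) [Group G] : Prop :=
  ∀ H : Subgroup G, H ≠ ⊤ → Cfsg.pCoreOf 2 H ≠ ⊥ → IsTIMod H

/-- No nontrivial normal 2-subgroup. -/
def NoCore (G : Type u) [Group G] : Prop :=
  ∀ X : Subgroup G, IsPGroup 2 X → X ≠ ⊥ → normalizer (X : Set G) ≠ ⊤

/-- A radical 2-subgroup whose normalizer is not 2-closed. -/
structure IsRad (E : Subgroup G) : Prop where
  two : IsPGroup 2 E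
  ne : E ≠ ⊥
  core : Cfsg.pCoreOf 2 N[E] = E
  two_syl : ∀ U : Subgroup G, IsSyl N[E] U → ∃ U', IsSyl N[E] U' ∧ U' ≠ U

theorem le_normalizer_of_forall {H K : Subgroup G} (h : ∀ x ∈ H, ∀ y ∈ K, x * y * x⁻¹ ∈ K) :
    H ≤ N[K] := by
  intro x hx
  refine mem_normalizer_iff.2 fun y => ⟨h x hx y, fun hy => ?_⟩
  simpa [mul_assoc] using h x⁻¹ (inv_mem hx) _ hy

theorem normalizer_conj_mem {K : Subgroup G} {x y : G} (hx : x ∈ N[K]) (hy : y ∈ K) : x * y * x⁻¹ ∈ K :=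
  (mem_normalizer_iff.1 hx y).1 hy

theorem pc_le (H : Subgroup G) : Cfsg.pCoreOf 2 H ≤ H := map_subtype_le _

theorem le_normalizer_pc (H : Subgroup G) : H ≤ N[Cfsg.pCoreOf 2 H] := by
  haveI := CfsgLib.Coprime.pCore_normal' (G := H) 2
  refine le_normalizer_of_forall fun h hh x hx => ?_
  obtain ⟨z, hz, rfl⟩ := hx
  exact ⟨⟨h, hh⟩ * z * ⟨h, hh⟩⁻¹, Subgroup.Normal.conj_mem inferInstance z hz _, rfl⟩

theorem le_pc {R H : Subgroup G} (hRH : R ≤ H) (hR : IsPGroup 2 R) (hHR : H ≤ N[R]) :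
    R ≤ Cfsg.pCoreOf 2 H := by
  haveI : (R.subgroupOf H).Normal := (normal_subgroupOf_iff_le_normalizer hRH).2 hHR
  intro r hr
  exact ⟨⟨r, hRH hr⟩, CfsgLib.Coprime.le_pCore (N := R.subgroupOf H) hR.comap_subtype
    (show r ∈ R from hr), rfl⟩

variable [Finite G]

theorem isPGroup_pc (H : Subgroup G) : IsPGroup 2 (Cfsg.pCoreOf 2 H) :=
  haveI : Fact (Nat.Prime 2) := ⟨Nat.prime_two⟩
  (CfsgLib.Coprime.pCore_isPGroup 2).map _

theorem exists_syl {Q H : Subgroup G} (hQ : IsPGroup 2 Q) (hQH : Q ≤ H) :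
    ∃ U, IsSyl H U ∧ Q ≤ U := by
  obtain ⟨U, hQU, hU⟩ := Set.Finite.exists_le_maximal
    (Set.toFinite {U : Subgroup G | U ≤ H ∧ IsPGroup 2 U}) (a := Q) ⟨hQH, hQ⟩
  exact ⟨U, ⟨hU.1.1, hU.1.2, fun V hUV hVH hV => le_antisymm (hU.2 ⟨hVH, hV⟩ hUV) hUV⟩, hQU⟩

theorem exists_syl_top {Q : Subgroup G} (hQ : IsPGroup 2 Q) : ∃ T, IsSyl ⊤ T ∧ Q ≤ T :=
  exists_syl hQ le_top

theorem IsSyl.inf_eq {H U W : Subgroup G} (hU : IsSyl H U) (hUW : U ≤ W) (hW : IsPGroup 2 W) :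
    W ⊓ H = U :=
  hU.2.2 _ (le_inf hUW hU.1) inf_le_right (hW.to_le inf_le_left)

theorem IsSyl.ne_of_le {H U U' W W' : Subgroup G} (hU : IsSyl H U) (hU' : IsSyl H U') (hne : U ≠ U')
    (hUW : U ≤ W) (hU'W : U' ≤ W') (hW : IsPGroup 2 W) : W ≠ W' :=
  fun e => hne ((hU.inf_eq hUW hW).symm.trans (hU'.inf_eq (e ▸ hU'W) hW))

theorem IsSyl.restrict {H T : Subgroup G} (hT : IsSyl ⊤ T) (h : T ≤ H) : IsSyl H T :=
  ⟨h, hT.2.1, fun V hV _ hp => hT.2.2 V hV le_top hp⟩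

theorem IsSyl.eq_of_le {H U V : Subgroup G} (hU : IsSyl H U) (hV : IsSyl H V) (h : U ≤ V) : U = V :=
  (hU.2.2 V h hV.1 hV.2.1).symm

theorem isSyl_cj {H U : Subgroup G} (hU : IsSyl H U) (g : G) : IsSyl (cj g H) (cj g U) := by
  refine ⟨cj_mono hU.1, isPGroup_cj hU.2.1, fun V hUV hV hp => ?_⟩
  have h := hU.2.2 (cj g⁻¹ V) (by simpa [cj_mul, cj_one] using cj_mono (g := g⁻¹) hUV)
    (by simpa [cj_mul, cj_one] using cj_mono (g := g⁻¹) hV) (isPGroup_cj hp)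
  rw [← h, cj_mul, mul_inv_cancel, cj_one]

theorem cj_top (g : G) : cj g (⊤ : Subgroup G) = ⊤ :=
  (eq_top_iff' _).2 fun x => mem_cj.2 (mem_top _)

theorem IsSyl.cj_top {T : Subgroup G} (hT : IsSyl ⊤ T) (g : G) : IsSyl ⊤ (cj g T) :=
  CfsgLib.CIT.cj_top g ▸ isSyl_cj hT g

/-- The Sylow subgroup inside `H`. -/
noncomputable def IsSyl.toSylow {H U : Subgroup G} (hU : IsSyl H U) : Sylow 2 H where
  toSubgroup := U.subgroupOf H
  isPGroup' := hU.2.1.comap_subtype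
  is_maximal' := fun {Q} hQ hle => by
    have h1 : Q.map H.subtype = U := hU.2.2 _ (by
      rw [← map_subgroupOf_eq_of_le hU.1]; exact map_mono hle) (map_subtype_le _) (hQ.map _)
    rw [← h1]
    exact (comap_map_eq_self_of_injective H.subtype_injective Q).symm

theorem IsSyl.exists_conj {H U V : Subgroup G} (hU : IsSyl H U) (hV : IsSyl H V) :
    ∃ h ∈ H, cj h U = V := by
  haveI : Fact (Nat.Prime 2) := ⟨Nat.prime_two⟩
  obtain ⟨h, he⟩ := MulAction.exists_smul_eq H hU.toSylow hV.toSylow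
  refine ⟨h, h.2, le_antisymm ?_ ?_⟩
  · intro x hx
    have h1 : (⟨(h : G)⁻¹ * x * h, hU.1 (mem_cj.1 hx)⟩ : H) ∈ (hU.toSylow : Subgroup H) := mem_cj.1 hx
    have h2 : h * ⟨(h : G)⁻¹ * x * h, hU.1 (mem_cj.1 hx)⟩ * h⁻¹ ∈ (hV.toSylow : Subgroup H) := by
      rw [← he, Sylow.coe_subgroup_smul, Subgroup.mem_smul_pointwise_iff_exists]
      exact ⟨_, h1, rfl⟩
    have h3 : ((h : G) * ((h : G)⁻¹ * x * h) * (h : G)⁻¹) ∈ V := h2
    rwa [show (h : G) * ((h : G)⁻¹ * x * h) * (h : G)⁻¹ = x by group] at h3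
  · intro x hx
    have h1 : (⟨x, hV.1 hx⟩ : H) ∈ ((h • hU.toSylow : Sylow 2 H) : Subgroup H) := by
      rw [he]; exact hx
    rw [Sylow.coe_subgroup_smul, Subgroup.mem_smul_pointwise_iff_exists] at h1
    obtain ⟨u, hu, e⟩ := h1
    have e' : (h : G) * u * (h : G)⁻¹ = x := congrArg Subtype.val e
    rw [← e']
    exact conj_mem_cj.2 hu

theorem IsSyl.pc_le {H U : Subgroup G} (hU : IsSyl H U) : Cfsg.pCoreOf 2 H ≤ U := by
  haveI : Fact (Nat.Prime 2) := ⟨Nat.prime_two⟩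
  have h := CfsgLib.Coprime.pCore_le_sylow hU.toSylow
  rintro _ ⟨x, hx, rfl⟩
  exact h hx

/-- Normalizers grow in 2-groups. -/
theorem exists_normalizing_notMem {P E : Subgroup G} (hP : IsPGroup 2 P) (hle : E ≤ P) (hne : E ≠ P) :
    ∃ x ∈ P, x ∉ E ∧ x ∈ N[E] := by
  haveI : Fact (Nat.Prime 2) := ⟨Nat.prime_two⟩
  haveI := hP.isNilpotent
  have hlt : E.subgroupOf P < ⊤ := lt_top_iff_ne_top.2 fun e =>
    hne (le_antisymm hle (subgroupOf_eq_top.1 e))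
  obtain ⟨⟨x, hx⟩, hx1, hx2⟩ := SetLike.exists_of_lt (Group.normalizerCondition_of_isNilpotent _ hlt)
  refine ⟨x, hx, hx2, mem_normalizer_iff.2 fun y => ⟨fun hy => ?_, fun hy => ?_⟩⟩
  · exact (mem_normalizer_iff.1 hx1 ⟨y, hle hy⟩).1 hy
  · have hyP : y ∈ P := by
      have := P.mul_mem (P.mul_mem (P.inv_mem hx) (hle hy)) hx
      rwa [show x⁻¹ * (x * y * x⁻¹) * x = y by group] at this
    exact (mem_normalizer_iff.1 hx1 ⟨y, hyP⟩).2 hy

theorem eq_of_inf_normalizer_le {P E : Subgroup G} (hP : IsPGroup 2 P) (hle : E ≤ P)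
    (h : P ⊓ N[E] ≤ E) : E = P :=
  by_contra fun hne => by
    obtain ⟨x, hx, hxE, hxn⟩ := exists_normalizing_notMem hP hle hne
    exact hxE (h ⟨hx, hxn⟩)

/-- Two Sylow subgroups of a normalizer lie in two Sylow subgroups of the normalizer of a radical. -/
theorem exists_rad {X U U' : Subgroup G} (hX : IsPGroup 2 X) (hX1 : X ≠ ⊥) (hU : IsSyl N[X] U)
    (hU' : IsSyl N[X] U') (hne : U ≠ U') :
    ∃ E W W', IsRad E ∧ IsSyl N[E] W ∧ IsSyl N[E] W' ∧ W ≠ W' ∧ U ≤ W ∧ U' ≤ W' := by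
  obtain ⟨E, hXE, hE⟩ := Set.Finite.exists_le_maximal
    (Set.toFinite {Y : Subgroup G | IsPGroup 2 Y ∧ X ≤ Y ∧ N[X] ≤ N[Y]}) (a := X) ⟨hX, le_rfl, le_rfl⟩
  obtain ⟨⟨hEp, hXE', hNE⟩, hmax⟩ := hE
  have hEne : E ≠ ⊥ := fun e => hX1 (le_bot_iff.1 (e ▸ hXE'))
  have hle : E ≤ Cfsg.pCoreOf 2 N[E] := le_pc le_normalizer hEp le_rfl
  have hcore : Cfsg.pCoreOf 2 N[E] = E :=
    le_antisymm (hmax ⟨isPGroup_pc _, hXE.trans hle, hNE.trans (le_normalizer_pc _)⟩ hle) hle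
  obtain ⟨W, hW, hUW⟩ := exists_syl hU.2.1 (hU.1.trans hNE)
  obtain ⟨W', hW', hU'W⟩ := exists_syl hU'.2.1 (hU'.1.trans hNE)
  have hWne := hU.ne_of_le hU' hne hUW hU'W hW.2.1
  refine ⟨E, W, W', ⟨hEp, hEne, hcore, fun V hV => ?_⟩, hW, hW', hWne, hUW, hU'W⟩
  by_cases h : W = V
  · exact ⟨W', hW', fun e => hWne (h.trans e.symm)⟩
  · exact ⟨W, hW, h⟩

theorem IsRad.le_normalizer_syl {E U : Subgroup G} (hE : IsRad E) (hU : IsSyl N[E] U) : E ≤ U :=
  hE.core.ge.trans hU.pc_le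

theorem IsRad.syl_ne {E U : Subgroup G} (hE : IsRad E) (hU : IsSyl N[E] U) : U ≠ E := fun e => by
  subst e
  obtain ⟨U', hU', hne⟩ := hE.two_syl _ hU
  exact hne (hU.eq_of_le hU' (hE.le_normalizer_syl hU')).symm

theorem IsRad.centralizer_le (hc : IsCIT G) {E : Subgroup G} (hE : IsRad E) :
    centralizer (E : Set G) ≤ E := by
  refine (le_pc ?_ (hc.isPGroup_centralizer hE.two hE.ne) ?_).trans hE.core.le
  · exact centralizer_le_normalizer (E : Set G)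
  · refine le_normalizer_of_forall fun g hg x hx => mem_centralizer_iff.2 fun e he => ?_
    have he' : g⁻¹ * e * g ∈ E := by
      have := normalizer_conj_mem (inv_mem hg) he
      rwa [inv_inv] at this
    calc e * (g * x * g⁻¹) = g * ((g⁻¹ * e * g) * x) * g⁻¹ := by group
      _ = g * (x * (g⁻¹ * e * g)) * g⁻¹ := by rw [mem_centralizer_iff.1 hx _ he']
      _ = g * x * g⁻¹ * e := by group

/-! ### The Thompson subgroup -/

/-- An abelian subgroup of largest order. -/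
def IsMaxAb (T A : Subgroup G) : Prop :=
  A ≤ T ∧ IsMulCommutative A ∧ ∀ B : Subgroup G, B ≤ T → IsMulCommutative B → Nat.card B ≤ Nat.card A

/-- The subgroup generated by the abelian subgroups of largest order. -/
def jAb (T : Subgroup G) : Subgroup G := sSup {A | IsMaxAb T A}

theorem exists_isMaxAb (T : Subgroup G) : ∃ A, IsMaxAb T A := by
  obtain ⟨A, hA, hmax⟩ := Set.exists_max_image {A : Subgroup G | A ≤ T ∧ IsMulCommutative A}
    (fun A => Nat.card A) (Set.toFinite _) ⟨⊥, bot_le, inferInstance⟩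
  exact ⟨A, hA.1, hA.2, fun B hB hB' => hmax B ⟨hB, hB'⟩⟩

theorem jAb_le (T : Subgroup G) : jAb T ≤ T := sSup_le fun _ h => h.1

theorem le_jAb {T A : Subgroup G} (h : IsMaxAb T A) : A ≤ jAb T := le_sSup h

theorem jAb_eq_of_le {T X : Subgroup G} (hXT : X ≤ T) (h : jAb T ≤ X) : jAb X = jAb T := by
  obtain ⟨A, hA⟩ := exists_isMaxAb T
  refine le_antisymm (sSup_le fun B hB => le_jAb ⟨hB.1.trans hXT, hB.2.1, fun C hC hC' => ?_⟩)
    (sSup_le fun B hB => le_jAb ⟨(le_jAb hB).trans h, hB.2.1, fun C hC hC' => hB.2.2 C (hC.trans hXT) hC'⟩)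
  exact (hA.2.2 C hC hC').trans (hB.2.2 A ((le_jAb hA).trans h) hA.2.1)

theorem isMulCommutative_cj {A : Subgroup G} (g : G) [IsMulCommutative A] : IsMulCommutative (cj g A) :=
  ⟨⟨fun a b => by
    obtain ⟨x, hx, ex⟩ := a.2
    obtain ⟨y, hy, ey⟩ := b.2
    refine Subtype.ext ?_
    show (a : G) * b = b * a
    rw [← ex, ← ey, ← map_mul, ← map_mul]
    exact congrArg _ (congrArg Subtype.val (mul_comm' (⟨x, hx⟩ : A) ⟨y, hy⟩))⟩⟩

theorem isMaxAb_cj {T A : Subgroup G} (h : IsMaxAb T A) (g : G) : IsMaxAb (cj g T) (cj g A) := by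
  haveI := h.2.1
  refine ⟨cj_mono h.1, isMulCommutative_cj g, fun B hB hB' => ?_⟩
  haveI := hB'
  have := h.2.2 (cj g⁻¹ B) (by simpa [cj_mul, cj_one] using cj_mono (g := g⁻¹) hB) (isMulCommutative_cj _)
  rw [card_cj] at this
  rwa [card_cj]

theorem cj_jAb (g : G) (T : Subgroup G) : cj g (jAb T) = jAb (cj g T) := by
  have key : ∀ (g : G) (T : Subgroup G), cj g (jAb T) ≤ jAb (cj g T) := fun g T => by
    rw [cj_le_iff]
    refine sSup_le fun A hA => ?_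
    rw [← cj_le_iff]
    exact le_jAb (isMaxAb_cj hA g)
  refine le_antisymm (key g T) ?_
  have h := cj_mono (g := g) (key g⁻¹ (cj g T))
  simpa [cj_mul, cj_one] using h

theorem normalizer_le_normalizer_jAb (T : Subgroup G) : N[T] ≤ N[jAb T] := fun g hg =>
  cj_eq_self_iff.1 (by rw [cj_jAb, cj_eq_self_iff.2 hg])

theorem jAb_ne_bot {T : Subgroup G} (hT : T ≠ ⊥) : jAb T ≠ ⊥ := by
  obtain ⟨⟨x, hx⟩, hx1⟩ := ne_bot_iff_exists_ne_one.1 hT
  obtain ⟨A, hA⟩ := exists_isMaxAb T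
  intro h
  have hA0 : A = ⊥ := le_bot_iff.1 ((le_jAb hA).trans h.le)
  have := hA.2.2 (zpowers x) (zpowers_le.2 hx) inferInstance
  rw [hA0, card_bot] at this
  exact hx1 (Subtype.ext (zpowers_eq_bot.1 (eq_bot_of_card_le _ this)))

/-- If the Thompson subgroup of a Sylow subgroup of `N(E)` lies in `E`, it is a Sylow subgroup of `G`. -/
theorem push (hQ : ProperTI G) (hO : NoCore G) {E U T : Subgroup G} (hE : IsRad E)
    (hU : IsSyl N[E] U) (hJ : jAb U ≤ E) (hT : IsSyl ⊤ T) (hUT : U ≤ T) :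
    T = U ∧ jAb T = jAb E := by
  have hJ' := jAb_eq_of_le (hE.le_normalizer_syl hU) hJ
  set J := jAb E
  have hJ1 : J ≠ ⊥ := jAb_ne_bot hE.ne
  have hJp : IsPGroup 2 J := hE.two.to_le (jAb_le E)
  have hN1 : N[E] ≤ N[J] := normalizer_le_normalizer_jAb E
  obtain ⟨U', hU', hne⟩ := hE.two_syl U hU
  obtain ⟨W, hW, hUW⟩ := exists_syl hU.2.1 (hU.1.trans hN1)
  obtain ⟨W', hW', hU'W⟩ := exists_syl hU'.2.1 (hU'.1.trans hN1)
  have hJc : J ≤ Cfsg.pCoreOf 2 N[J] := le_pc le_normalizer hJp le_rfl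
  set D := Cfsg.pCoreOf 2 N[J] with hD
  have hWW : W ⊓ W' ≤ D := hQ _ (hO J hJp hJ1) (fun h => hJ1 (le_bot_iff.1 (hJc.trans h.le))) W W' hW hW'
    (hU.ne_of_le hU' hne.symm hUW hU'W hW.2.1)
  have hED : E ≤ D := (le_inf ((hE.le_normalizer_syl hU).trans hUW)
    ((hE.le_normalizer_syl hU').trans hU'W)).trans hWW
  have h2 : D ⊓ N[E] ≤ E := by
    refine (le_pc inf_le_right ((isPGroup_pc _).to_le inf_le_left)
      (le_normalizer_of_forall fun g hg x hx => ⟨?_, ?_⟩)).trans hE.core.le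
    · exact normalizer_conj_mem (le_normalizer_pc _ (hN1 hg)) hx.1
    · exact (N[E]).mul_mem ((N[E]).mul_mem hg hx.2) ((N[E]).inv_mem hg)
  have h3 : E = D := eq_of_inf_normalizer_le (isPGroup_pc _) hED h2
  have hN2 : N[J] ≤ N[E] := by rw [h3, hD]; exact le_normalizer_pc _
  have hTU : T = U := by
    refine (eq_of_inf_normalizer_le hT.2.1 hUT fun x hx => ?_).symm
    rw [← hU.inf_eq hUT hT.2.1]
    exact ⟨hx.1, hN2 (by have := normalizer_le_normalizer_jAb U hx.2; rwa [← hJ'] at this)⟩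
  exact ⟨hTU, by rw [hTU, hJ']⟩

end CfsgLib.CIT
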