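import Cfsg.Agent.Lib.CIT.QThm

/-!
# The natural action of the normalizer of an offending radical

Transitivity on the nontrivial elements, the order of the normalizer, and the action of elements of
odd order normalizing a Sylow subgroup.
-/

set_option autoImplicit false
set_option linter.unusedSectionVars false
set_option linter.style.haveILetI false

open scoped commutatorElement

namespace CfsgLib.CIT

open Subgroup
open scoped Pointwise

universe u

variable {G : Type u} [Group G] [Finite G]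

local notation "N[" X "]" => normalizer ((X : Subgroup G) : Set G)

namespace Off

variable {E : Subgroup G} {q : ℕ} (d : Off E q)
include d

theorem hW (W : Subgroup G) (hW : IsSyl (normalizer (E : Set G)) W) :
    Nat.card W = Nat.card E * q ∧ Nat.card (fixSub E W) = q ∧
      ∀ w ∈ W, (w ∉ E → fixOne E w = fixSub E W) :=
  ⟨by rw [(d.syl W hW).1, d.card], (d.syl W hW).2.1, (d.syl W hW).2.2⟩

theorem sq_mem {W : Subgroup G} (hWs : IsSyl (normalizer (E : Set G)) W) {w : G} (hw : w ∈ W) :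
    w * w ∈ E :=
  d.sp.sq_mem d.card d.card_syl d.hW hWs hw

theorem disjoint {U U' : Subgroup G} (hU : IsSyl (normalizer (E : Set G)) U)
    (hU' : IsSyl (normalizer (E : Set G)) U') (hne : U' ≠ U) {v : G} (hv : v ∈ fixSub E U)
    (hv' : v ∈ fixSub E U') : v = 1 :=
  d.sp.disjoint d.card d.card_syl d.hW hU hU' hne hv hv'

/-- The commutator with an element outside `E`. -/
theorem diff_mem {W : Subgroup G} (hWs : IsSyl (normalizer (E : Set G)) W) {w : G} (hw : w ∈ W)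
    (hwE : w ∉ E) {x : G} (hx : x ∈ E) : x * (w * x * w⁻¹) ∈ fixSub E W := by
  rw [← (d.syl W hWs).2.2 w hw hwE]
  exact d.sp.diff_mem (hWs.1 hw) (d.sq_mem hWs hw) hx

theorem fix_conj {W : Subgroup G} {w v : G} (hw : w ∈ W) (hv : v ∈ fixSub E W) : w * v * w⁻¹ = v := by
  rw [(mem_fixSub.1 hv).2 w hw, mul_inv_cancel_right]

theorem fixSub_cj {W : Subgroup G} (hWs : IsSyl (normalizer (E : Set G)) W) {g : G}
    (hg : g ∈ normalizer (E : Set G)) : fixSub E (cj g W) = cj g (fixSub E W) :=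
  d.sp.fixSub_cj d.card d.card_syl d.hW hWs hg

/-- The swapping element attached to an element outside `E`. -/
theorem exists_swap {U U' : Subgroup G} (hU : IsSyl (normalizer (E : Set G)) U)
    (hU' : IsSyl (normalizer (E : Set G)) U') (hne : U' ≠ U) {a : G} (ha : a ∈ U) (haE : a ∉ E) :
    ∃ w : G, w ∈ normalizer (E : Set G) ∧ cj w U = U' ∧ cj w U' = U ∧ w * w ∈ E ∧
      ∀ x ∈ fixSub E U', w * x * w⁻¹ = x * (a * x * a⁻¹) := by
  have hU'' : IsSyl N[E] (cj a U') := d.sp.move hU' (hU.1 ha)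
  have hne'' : cj a U' ≠ U' := fun e => haE (d.sp.semireg hU hU' hne ha e)
  obtain ⟨a', ha'⟩ := d.sp.trans d.card d.card_syl d.hW hU' hU hU'' hne.symm hne''
  rcases ha' with ⟨ha'U, ha'E, hcj⟩ | ⟨e, -⟩
  swap
  · exact absurd e.symm (fun e1 => hne (by
      have h1 := congrArg (cj a⁻¹) e1
      rwa [cj_mul, inv_mul_cancel, cj_one, cj_eq_self_iff.2 (le_normalizer (U.inv_mem ha))] at h1))
  have haN : a ∈ N[E] := hU.1 ha
  have ha'N : a' ∈ N[E] := hU'.1 ha'U
  have ha2 : a * a ∈ E := d.sq_mem hU ha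
  have ha'2 : a' * a' ∈ E := d.sq_mem hU' ha'U
  have haU : cj a U = U := cj_eq_self_iff.2 (le_normalizer ha)
  have ha'U' : cj a' U' = U' := cj_eq_self_iff.2 (le_normalizer ha'U)
  have hEfix : ∀ (W : Subgroup G), IsSyl N[E] W → ∀ e ∈ E, cj e W = W := fun W hW e he =>
    cj_eq_self_iff.2 (le_normalizer (d.sp.le_syl hW he))
  refine ⟨a * a' * a, (N[E]).mul_mem ((N[E]).mul_mem haN ha'N) haN, ?_, ?_, ?_, ?_⟩
  · rw [← cj_mul, ← cj_mul, haU, hcj, cj_mul, hEfix U' hU' _ ha2]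
  · rw [← cj_mul, ← cj_mul, ← hcj, cj_mul a' a', hEfix U hU _ ha'2, haU]
  · rw [show a * a' * a * (a * a' * a) = (a * (a' * (a * a) * a'⁻¹) * a⁻¹) * (a * (a' * a') * a⁻¹) * (a * a) by group]
    exact E.mul_mem (E.mul_mem (normalizer_conj_mem haN (normalizer_conj_mem ha'N ha2))
      (normalizer_conj_mem haN ha'2)) ha2
  intro x hx
  set P := fixSub E U
  set P' := fixSub E U'
  have hxE : x ∈ E := hx.1
  -- decomposition of `a x a⁻¹`
  set c := x * (a * x * a⁻¹) with hc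
  have hcP : c ∈ P := d.diff_mem hU ha haE hxE
  have hcE : c ∈ E := hcP.1
  have haxa : a * x * a⁻¹ = x * c := by rw [hc, ← mul_assoc x x, d.sp.sq x hxE, one_mul]
  -- the image `a x a⁻¹` lies on the line of `a U' a⁻¹ = a' U a'⁻¹`
  have h1 : x * c ∈ fixSub E (cj a U') := by
    rw [← haxa, d.fixSub_cj hU' haN]; exact conj_mem_cj.2 hx
  rw [← hcj, d.fixSub_cj hU ha'N] at h1
  obtain ⟨v, hv, hve⟩ := h1
  have hve' : a' * v * a'⁻¹ = x * c := hve
  have h2 : v * (x * c) ∈ P' := by rw [← hve']; exact d.diff_mem hU' ha'U ha'E hv.1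
  have hvc : v = c := by
    have h3 : v * c ∈ P' := by
      have : v * c = (v * (x * c)) * x := by
        rw [d.sp.comm x hxE c hcE, mul_assoc, mul_assoc c x x, d.sp.sq x hxE, mul_one]
      rw [this]; exact P'.mul_mem h2 hx
    have h4 := mul_eq_one_iff_eq_inv.1 (d.disjoint hU hU' hne (P.mul_mem hv hcP) h3)
    rwa [inv_eq_of_mul_eq_one_right (d.sp.sq c hcE)] at h4
  rw [hvc] at hve'
  calc a * a' * a * x * (a * a' * a)⁻¹ = a * (a' * (a * x * a⁻¹) * a'⁻¹) * a⁻¹ := by group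
    _ = a * ((a' * x * a'⁻¹) * (a' * c * a'⁻¹)) * a⁻¹ := by rw [haxa]; group
    _ = a * (x * (x * c)) * a⁻¹ := by rw [fix_conj d ha'U hx, hve']
    _ = c := by rw [← mul_assoc x x, d.sp.sq x hxE, one_mul, fix_conj d ha hcP]

/-- Commutators with a fixed element fill the line. -/
theorem exists_comm_eq {U : Subgroup G} (hU : IsSyl (normalizer (E : Set G)) U) {x : G} (hx : x ∈ E)
    (hxU : x ∉ fixSub E U) {c : G} (hc : c ∈ fixSub E U) : ∃ a ∈ U, x * (a * x * a⁻¹) = c := by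
  classical
  have hmem : ∀ a : U, x * ((a : G) * x * (a : G)⁻¹) ∈ fixSub E U := fun a => by
    by_cases ha : (a : G) ∈ E
    · rw [d.sp.cen x hx _ ha, mul_inv_cancel_right, d.sp.sq x hx]; exact one_mem _
    · exact d.diff_mem hU a.2 ha hx
  let f : U → fixSub E U := fun a => ⟨_, hmem a⟩
  have hker : ∀ a b : U, f a = f b → (a : G)⁻¹ * b ∈ E := fun a b e => by
    by_contra hne
    have e' : (a : G) * x * (a : G)⁻¹ = b * x * (b : G)⁻¹ := mul_left_cancel (congrArg Subtype.val e)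
    refine hxU ((d.syl U hU).2.2 _ (U.mul_mem (U.inv_mem a.2) b.2) hne ▸ mem_fixOne.2 ⟨hx, ?_⟩)
    calc (a : G)⁻¹ * b * x = (a : G)⁻¹ * (b * x * (b : G)⁻¹) * b := by group
      _ = (a : G)⁻¹ * (a * x * (a : G)⁻¹) * b := by rw [e']
      _ = x * ((a : G)⁻¹ * b) := by group
  have h1 := card_le_range_mul f hker
  rw [(d.hW U hU).1] at h1
  have h2 : q ≤ Nat.card (Set.range f) := by
    refine Nat.le_of_mul_le_mul_right ?_ (Nat.card_pos (α := E))
    rwa [mul_comm q]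
  have hs : Set.range f = Set.univ := Set.eq_of_subset_of_ncard_le (Set.subset_univ _)
    (by rw [Set.ncard_univ, (d.hW U hU).2.1, ← Nat.card_coe_set_eq]; exact h2) (Set.toFinite _)
  obtain ⟨a, ha⟩ : (⟨c, hc⟩ : fixSub E U) ∈ Set.range f := hs ▸ Set.mem_univ _
  exact ⟨a, a.2, congrArg Subtype.val ha⟩

theorem fixSub_ne_bot {W : Subgroup G} (hW : IsSyl (normalizer (E : Set G)) W) : fixSub E W ≠ ⊥ := fun e => by
  have h1 := (d.hW W hW).2.1
  have h2 := d.two_le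
  rw [e, Subgroup.card_bot] at h1
  omega

/-- Elements fixing two Sylow subgroups move one line transitively. -/
theorem exists_stab_conj {U U' : Subgroup G} (hU : IsSyl (normalizer (E : Set G)) U)
    (hU' : IsSyl (normalizer (E : Set G)) U') (hne : U' ≠ U) {c c' : G} (hc : c ∈ fixSub E U) (hc1 : c ≠ 1)
    (hc' : c' ∈ fixSub E U) (hc1' : c' ≠ 1) :
    ∃ k ∈ normalizer (E : Set G), cj k U = U ∧ cj k U' = U' ∧ k * c * k⁻¹ = c' := by
  obtain ⟨⟨x, hx⟩, hx1⟩ := ne_bot_iff_exists_ne_one.1 (d.fixSub_ne_bot hU')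
  have hxU : x ∉ fixSub E U := fun h => hx1 (Subtype.ext (d.disjoint hU hU' hne h hx))
  obtain ⟨a, ha, hac⟩ := d.exists_comm_eq hU hx.1 hxU hc
  obtain ⟨b, hb, hbc⟩ := d.exists_comm_eq hU hx.1 hxU hc'
  have hout : ∀ a ∈ U, ∀ c : G, x * (a * x * a⁻¹) = c → c ≠ 1 → a ∉ E := fun a _ c e h1 hE => h1 (by
    rw [← e, d.sp.cen x hx.1 a hE, mul_inv_cancel_right, d.sp.sq x hx.1])
  obtain ⟨w, hwN, hw1, hw2, -, hwx⟩ := d.exists_swap hU hU' hne ha (hout a ha c hac hc1)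
  obtain ⟨w', hwN', hw1', hw2', -, hwx'⟩ := d.exists_swap hU hU' hne hb (hout b hb c' hbc hc1')
  have hwi : cj w⁻¹ U = U' := by
    conv_lhs => rw [← hw2]
    rw [cj_mul, inv_mul_cancel, cj_one]
  have hwi' : cj w⁻¹ U' = U := by
    conv_lhs => rw [← hw1]
    rw [cj_mul, inv_mul_cancel, cj_one]
  refine ⟨w' * w⁻¹, (N[E]).mul_mem hwN' ((N[E]).inv_mem hwN), ?_, ?_, ?_⟩
  · rw [← cj_mul, hwi, hw2']
  · rw [← cj_mul, hwi', hw1']
  · rw [← hac, ← hbc, ← hwx x hx, ← hwx' x hx]; group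

/-- Every element of `E` lies on some line. -/
theorem exists_mem_fixSub {x : G} (hx : x ∈ E) (hx1 : x ≠ 1) :
    ∃ W, IsSyl (normalizer (E : Set G)) W ∧ x ∈ fixSub E W := by
  classical
  by_contra hall
  push Not at hall
  set ι := {W : Subgroup G // IsSyl N[E] W}
  haveI := Fintype.ofFinite G
  have hne : ∀ (H : Subgroup G), Nat.card {z : H // z ≠ 1} = Nat.card H - 1 := fun H => by
    rw [Nat.card_eq_fintype_card, Fintype.card_subtype_compl, Fintype.card_subtype_eq, Nat.card_eq_fintype_card]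
  haveI := Fintype.ofFinite ι
  have hs : Nat.card (Σ W : ι, {z : fixSub E W.1 // z ≠ 1}) = (q + 1) * (q - 1) := by
    rw [Nat.card_sigma]
    have : ∀ W : ι, Nat.card {z : fixSub E W.1 // z ≠ 1} = q - 1 := fun W => by
      rw [hne, (d.hW W.1 W.2).2.1]
    simp only [this, Finset.sum_const, Finset.card_univ, smul_eq_mul]
    rw [← Nat.card_eq_fintype_card, d.card_syl]
  let f : (Σ W : ι, {z : fixSub E W.1 // z ≠ 1}) → {z : {z : E // z ≠ 1} // z ≠ ⟨⟨x, hx⟩, fun e => hx1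
      (congrArg Subtype.val e)⟩} := fun p =>
    ⟨⟨⟨(p.2.1 : G), p.2.1.2.1⟩, fun e => p.2.2 (Subtype.ext (congrArg (fun y : E => (y : G)) e))⟩, fun e =>
      hall p.1.1 p.1.2 (by
        have e' : (p.2.1 : G) = x := congrArg (fun y : {z : E // z ≠ 1} => (y.1 : G)) e
        exact e' ▸ p.2.1.2)⟩
  have hinj : Function.Injective f := by
    rintro ⟨W, z⟩ ⟨W', z'⟩ e
    have e' : (z.1 : G) = z'.1 := congrArg (fun y => (y.1.1 : G)) e
    by_cases hW : W = W'
    · subst hW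
      rw [Subtype.ext (Subtype.ext e')]
    · exact absurd (Subtype.ext (d.disjoint W.2 W'.2 (fun h => hW (Subtype.ext h.symm)) z.1.2
        (e' ▸ z'.1.2))) z.2
  have h1 := Nat.card_le_card_of_injective f hinj
  rw [hs, Nat.card_eq_fintype_card, Fintype.card_subtype_compl, Fintype.card_subtype_eq,
    ← Nat.card_eq_fintype_card, hne, d.card] at h1
  obtain ⟨k, rfl⟩ : ∃ k, q = k + 2 := ⟨q - 2, by have := d.two_le; omega⟩
  have : (k + 2 + 1) * (k + 2 - 1) + 1 = (k + 2) * (k + 2) := by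
    rw [show k + 2 - 1 = k + 1 by omega]; ring
  have hpos : 1 ≤ (k + 2 + 1) * (k + 2 - 1) := Nat.mul_pos (by omega) (by omega)
  omega

/-- The nontrivial elements form one orbit. -/
theorem exists_conj_eq {x y : G} (hx : x ∈ E) (hx1 : x ≠ 1) (hy : y ∈ E) (hy1 : y ≠ 1) :
    ∃ g ∈ normalizer (E : Set G), g * x * g⁻¹ = y := by
  obtain ⟨U, hU, hxU⟩ := d.exists_mem_fixSub hx hx1
  obtain ⟨V, hV, hyV⟩ := d.exists_mem_fixSub hy hy1
  obtain ⟨g, hg, rfl⟩ := hV.exists_conj hU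
  obtain ⟨U', hU', hne⟩ := d.sp.rad.two_syl _ hU
  have hy' : g * y * g⁻¹ ∈ fixSub E (cj g V) := by rw [d.fixSub_cj hV hg]; exact conj_mem_cj.2 hyV
  obtain ⟨k, hk, -, -, hkx⟩ := d.exists_stab_conj hU hU' hne hxU hx1 hy' (fun e => hy1 (conj_eq_one_iff.1 e))
  exact ⟨g⁻¹ * k, (N[E]).mul_mem ((N[E]).inv_mem hg) hk, by
    rw [show g⁻¹ * k * x * (g⁻¹ * k)⁻¹ = g⁻¹ * (k * x * k⁻¹) * g by group, hkx]; group⟩

/-- A 2-element fixing a Sylow subgroup lies in it. -/
theorem mem_of_fix {U : Subgroup G} (hU : IsSyl (normalizer (E : Set G)) U) {k : G}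
    (hk : k ∈ normalizer (E : Set G)) (h2 : IsPGroup 2 (zpowers k)) (h : cj k U = U) : k ∈ U := by
  haveI : Fact (Nat.Prime 2) := ⟨Nat.prime_two⟩
  have h1 : IsPGroup 2 (U ⊔ zpowers k : Subgroup G) :=
    hU.2.1.to_sup_of_normal_left' h2 (zpowers_le.2 (cj_eq_self_iff.1 h))
  exact (hU.2.2 _ le_sup_left (sup_le hU.1 (zpowers_le.2 hk)) h1).le (le_sup_right (a := U) (mem_zpowers k))

theorem mem_of_stab_two {U U' : Subgroup G} (hU : IsSyl (normalizer (E : Set G)) U)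
    (hU' : IsSyl (normalizer (E : Set G)) U') (hne : U' ≠ U) {k : G}
    (hk : k ∈ normalizer (E : Set G)) (h2 : IsPGroup 2 (zpowers k)) (h : cj k U = U) (h' : cj k U' = U') :
    k ∈ E :=
  d.sp.inf_le_core hU hU' hne ⟨d.mem_of_fix hU hk h2 h, d.mem_of_fix hU' hk h2 h'⟩

/-- The stabilizer of two Sylow subgroups. -/
def stabPair (U U' : Subgroup G) : Subgroup G :=
  normalizer (E : Set G) ⊓ normalizer (U : Set G) ⊓ normalizer (U' : Set G)

omit d in
theorem mem_stabPair {U U' : Subgroup G} {k : G} :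
    k ∈ stabPair (E := E) U U' ↔ k ∈ normalizer (E : Set G) ∧ cj k U = U ∧ cj k U' = U' := by
  simp only [stabPair, Subgroup.mem_inf, cj_eq_self_iff, and_assoc]

theorem card_stabPair {U U' : Subgroup G} (hU : IsSyl (normalizer (E : Set G)) U)
    (hU' : IsSyl (normalizer (E : Set G)) U') (hne : U' ≠ U) :
    Nat.card (stabPair (E := E) U U') = Nat.card E * (q - 1) := by
  classical
  set P := fixSub E U
  obtain ⟨⟨c, hc⟩, hc1⟩ := ne_bot_iff_exists_ne_one.1 (d.fixSub_ne_bot hU)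
  have hc1' : c ≠ 1 := fun e => hc1 (Subtype.ext e)
  have hmem : ∀ k : stabPair (E := E) U U', (k : G) * c * (k : G)⁻¹ ∈ P ∧ (k : G) * c * (k : G)⁻¹ ≠ 1 :=
    fun k => by
      obtain ⟨h1, h2, -⟩ := mem_stabPair.1 k.2
      refine ⟨?_, fun e => hc1' (conj_eq_one_iff.1 e)⟩
      have : cj (k : G) P = P := by
        show cj (k : G) (fixSub E U) = fixSub E U
        rw [← d.fixSub_cj hU h1, h2]
      rw [← this]; exact conj_mem_cj.2 hc
  let f : stabPair (E := E) U U' → {z : P // z ≠ 1} := fun k =>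
    ⟨⟨_, (hmem k).1⟩, fun e => (hmem k).2 (congrArg Subtype.val e)⟩
  have hf : Function.Surjective f := by
    rintro ⟨⟨z, hz⟩, hz1⟩
    obtain ⟨k, hk, h1, h2, h3⟩ := d.exists_stab_conj hU hU' hne hc hc1' hz (fun e => hz1 (Subtype.ext e))
    exact ⟨⟨k, mem_stabPair.2 ⟨hk, h1, h2⟩⟩, Subtype.ext (Subtype.ext h3)⟩
  have hker : ∀ k k' : stabPair (E := E) U U', f k = f k' → (k : G)⁻¹ * k' ∈ E := by
    intro k k' e
    have e' : (k : G) * c * (k : G)⁻¹ = k' * c * (k' : G)⁻¹ := congrArg (fun y => (y.1 : G)) e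
    obtain ⟨h1, h2, h3⟩ := mem_stabPair.1 ((stabPair (E := E) U U').mul_mem ((stabPair (E := E) U U').inv_mem k.2) k'.2)
    set m := (k : G)⁻¹ * k'
    have hmc : m * c = c * m := by
      calc m * c = (k : G)⁻¹ * (k' * c * (k' : G)⁻¹) * k' := by simp only [m]; group
        _ = (k : G)⁻¹ * (k * c * (k : G)⁻¹) * k' := by rw [e']
        _ = c * m := by simp only [m]; group
    refine d.mem_of_stab_two hU hU' hne h1 ?_ h2 h3
    exact (d.sp.cit.isPGroup_centralizer_mem d.sp.rad.two hc.1 hc1').to_le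
      (zpowers_le.2 (mem_centralizer_singleton_iff.2 hmc))
  have hEle : E ≤ stabPair (E := E) U U' := fun e he => mem_stabPair.2 ⟨le_normalizer he,
    cj_eq_self_iff.2 (le_normalizer (d.sp.le_syl hU he)), cj_eq_self_iff.2 (le_normalizer (d.sp.le_syl hU' he))⟩
  have hP : Nat.card {z : P // z ≠ 1} = q - 1 := by
    haveI := Fintype.ofFinite G
    rw [Nat.card_eq_fintype_card, Fintype.card_subtype_compl, Fintype.card_subtype_eq,
      ← Nat.card_eq_fintype_card, (d.hW U hU).2.1]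
  refine le_antisymm ?_ ?_
  · refine (card_le_range_mul f hker).trans ?_
    rw [mul_comm (Nat.card E), ← hP]
    exact Nat.mul_le_mul_right _ (Nat.card_le_card_of_injective _ Subtype.val_injective)
  · choose r hr using hf
    rw [mul_comm (Nat.card E), ← hP, ← Nat.card_prod]
    refine Nat.card_le_card_of_injective (fun p => (⟨(r p.1 : G) * (p.2 : G),
      (stabPair (E := E) U U').mul_mem (r p.1).2 (hEle p.2.2)⟩ : stabPair (E := E) U U') :
        {z : P // z ≠ 1} × E → stabPair (E := E) U U') ?_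
    rintro ⟨z, e⟩ ⟨z', e'⟩ h
    have h' : (r z : G) * e = r z' * e' := congrArg Subtype.val h
    have hz : z = z' := by
      rw [← hr z, ← hr z']
      refine Subtype.ext (Subtype.ext ?_)
      show (r z : G) * c * (r z : G)⁻¹ = r z' * c * (r z' : G)⁻¹
      calc (r z : G) * c * (r z : G)⁻¹ = (r z * e) * c * ((r z : G) * e)⁻¹ := by
            rw [mul_assoc (r z : G) (e : G) c, d.sp.cen c hc.1 e e.2]; group
        _ = (r z' * e') * c * ((r z' : G) * e')⁻¹ := by rw [h']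
        _ = (r z' : G) * c * (r z' : G)⁻¹ := by
            rw [mul_assoc (r z' : G) (e' : G) c, d.sp.cen c hc.1 e' e'.2]; group
    subst hz
    exact Prod.ext rfl (Subtype.ext (mul_left_cancel h'))

/-- The order of the normalizer. -/
theorem card_normalizer :
    Nat.card (normalizer (E : Set G)) = q * q * ((q + 1) * (q * (q - 1))) := by
  classical
  obtain ⟨U, hU, -⟩ := exists_syl d.sp.rad.two (le_normalizer : E ≤ _)
  obtain ⟨U', hU', hne⟩ := d.sp.rad.two_syl U hU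
  haveI := Fintype.ofFinite {W : Subgroup G // IsSyl N[E] W}
  -- ordered pairs of distinct Sylow subgroups
  let X := {p : {W : Subgroup G // IsSyl N[E] W} × {W : Subgroup G // IsSyl N[E] W} // p.1 ≠ p.2}
  let f : N[E] → X := fun g => ⟨(⟨cj (g : G) U, d.sp.move hU g.2⟩, ⟨cj (g : G) U', d.sp.move hU' g.2⟩),
    fun e => hne (by
      have h1 := congrArg (cj (g : G)⁻¹) (congrArg Subtype.val e)
      simpa [cj_mul, cj_one] using h1.symm)⟩
  have hsurj : Function.Surjective f := by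
    rintro ⟨⟨⟨W, hW⟩, ⟨W', hW'⟩⟩, hp⟩
    obtain ⟨g, hg, hgW⟩ := hU.exists_conj hW
    have hU1 : IsSyl N[E] (cj g U') := d.sp.move hU' hg
    have hne1 : cj g U' ≠ W := fun e => hne (by
      have h1 := congrArg (cj g⁻¹) (e.trans hgW.symm)
      simpa [cj_mul, cj_one] using h1)
    obtain ⟨u, hu⟩ := d.sp.trans d.card d.card_syl d.hW hW hU1 hW' hne1
      (fun e => hp (Subtype.ext e.symm))
    rcases hu with ⟨huW, -, hcj⟩ | ⟨e, -⟩
    · refine ⟨⟨u * g, (N[E]).mul_mem (hW.1 huW) hg⟩, Subtype.ext (Prod.ext (Subtype.ext ?_) (Subtype.ext ?_))⟩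
      · show cj (u * g) U = W
        rw [← cj_mul, hgW, cj_eq_self_iff.2 (le_normalizer huW)]
      · show cj (u * g) U' = W'
        rw [← cj_mul, hcj]
    · exact ⟨⟨g, hg⟩, Subtype.ext (Prod.ext (Subtype.ext hgW) (Subtype.ext e))⟩
  have hker : ∀ g g' : N[E], f g = f g' → (g : G)⁻¹ * g' ∈ stabPair (E := E) U U' := by
    intro g g' e
    have e1 : cj (g : G) U = cj (g' : G) U := congrArg (fun p : X => p.1.1.1) e
    have e2 : cj (g : G) U' = cj (g' : G) U' := congrArg (fun p : X => p.1.2.1) e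
    refine mem_stabPair.2 ⟨(N[E]).mul_mem ((N[E]).inv_mem g.2) g'.2, ?_, ?_⟩
    · rw [← cj_mul, ← e1, cj_mul, inv_mul_cancel, cj_one]
    · rw [← cj_mul, ← e2, cj_mul, inv_mul_cancel, cj_one]
  have hX : Nat.card X = (q + 1) * q := by
    rw [Nat.card_eq_fintype_card, Fintype.card_subtype_compl, Fintype.card_prod]
    have he : Fintype.card {p : {W : Subgroup G // IsSyl N[E] W} × {W : Subgroup G // IsSyl N[E] W} // p.1 = p.2} =
        Fintype.card {W : Subgroup G // IsSyl N[E] W} := Fintype.card_congr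
      { toFun := fun p => p.1.1
        invFun := fun W => ⟨(W, W), rfl⟩
        left_inv := fun p => Subtype.ext (Prod.ext rfl p.2)
        right_inv := fun W => rfl }
    rw [he, ← Nat.card_eq_fintype_card, d.card_syl, show (q + 1) * (q + 1) = (q + 1) * q + (q + 1) by ring,
      Nat.add_sub_cancel]
  have hle : Nat.card N[E] ≤ (q + 1) * q * Nat.card (stabPair (E := E) U U') :=
    (card_le_range_mul f hker).trans (Nat.mul_le_mul_right _
      ((Nat.card_le_card_of_injective _ Subtype.val_injective).trans hX.le))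
  have hge : (q + 1) * q * Nat.card (stabPair (E := E) U U') ≤ Nat.card N[E] := by
    choose r hr using hsurj
    rw [← hX, ← Nat.card_prod]
    refine Nat.card_le_card_of_injective (fun p => (⟨(r p.1 : G) * (p.2 : G),
      (N[E]).mul_mem (r p.1).2 (mem_stabPair.1 p.2.2).1⟩ : N[E]) :
        X × stabPair (E := E) U U' → N[E]) ?_
    rintro ⟨z, e⟩ ⟨z', e'⟩ h
    have h' : (r z : G) * e = r z' * e' := congrArg Subtype.val h
    have hz : z = z' := by
      rw [← hr z, ← hr z']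
      refine Subtype.ext (Prod.ext (Subtype.ext ?_) (Subtype.ext ?_))
      · show cj (r z : G) U = cj (r z' : G) U
        conv_lhs => rw [← (mem_stabPair.1 e.2).2.1, cj_mul, h', ← cj_mul, (mem_stabPair.1 e'.2).2.1]
      · show cj (r z : G) U' = cj (r z' : G) U'
        conv_lhs => rw [← (mem_stabPair.1 e.2).2.2, cj_mul, h', ← cj_mul, (mem_stabPair.1 e'.2).2.2]
    subst hz
    exact Prod.ext rfl (Subtype.ext (mul_left_cancel h'))
  rw [le_antisymm hle hge, d.card_stabPair hU hU' hne, d.card]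
  ring

/-- An element of the pair stabilizer is inverted by a swap, modulo `E`. -/
theorem swap_inverts {U U' : Subgroup G} (hU : IsSyl (normalizer (E : Set G)) U)
    (hU' : IsSyl (normalizer (E : Set G)) U') (hne : U' ≠ U) {w : G} (hwN : w ∈ normalizer (E : Set G))
    (hw1 : cj w U = U') (hw2 : cj w U' = U) (hww : w * w ∈ E) {k : G}
    (hk : k ∈ stabPair (E := E) U U') : w * k * w⁻¹ * k ∈ E := by
  classical
  set L := N[E]
  set D := E.subgroupOf L with hD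
  haveI : D.Normal := (normal_subgroupOf_iff_le_normalizer le_normalizer).2 le_rfl
  have hcit : IsCIT (L ⧸ D) := (d.sp.cit.subgroup L).quotient D d.sp.rad.two.comap_subtype
  set π := QuotientGroup.mk' D
  have hmem : ∀ x : L, π x = 1 ↔ (x : G) ∈ E := fun x => by
    rw [QuotientGroup.mk'_apply, QuotientGroup.eq_one_iff, hD, mem_subgroupOf]
  set K := ((stabPair (E := E) U U').subgroupOf L).map π with hK
  -- elements of the image have odd order
  have hodd : ∀ z ∈ K, Odd (orderOf z) := by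
    rintro _ ⟨x, hx, rfl⟩
    rw [← Nat.not_even_iff_odd]
    intro he
    set y := x ^ (orderOf (π x) / 2)
    have hy2 : orderOf (π y) = 2 := by
      rw [map_pow]; exact orderOf_pow_orderOf_div (orderOf_pos _).ne' he.two_dvd
    have hyE : (y : G) ∈ E := by
      refine d.mem_of_stab_two hU hU' hne y.2 ?_ ?_ ?_
      · have h1 : ((y * y : L) : G) ∈ E := (hmem (y * y)).1 (by
          rw [map_mul]; exact CfsgLib.Invol.invol_mul_self hy2)
        obtain ⟨m, hm⟩ := orderOf_two_pow d.sp.rad.two h1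
        haveI : Fact (Nat.Prime 2) := ⟨Nat.prime_two⟩
        obtain ⟨j, -, hj⟩ := (Nat.dvd_prime_pow Nat.prime_two).1 (orderOf_dvd_of_pow_eq_one
          (show (y : G) ^ (2 ^ (m + 1)) = 1 by
            rw [pow_succ', pow_mul, pow_two, ← Subgroup.coe_mul, ← hm, pow_orderOf_eq_one]))
        exact IsPGroup.of_card (n := j) (by rw [Nat.card_zpowers, hj])
      · exact (mem_stabPair.1 ((stabPair (E := E) U U').pow_mem (show (x : G) ∈ _ from hx) _)).2.1
      · exact (mem_stabPair.1 ((stabPair (E := E) U U').pow_mem (show (x : G) ∈ _ from hx) _)).2.2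
    rw [(hmem y).2 hyE, orderOf_one] at hy2
    omega
  set W := π ⟨w, hwN⟩ with hW
  have hW1 : W ≠ 1 := fun e => hne (by
    rw [← hw1]
    exact cj_eq_self_iff.2 (le_normalizer (d.sp.le_syl hU ((hmem _).1 e))))
  have hWW : W * W = 1 := by rw [hW, ← map_mul]; exact (hmem _).2 hww
  have hWo : orderOf W = 2 := orderOf_eq_prime (by rw [pow_two]; exact hWW) hW1
  have hWi : W⁻¹ = W := inv_eq_of_mul_eq_one_right hWW
  have hnorm : ∀ z ∈ K, W * z * W⁻¹ ∈ K := by
    rintro _ ⟨x, hx, rfl⟩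
    refine ⟨⟨w, hwN⟩ * x * ⟨w, hwN⟩⁻¹, ?_, by rw [map_mul, map_mul, map_inv]⟩
    obtain ⟨hxN, hx1, hx2⟩ := mem_stabPair.1 (show (x : G) ∈ _ from hx)
    have hwi1 : cj w⁻¹ U = U' := by
      conv_lhs => rw [← hw2]
      rw [cj_mul, inv_mul_cancel, cj_one]
    have hwi2 : cj w⁻¹ U' = U := by
      conv_lhs => rw [← hw1]
      rw [cj_mul, inv_mul_cancel, cj_one]
    exact mem_stabPair.2 ⟨(N[E]).mul_mem ((N[E]).mul_mem hwN hxN) ((N[E]).inv_mem hwN),
      by show cj (w * x * w⁻¹) U = U; rw [← cj_mul, hwi1, ← cj_mul, hx2, hw2],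
      by show cj (w * x * w⁻¹) U' = U'; rw [← cj_mul, hwi2, ← cj_mul, hx1, hw1]⟩
  let f : K → K := fun z => ⟨(z : L ⧸ D)⁻¹ * (W * z * W⁻¹), K.mul_mem (K.inv_mem z.2) (hnorm z z.2)⟩
  have hf : Function.Injective f := fun z z' e => by
    have e' : (z : L ⧸ D)⁻¹ * (W * z * W⁻¹) = (z' : L ⧸ D)⁻¹ * (W * z' * W⁻¹) := congrArg Subtype.val e
    refine Subtype.ext (mul_inv_eq_one.1 (hcit W _ hWo (hodd _ (K.mul_mem z.2 (K.inv_mem z'.2))) ?_))
    calc (z : L ⧸ D) * (z' : L ⧸ D)⁻¹ * W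
        = (z : L ⧸ D) * ((z' : L ⧸ D)⁻¹ * (W * z' * W⁻¹)) * (W * z' * W⁻¹)⁻¹ * W := by group
      _ = (z : L ⧸ D) * ((z : L ⧸ D)⁻¹ * (W * z * W⁻¹)) * (W * z' * W⁻¹)⁻¹ * W := by rw [e']
      _ = W * ((z : L ⧸ D) * (z' : L ⧸ D)⁻¹) := by group
  have hkK : π ⟨k, (mem_stabPair.1 hk).1⟩ ∈ K := ⟨⟨k, (mem_stabPair.1 hk).1⟩, hk, rfl⟩
  obtain ⟨z, hz⟩ := (Finite.injective_iff_surjective.1 hf) ⟨_, hkK⟩
  have hz' : (z : L ⧸ D)⁻¹ * (W * z * W⁻¹) = π ⟨k, (mem_stabPair.1 hk).1⟩ := congrArg Subtype.val hz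
  refine (hmem (⟨w, hwN⟩ * ⟨k, (mem_stabPair.1 hk).1⟩ * ⟨w, hwN⟩⁻¹ * ⟨k, (mem_stabPair.1 hk).1⟩)).1 ?_
  rw [map_mul, map_mul, map_mul, map_inv, ← hz', ← hW, hWi]
  calc W * ((z : L ⧸ D)⁻¹ * (W * z * W)) * W * ((z : L ⧸ D)⁻¹ * (W * z * W))
      = W * (z : L ⧸ D)⁻¹ * W * z * (W * W) * (z : L ⧸ D)⁻¹ * W * z * W := by group
    _ = W * (z : L ⧸ D)⁻¹ * W * z * (z : L ⧸ D)⁻¹ * W * z * W := by rw [hWW, mul_one]
    _ = W * (z : L ⧸ D)⁻¹ * (W * W) * z * W := by group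
    _ = 1 := by rw [hWW, mul_one, inv_mul_cancel_right, hWW]

/-- Elements normalizing a Sylow subgroup act on `U/E` as their squares on the line. -/
theorem comm_relation {U : Subgroup G} (hU : IsSyl (normalizer (E : Set G)) U) {h : G}
    (hh : h ∈ normalizer (E : Set G)) (hhU : cj h U = U) {a x : G} (ha : a ∈ U) (hx : x ∈ E) :
    x * ((h * a * h⁻¹) * x * (h * a * h⁻¹)⁻¹) =
      (h * h) * (x * (a * x * a⁻¹)) * (h * h)⁻¹ := by
  by_cases haE : a ∈ E
  · rw [d.sp.cen x hx a haE, mul_inv_cancel_right, d.sp.cen x hx _ (normalizer_conj_mem hh haE),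
      mul_inv_cancel_right, d.sp.sq x hx, mul_one, mul_inv_cancel]
  obtain ⟨U', hU', hne⟩ := d.sp.rad.two_syl U hU
  set P := fixSub E U
  set P' := fixSub E U'
  -- `h = u₀ k`
  have hU1 : IsSyl N[E] (cj h U') := d.sp.move hU' hh
  have hne1 : cj h U' ≠ U := fun e => hne (by
    have h1 := congrArg (cj h⁻¹) (e.trans hhU.symm)
    simpa [cj_mul, cj_one] using h1)
  obtain ⟨u₀, hu₀U, hu₀⟩ : ∃ u₀ ∈ U, cj u₀ U' = cj h U' := by
    obtain ⟨u, hu⟩ := d.sp.trans d.card d.card_syl d.hW hU hU' hU1 hne hne1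
    rcases hu with ⟨huU, -, e⟩ | ⟨e, -⟩
    · exact ⟨u, huU, e⟩
    · exact ⟨1, U.one_mem, by rw [cj_one]; exact e⟩
  set k := u₀⁻¹ * h with hk
  have hu₀N : u₀ ∈ N[E] := hU.1 hu₀U
  have hkN : k ∈ N[E] := (N[E]).mul_mem ((N[E]).inv_mem hu₀N) hh
  have hkU : cj k U = U := by rw [hk, ← cj_mul, hhU, cj_eq_self_iff.2 (le_normalizer (U.inv_mem hu₀U))]
  have hkU' : cj k U' = U' := by rw [hk, ← cj_mul, ← hu₀, cj_mul, inv_mul_cancel, cj_one]
  have hk' : k ∈ stabPair (E := E) U U' := mem_stabPair.2 ⟨hkN, hkU, hkU'⟩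
  obtain ⟨w, hwN, hw1, hw2, hww, hwx⟩ := d.exists_swap hU hU' hne ha haE
  have hinv := d.swap_inverts hU hU' hne hwN hw1 hw2 hww hk'
  -- decompose `x` along the two lines
  have hsup : P ⊔ P' = E := by
    refine eq_of_le_of_card_ge (sup_le inf_le_left inf_le_left) ?_
    have h1 := CfsgLib.Fusion.card_mul_le_sup_inf P P'
    rw [(d.hW U hU).2.1, (d.hW U' hU').2.1, show P ⊓ P' = ⊥ from
      (eq_bot_iff_forall _).2 fun v hv => d.disjoint hU hU' hne hv.1 hv.2, card_bot, mul_one] at h1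
    exact d.card.le.trans h1
  obtain ⟨p, hp, p', hp', hpp⟩ : ∃ p ∈ P, ∃ p' ∈ P', p * p' = x := by
    have h1 : x ∈ (P : Set G) * (P' : Set G) := by
      rw [← Subgroup.coe_mul_of_left_le_normalizer_right P P' (fun v hv => by
        refine mem_normalizer_iff.2 fun y => ⟨fun hy => ?_, fun hy => ?_⟩
        · rw [d.sp.comm v hv.1 y hy.1, mul_inv_cancel_right]; exact hy
        · have hyE : y ∈ E := by
            have h2 := E.mul_mem (E.mul_mem (E.inv_mem hv.1) hy.1) hv.1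
            rwa [show v⁻¹ * (v * y * v⁻¹) * v = y by group] at h2
          rwa [d.sp.comm v hv.1 y hyE, mul_inv_cancel_right] at hy), hsup]
      exact hx
    exact Set.mem_mul.1 h1
  -- commutators only see the component on `P'`
  have hred : ∀ b ∈ U, x * (b * x * b⁻¹) = p' * (b * p' * b⁻¹) := fun b hb => by
    rw [← hpp]
    calc p * p' * (b * (p * p') * b⁻¹) = p * p' * ((b * p * b⁻¹) * (b * p' * b⁻¹)) := by group
      _ = (p * p) * (p' * (b * p' * b⁻¹)) := by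
          rw [fix_conj d hb hp, mul_assoc p p', ← mul_assoc p' p, ← d.sp.comm p hp.1 p' hp'.1]; group
      _ = _ := by rw [d.sp.sq p hp.1, one_mul]
  have hbU : h * a * h⁻¹ ∈ U := by
    have h1 : h * a * h⁻¹ ∈ cj h U := conj_mem_cj.2 ha
    rwa [hhU] at h1
  have hbk : k * a * k⁻¹ ∈ U := by
    have h1 : k * a * k⁻¹ ∈ cj k U := conj_mem_cj.2 ha
    rwa [hkU] at h1
  rw [hred _ hbU, hred a ha, ← hwx p' hp']
  -- pass from `h` to `k` on the left
  have hcomm : (h * a * h⁻¹) * (k * a * k⁻¹)⁻¹ ∈ E := by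
    set b := k * a * k⁻¹ with hb
    have e1 : h * a * h⁻¹ = u₀ * b * u₀⁻¹ := by rw [hb, hk]; group
    rw [e1]
    have h1 := d.sq_mem hU (U.mul_mem hu₀U hbk)
    have h2 := d.sq_mem hU hu₀U
    have h3 := d.sq_mem hU hbk
    -- `[u₀, b] = (u₀ b)² (b⁻¹ (u₀²)⁻¹ b) b⁻²`
    have e2 : u₀ * b * u₀⁻¹ * b⁻¹ = (u₀ * b * (u₀ * b)) * (b⁻¹ * (u₀ * u₀)⁻¹ * b) * (b * b)⁻¹ := by group
    rw [e2]
    refine E.mul_mem (E.mul_mem h1 ?_) (E.inv_mem h3)
    have := normalizer_conj_mem ((N[E]).inv_mem (hU.1 hbk)) (E.inv_mem h2)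
    rwa [inv_inv] at this
  set e₁ := (h * a * h⁻¹) * (k * a * k⁻¹)⁻¹ with he₁
  have hleft : p' * ((h * a * h⁻¹) * p' * (h * a * h⁻¹)⁻¹) = p' * ((k * a * k⁻¹) * p' * (k * a * k⁻¹)⁻¹) := by
    congr 1
    have e3 : h * a * h⁻¹ = e₁ * (k * a * k⁻¹) := by rw [he₁, inv_mul_cancel_right]
    rw [e3]
    calc e₁ * (k * a * k⁻¹) * p' * (e₁ * (k * a * k⁻¹))⁻¹
        = e₁ * ((k * a * k⁻¹) * p' * (k * a * k⁻¹)⁻¹) * e₁⁻¹ := by group
      _ = _ := by rw [d.sp.cen _ (d.sp.conj_mem (hU.1 hbk) hp'.1) e₁ hcomm, mul_inv_cancel_right]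
  rw [hleft]
  -- compute with `k`
  have hq' : k⁻¹ * p' * k ∈ P' := by
    have h2 : cj k⁻¹ U' = U' := by
      conv_lhs => rw [← hkU']
      rw [cj_mul, inv_mul_cancel, cj_one]
    have h1 : k⁻¹ * p' * k⁻¹⁻¹ ∈ cj k⁻¹ (fixSub E U') := conj_mem_cj.2 hp'
    rw [← d.fixSub_cj hU' ((N[E]).inv_mem hkN), h2, inv_inv] at h1
    exact h1
  set y := w * p' * w⁻¹ with hy
  have hyP : y ∈ P := by
    have h1 : y ∈ cj w (fixSub E U') := conj_mem_cj.2 hp'
    rwa [← d.fixSub_cj hU' hwN, hw2] at h1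
  have hstep : w * (k⁻¹ * p' * k) * w⁻¹ = k * y * k⁻¹ := by
    set e₂ := w * k * w⁻¹ * k with he₂
    have e4 : w * (k⁻¹ * p' * k) * w⁻¹ = (w * k * w⁻¹)⁻¹ * y * (w * k * w⁻¹) := by rw [hy]; group
    have e5 : w * k * w⁻¹ = e₂ * k⁻¹ := by rw [he₂, mul_inv_cancel_right]
    rw [e4, e5]
    calc (e₂ * k⁻¹)⁻¹ * y * (e₂ * k⁻¹) = k * (e₂⁻¹ * y * e₂) * k⁻¹ := by group
      _ = k * y * k⁻¹ := by rw [d.sp.cen y hyP.1 _ (E.inv_mem hinv), inv_mul_cancel_right]
  calc p' * ((k * a * k⁻¹) * p' * (k * a * k⁻¹)⁻¹)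
      = k * ((k⁻¹ * p' * k) * (a * (k⁻¹ * p' * k) * a⁻¹)) * k⁻¹ := by group
    _ = k * (k * y * k⁻¹) * k⁻¹ := by rw [← hwx _ hq', hstep]
    _ = h * h * y * (h * h)⁻¹ := by
      have hz : k * y * k⁻¹ ∈ P := by
        have h1 : k * y * k⁻¹ ∈ cj k (fixSub E U) := conj_mem_cj.2 hyP
        rwa [← d.fixSub_cj hU hkN, hkU] at h1
      have hz2 : k * (k * y * k⁻¹) * k⁻¹ ∈ P := by
        have h1 : k * (k * y * k⁻¹) * k⁻¹ ∈ cj k (fixSub E U) := conj_mem_cj.2 hz
        rwa [← d.fixSub_cj hU hkN, hkU] at h1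
      have hh' : h = u₀ * k := by rw [hk, mul_inv_cancel_left]
      have s1 : h * y * h⁻¹ = k * y * k⁻¹ := by
        rw [hh', show u₀ * k * y * (u₀ * k)⁻¹ = u₀ * (k * y * k⁻¹) * u₀⁻¹ by group, fix_conj d hu₀U hz]
      rw [show h * h * y * (h * h)⁻¹ = h * (h * y * h⁻¹) * h⁻¹ by group, s1, hh',
        show u₀ * k * (k * y * k⁻¹) * (u₀ * k)⁻¹ = u₀ * (k * (k * y * k⁻¹) * k⁻¹) * u₀⁻¹ by group,
        fix_conj d hu₀U hz2]

end Off

end CfsgLib.CIT
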