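import Cfsg.Agent.Lib.CIT.Spread

/-!
# Radicals with an offender

A radical `E` of a CIT group whose normalizer has a Thompson subgroup outside `E` is elementary abelian
of order `q²`, and the Sylow 2-subgroups of `N(E)` have order `q³` and form a spread on `E`.
-/

set_option autoImplicit false
set_option linter.unusedSectionVars false
set_option linter.style.haveILetI false

open scoped commutatorElement

namespace CfsgLib.CIT

open Subgroup
open scoped Pointwise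

universe u

variable {G : Type u} [Group G] [Finite G]

local notation "N[" X "]" => normalizer ((X : Subgroup G) : Set G)

/-- An elementary abelian radical of order `q²` with its spread. -/
structure Off (E : Subgroup G) (q : ℕ) : Prop where
  sp : Spread E E
  two_le : 2 ≤ q
  card : Nat.card E = q * q
  card_syl : Nat.card {W : Subgroup G // IsSyl N[E] W} = q + 1
  syl : ∀ W : Subgroup G, IsSyl N[E] W → Nat.card W = q * q * q ∧ Nat.card (fixSub E W) = q ∧
    ∀ w ∈ W, (w ∉ E → fixOne E w = fixSub E W)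
  offender : ∀ W : Subgroup G, IsSyl N[E] W → ∃ A : Subgroup G,
    IsMaxAb W A ∧ ¬ A ≤ E ∧ Nat.card A = q * q ∧ W = A ⊔ E

namespace Spread

variable {E V : Subgroup G} (d : Spread E V)
include d

/-- The difference of an element and its image is fixed by an involution modulo `E`. -/
theorem diff_mem {a : G} (ha : a ∈ N[E]) (h2 : a * a ∈ E) {x : G} (hx : x ∈ V) :
    x * (a * x * a⁻¹) ∈ fixOne V a := by
  refine mem_fixOne.2 ⟨V.mul_mem hx (d.conj_mem ha hx), ?_⟩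
  have he : a * (a * x * a⁻¹) * a⁻¹ = x := by
    rw [show a * (a * x * a⁻¹) * a⁻¹ = a * a * x * (a * a)⁻¹ by group, d.cen _ hx _ h2, mul_inv_cancel_right]
  calc a * (x * (a * x * a⁻¹)) = (a * x * a⁻¹) * (a * (a * x * a⁻¹) * a⁻¹) * a := by group
    _ = (a * x * a⁻¹) * x * a := by rw [he]
    _ = x * (a * x * a⁻¹) * a := by rw [d.comm _ (d.conj_mem ha hx) _ hx]

theorem centralizer_le_core : N[E] ⊓ centralizer (V : Set G) ≤ E := by
  refine (le_pc inf_le_left ((d.cit.isPGroup_centralizer (d.rad.two.to_le d.le) d.ne).to_le inf_le_right)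
    (le_normalizer_of_forall fun g hg x hx => ⟨(N[E]).mul_mem ((N[E]).mul_mem hg hx.1) ((N[E]).inv_mem hg),
      mem_centralizer_iff.2 fun v hv => ?_⟩)).trans d.rad.core.le
  have hv' : g⁻¹ * v * g ∈ V := by simpa using d.conj_mem ((N[E]).inv_mem hg) hv
  calc v * (g * x * g⁻¹) = g * ((g⁻¹ * v * g) * x) * g⁻¹ := by group
    _ = g * (x * (g⁻¹ * v * g)) * g⁻¹ := by rw [mem_centralizer_iff.1 hx.2 _ hv']
    _ = g * x * g⁻¹ * v := by group

variable {q : ℕ} (hV : Nat.card V = q * q)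
  (hn : Nat.card {W : Subgroup G // IsSyl (normalizer (E : Set G)) W} = q + 1)
  (hW : ∀ W : Subgroup G, IsSyl (normalizer (E : Set G)) W → Nat.card W = Nat.card E * q ∧ Nat.card (fixSub V W) = q ∧
    ∀ w ∈ W, (w ∉ E → fixOne V w = fixSub V W))
include hV hn hW

theorem sq_mem {W : Subgroup G} (hWs : IsSyl N[E] W) {w : G} (hw : w ∈ W) : w * w ∈ E := by
  by_contra h
  obtain ⟨k, hk⟩ := orderOf_two_pow hWs.2.1 hw
  classical
  have hex : ∃ j, w ^ 2 ^ j ∈ E := ⟨k, by rw [← hk, pow_orderOf_eq_one]; exact E.one_mem⟩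
  have hj2 : 2 ≤ Nat.find hex := by
    by_contra hlt
    have h1 := Nat.find_spec hex
    interval_cases hj : Nat.find hex
    · simp only [pow_zero, pow_one] at h1
      exact h (E.mul_mem h1 h1)
    · simp only [pow_one, pow_two] at h1
      exact h h1
  obtain ⟨j, hj⟩ : ∃ j, Nat.find hex = j + 2 := ⟨Nat.find hex - 2, by omega⟩
  set b := w ^ 2 ^ j with hb
  have hbW : b ∈ W := W.pow_mem hw _
  have hbN : b ∈ N[E] := hWs.1 hbW
  have hb2 : b * b ∉ E := fun h1 => Nat.find_min hex (show j + 1 < Nat.find hex by omega)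
    (by rwa [pow_succ, pow_mul, pow_two, ← hb])
  have hb4 : b * b * (b * b) ∈ E := by
    have h1 := Nat.find_spec hex
    rw [hj, pow_add, pow_mul, ← hb] at h1
    rwa [show b * b * (b * b) = b ^ 2 ^ 2 by simp [pow_succ, mul_assoc]]
  have hbE : b ∉ E := fun h1 => hb2 (E.mul_mem h1 h1)
  have hfix := (hW W hWs).2.2
  have hsqr := d.card_sq hWs (W.mul_mem hbW hbW) hb2 hb4
  -- the map x ↦ x · bxb⁻¹ and its square
  let f : V → V := fun x => ⟨(x : G) * (b * x * b⁻¹), V.mul_mem x.2 (d.conj_mem hbN x.2)⟩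
  have hff : ∀ x : V, ((f (f x) : V) : G) = (x : G) * (b * b * x * (b * b)⁻¹) := fun x => by
    show (x : G) * (b * x * b⁻¹) * (b * ((x : G) * (b * x * b⁻¹)) * b⁻¹) = _
    have hy := d.conj_mem hbN x.2
    calc (x : G) * (b * x * b⁻¹) * (b * ((x : G) * (b * x * b⁻¹)) * b⁻¹)
        = (x : G) * ((b * x * b⁻¹) * (b * x * b⁻¹)) * (b * b * x * (b * b)⁻¹) := by group
      _ = (x : G) * (b * b * x * (b * b)⁻¹) := by rw [d.sq _ hy, mul_one]
  -- the image of the square lies in the fixed points, hence is killed by `f`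
  have hkill : ∀ y : V, (y : G) ∈ fixSub V W → f y = 1 := fun y hy => Subtype.ext (by
    show (y : G) * (b * y * b⁻¹) = 1
    rw [(mem_fixSub.1 hy).2 b hbW, mul_inv_cancel_right, d.sq _ y.2])
  have hmem2 : ∀ x : V, ((f (f x) : V) : G) ∈ fixSub V W := fun x => by
    rw [hff x, ← hfix (b * b) (W.mul_mem hbW hbW) hb2]
    exact d.diff_mem ((N[E]).mul_mem hbN hbN) hb4 x.2
  have hker : ∀ x y : V, f x = f y → (x : G)⁻¹ * y ∈ fixSub V W := fun x y e => by
    have e' : (x : G) * (b * x * b⁻¹) = y * (b * y * b⁻¹) := congrArg Subtype.val e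
    rw [← hfix b hbW hbE]
    refine mem_fixOne.2 ⟨V.mul_mem (V.inv_mem x.2) y.2, ?_⟩
    have ex : ∀ z : V, (z : G)⁻¹ = z := fun z => inv_eq_of_mul_eq_one_right (d.sq _ z.2)
    have hxy : (x : G)⁻¹ * y = b * x * b⁻¹ * (b * y * b⁻¹)⁻¹ := by
      rw [eq_mul_inv_iff_mul_eq, mul_assoc, inv_mul_eq_iff_eq_mul, e']
    calc b * ((x : G)⁻¹ * y) = b * (x * (y : G)⁻¹) * b⁻¹ * b := by rw [ex x, ex y]; group
      _ = (b * x * b⁻¹ * (b * y * b⁻¹)⁻¹) * b := by group
      _ = (x : G)⁻¹ * y * b := by rw [hxy]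
  have hker2 : ∀ x y : V, f (f x) = f (f y) → (x : G)⁻¹ * y ∈ fixSub V W := fun x y e => by
    have e' : (x : G) * (b * b * x * (b * b)⁻¹) = y * (b * b * y * (b * b)⁻¹) := by
      rw [← hff x, ← hff y, e]
    rw [← hfix (b * b) (W.mul_mem hbW hbW) hb2]
    refine mem_fixOne.2 ⟨V.mul_mem (V.inv_mem x.2) y.2, ?_⟩
    have ex : ∀ z : V, (z : G)⁻¹ = z := fun z => inv_eq_of_mul_eq_one_right (d.sq _ z.2)
    have hxy : (x : G)⁻¹ * y = b * b * x * (b * b)⁻¹ * (b * b * y * (b * b)⁻¹)⁻¹ := by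
      rw [eq_mul_inv_iff_mul_eq, mul_assoc, inv_mul_eq_iff_eq_mul, e']
    calc b * b * ((x : G)⁻¹ * y) = b * b * (x * (y : G)⁻¹) * (b * b)⁻¹ * (b * b) := by rw [ex x, ex y]; group
      _ = (b * b * x * (b * b)⁻¹ * (b * b * y * (b * b)⁻¹)⁻¹) * (b * b) := by group
      _ = (x : G)⁻¹ * y * (b * b) := by rw [hxy]
  have hq : 0 < q := by
    rcases Nat.eq_zero_or_pos q with h0 | h0
    · exact absurd (hW W hWs).2.1 (h0 ▸ Nat.card_pos.ne')
    · exact h0
  -- both images have order at least `q`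
  have h1 : q ≤ Nat.card (Set.range fun x => f (f x)) := by
    refine Nat.le_of_mul_le_mul_right ?_ hq
    calc q * q = Nat.card V := hV.symm
      _ ≤ _ := card_le_range_mul (fun x => f (f x)) hker2
      _ = _ := by rw [(hW W hWs).2.1]
  have h2 : Nat.card (Set.range fun x => f (f x)) ≤ Nat.card (fixSub V W) := by
    refine Nat.card_le_card_of_injective (fun z => (⟨((z : V) : G), by
      obtain ⟨x, hx⟩ := z.2
      rw [← hx]; exact hmem2 x⟩ : fixSub V W)) fun z z' e => ?_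
    have e' : ((z : V) : G) = ((z' : V) : G) := congrArg (fun w : fixSub V W => (w : G)) e
    exact Subtype.ext (Subtype.ext e')
  -- a nontrivial double image
  obtain ⟨⟨z, hz⟩, hz1⟩ : ∃ z : Set.range fun x => f (f x), ((z : V) : G) ≠ 1 := by
    by_contra hall
    push Not at hall
    have : Nat.card (Set.range fun x => f (f x)) ≤ 1 := Finite.card_le_one_iff_subsingleton.2
      ⟨fun z z' => Subtype.ext (Subtype.ext ((hall z).trans (hall z').symm))⟩
    have hq1 : q = 1 := by omega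
    have := (one_lt_card_iff_ne_bot V).2 d.ne
    rw [hV, hq1] at this
    omega
  obtain ⟨x, rfl⟩ := hz
  -- `f x` is killed by `f` as its fixed point set is the whole image
  have hfx : (f x : G) ∈ fixSub V W := by
    have hf1 : q ≤ Nat.card (Set.range f) := by
      refine h1.trans (Nat.card_le_card_of_injective (fun z => (⟨z.1, by
        obtain ⟨x, hx⟩ := z.2; exact ⟨f x, hx⟩⟩ : Set.range f)) fun z z' e => ?_)
      have := congrArg Subtype.val e
      exact Subtype.ext this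
    have hf2 : Nat.card (Set.range f) ≤ q := by
      refine Nat.le_of_mul_le_mul_right ?_ hq
      calc Nat.card (Set.range f) * q = Nat.card (Set.range f × fixSub V W) := by
            rw [Nat.card_prod, (hW W hWs).2.1]
        _ ≤ Nat.card V := by
            classical
            choose r hr using fun z : Set.range f => z.2
            refine Nat.card_le_card_of_injective (fun p => (⟨(r p.1 : G) * (p.2 : G),
              V.mul_mem (r p.1).2 p.2.2.1⟩ : V)) ?_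
            rintro ⟨z, c⟩ ⟨z', c'⟩ e
            have e' : (r z : G) * c = r z' * c' := congrArg Subtype.val e
            have key : ∀ (x : V) (c : fixSub V W),
                f ⟨(x : G) * c, V.mul_mem x.2 c.2.1⟩ = f x := fun x c => Subtype.ext (by
              show (x : G) * c * (b * ((x : G) * c) * b⁻¹) = x * (b * x * b⁻¹)
              calc (x : G) * c * (b * ((x : G) * c) * b⁻¹)
                  = (x : G) * (c * (b * x * b⁻¹)) * (b * c * b⁻¹) := by group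
                _ = (x : G) * ((b * x * b⁻¹) * c) * c := by
                    rw [d.comm _ c.2.1 _ (d.conj_mem hbN x.2), (mem_fixSub.1 c.2).2 b hbW,
                      mul_inv_cancel_right]
                _ = (x : G) * (b * x * b⁻¹) := by rw [mul_assoc _ _ (c : G), mul_assoc _ (c : G) (c : G), d.sq _ c.2.1, mul_one])
            have hz : z = z' := Subtype.ext (by
              rw [← hr z, ← hr z', ← key (r z) c, ← key (r z') c']
              exact congrArg f (Subtype.ext e'))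
            subst hz
            exact Prod.ext rfl (Subtype.ext (mul_left_cancel e'))
        _ = q * q := hV
    have hsub : Set.range (fun x => f (f x)) ⊆ Set.range f := fun z ⟨x, hx⟩ => ⟨f x, hx⟩
    have heq : Set.range (fun x => f (f x)) = Set.range f := Set.eq_of_subset_of_ncard_le hsub (by
      rw [← Nat.card_coe_set_eq, ← Nat.card_coe_set_eq]; omega) (Set.toFinite _)
    obtain ⟨x', hx'⟩ : f x ∈ Set.range (fun x => f (f x)) := heq ▸ ⟨x, rfl⟩
    rw [← hx']; exact hmem2 x'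
  exact hz1 (congrArg Subtype.val (hkill (f x) hfx))

theorem trans {U U' U'' : Subgroup G} (hU : IsSyl N[E] U) (hU' : IsSyl N[E] U') (hU'' : IsSyl N[E] U'')
    (h' : U' ≠ U) (h'' : U'' ≠ U) : ∃ u : G, (u ∈ U ∧ u ∉ E ∧ cj u U' = U'') ∨ (U' = U'' ∧ u = 1) := by
  classical
  haveI := Fintype.ofFinite {W : Subgroup G // IsSyl N[E] W}
  have hne : ∀ u : U, cj (u : G) U' ≠ U := fun u e => h' (by
    have hu : (u : G)⁻¹ ∈ N[U] := le_normalizer (U.inv_mem u.2)
    have h1 := congrArg (cj (u : G)⁻¹) e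
    rwa [cj_mul, inv_mul_cancel, cj_one, cj_eq_self_iff.2 hu] at h1)
  let f : U → {X : {W : Subgroup G // IsSyl N[E] W} // X.1 ≠ U} := fun u =>
    ⟨⟨cj (u : G) U', d.move hU' (hU.1 u.2)⟩, hne u⟩
  have h : ∀ b c : U, f b = f c → (b : G)⁻¹ * c ∈ E := fun b c e => by
    have e' : cj (b : G) U' = cj (c : G) U' := congrArg (fun X => X.1.1) e
    refine d.semireg hU hU' h' (U.mul_mem (U.inv_mem b.2) c.2) ?_
    rw [← cj_mul, ← e', cj_mul, inv_mul_cancel, cj_one]
  have h1 := card_le_range_mul f h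
  have h2 : Nat.card {X : {W : Subgroup G // IsSyl N[E] W} // X.1 ≠ U} = q := by
    rw [Nat.card_eq_fintype_card, Fintype.card_subtype_compl, ← Nat.card_eq_fintype_card, hn,
      show Fintype.card {X : {W : Subgroup G // IsSyl N[E] W} // X.1 = U} = 1 from
        Fintype.card_eq_one_iff.2 ⟨⟨⟨U, hU⟩, rfl⟩, fun X => Subtype.ext (Subtype.ext X.2)⟩]
    omega
  have hsurj : Set.range f = Set.univ := by
    refine Set.eq_of_subset_of_ncard_le (Set.subset_univ _) ?_ (Set.toFinite _)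
    rw [Set.ncard_univ, h2, ← Nat.card_coe_set_eq]
    refine Nat.le_of_mul_le_mul_right ?_ (Nat.card_pos (α := E))
    rwa [(hW U hU).1, mul_comm (Nat.card E)] at h1
  obtain ⟨u, hu⟩ : ⟨⟨U'', hU''⟩, h''⟩ ∈ Set.range f := hsurj ▸ Set.mem_univ _
  by_cases huE : (u : G) ∈ E
  · refine ⟨1, Or.inr ⟨?_, rfl⟩⟩
    have e : cj (u : G) U' = U'' := congrArg (fun X => X.1.1) hu
    rwa [cj_eq_self_iff.2 (le_normalizer (d.le_syl hU' huE))] at e
  · exact ⟨u, Or.inl ⟨u.2, huE, congrArg (fun X => X.1.1) hu⟩⟩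

theorem fixSub_cj {W : Subgroup G} (hWs : IsSyl N[E] W) {g : G} (hg : g ∈ N[E]) :
    fixSub V (cj g W) = cj g (fixSub V W) := by
  obtain ⟨w, hw, hwE⟩ := SetLike.not_le_iff_exists.1
    (fun h => d.rad.syl_ne hWs (le_antisymm h (d.le_syl hWs)))
  rw [← (hW W hWs).2.2 w hw hwE, ← d.fixOne_conj g w hg,
    (hW _ (d.move hWs hg)).2.2 _ (conj_mem_cj.2 hw)]
  intro h
  have := normalizer_conj_mem ((N[E]).inv_mem hg) h
  rw [show g⁻¹ * (g * w * g⁻¹) * g⁻¹⁻¹ = w by group] at this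
  exact hwE this

theorem disjoint {U U' : Subgroup G} (hU : IsSyl N[E] U) (hU' : IsSyl N[E] U') (hne : U' ≠ U) {v : G}
    (hv : v ∈ fixSub V U) (hv' : v ∈ fixSub V U') : v = 1 := by
  obtain ⟨w, hw, hwE⟩ := SetLike.not_le_iff_exists.1
    (fun h => d.rad.syl_ne hU (le_antisymm h (d.le_syl hU)))
  obtain ⟨w', hw', hwE'⟩ := SetLike.not_le_iff_exists.1
    (fun h => d.rad.syl_ne hU' (le_antisymm h (d.le_syl hU')))
  exact d.fix_eq_one hU hU' hne hw hwE hw' hwE' ((hW U hU).2.2 w hw hwE ▸ hv)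
    ((hW U' hU').2.2 w' hw' hwE' ▸ hv')

/-- An element of order three inverted by a given element outside `E`. -/
theorem exists_three {U : Subgroup G} (hU : IsSyl N[E] U) {a : G} (ha : a ∈ U) (haE : a ∉ E) :
    ∃ r : G, r ∈ N[E] ∧ r ^ 3 = 1 ∧ r ≠ 1 ∧ a * r * a⁻¹ * r ∈ E := by
  classical
  obtain ⟨U', hU', hne⟩ := d.rad.two_syl U hU
  set U'' := cj a U'
  have hU'' : IsSyl N[E] U'' := d.move hU' (hU.1 ha)
  have haU : cj a U = U := cj_eq_self_iff.2 (le_normalizer ha)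
  have hne'' : U'' ≠ U' := fun e => haE (d.semireg hU hU' hne ha e)
  obtain ⟨a', ha'⟩ := d.trans hV hn hW hU' hU hU'' hne.symm hne''
  rcases ha' with ⟨ha'U, ha'E, hcj⟩ | ⟨e, -⟩
  swap
  · exact absurd e.symm (fun e1 => hne (by
      have h1 := congrArg (cj a⁻¹) e1
      rwa [cj_mul, inv_mul_cancel, cj_one, cj_eq_self_iff.2 (le_normalizer (U.inv_mem ha))] at h1))
  have haN : a ∈ N[E] := hU.1 ha
  have ha'N : a' ∈ N[E] := hU'.1 ha'U
  have ha2 : a * a ∈ E := d.sq_mem hV hn hW hU ha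
  have ha'2 : a' * a' ∈ E := d.sq_mem hV hn hW hU' ha'U
  set P := fixSub V U
  set P' := fixSub V U'
  have hPP' : ∀ v : G, v ∈ P → v ∈ P' → v = 1 := fun v => d.disjoint hV hn hW hU hU' hne
  have hdiff : ∀ x ∈ V, x * (a * x * a⁻¹) ∈ P := fun x hx => by
    show _ ∈ fixSub V U
    rw [← (hW U hU).2.2 a ha haE]; exact d.diff_mem haN ha2 hx
  have hdiff' : ∀ x ∈ V, x * (a' * x * a'⁻¹) ∈ P' := fun x hx => by
    show _ ∈ fixSub V U'
    rw [← (hW U' hU').2.2 a' ha'U ha'E]; exact d.diff_mem ha'N ha'2 hx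
  have hfix : ∀ v ∈ P, a * v * a⁻¹ = v := fun v hv => by rw [(mem_fixSub.1 hv).2 a ha, mul_inv_cancel_right]
  have hfix' : ∀ v ∈ P', a' * v * a'⁻¹ = v := fun v hv => by
    rw [(mem_fixSub.1 hv).2 a' ha'U, mul_inv_cancel_right]
  -- images of the two lines
  have hstep : ∀ v ∈ P, a * (v * (a' * v * a'⁻¹)) * a⁻¹ = a' * v * a'⁻¹ := by
    intro v hv
    set w := a' * v * a'⁻¹ with hw
    have hwP : w ∈ fixSub V U'' := by
      rw [← hcj, d.fixSub_cj hV hn hW hU ha'N]; exact conj_mem_cj.2 hv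
    rw [d.fixSub_cj hV hn hW hU' haN] at hwP
    obtain ⟨d', hd', hde⟩ := hwP
    change a * d' * a⁻¹ = w at hde
    have h1 : d' * w ∈ P := by rw [← hde]; exact hdiff d' hd'.1
    have hd : v * w ∈ P' := hdiff' v hv.1
    -- both decompositions of `w`
    have h2 : d' * (v * w) ∈ P' := P'.mul_mem hd' hd
    have h3 : d' * (v * w) ∈ P := by
      rw [← mul_assoc, d.comm d' hd'.1 v hv.1, mul_assoc]
      exact P.mul_mem hv h1
    have h4 := mul_eq_one_iff_eq_inv.1 (hPP' _ h3 h2)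
    have h5 : (v * w)⁻¹ = v * w := inv_eq_of_mul_eq_one_right (d.sq _ (V.mul_mem hv.1 (d.conj_mem ha'N hv.1)))
    rw [h5] at h4
    rw [← h4]; exact hde
  set ρ := a * a' with hρ
  have hρN : ρ ∈ N[E] := (N[E]).mul_mem haN ha'N
  -- cube on `P`
  have hρ1 : ∀ v ∈ P, ρ * v * ρ⁻¹ = v * (a' * v * a'⁻¹) := by
    intro v hv
    have hw := hstep v hv
    rw [show a * (v * (a' * v * a'⁻¹)) * a⁻¹ = (a * v * a⁻¹) * (a * (a' * v * a'⁻¹) * a⁻¹) by group,
      hfix v hv] at hw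
    calc ρ * v * ρ⁻¹ = a * (a' * v * a'⁻¹) * a⁻¹ := by rw [hρ]; group
      _ = v⁻¹ * (a' * v * a'⁻¹) := eq_inv_mul_iff_mul_eq.2 hw
      _ = v * (a' * v * a'⁻¹) := by rw [inv_eq_of_mul_eq_one_right (d.sq v hv.1)]
  have hρ2 : ∀ v ∈ P, ρ * (v * (a' * v * a'⁻¹)) * ρ⁻¹ = a' * v * a'⁻¹ := by
    intro v hv
    set c := v * (a' * v * a'⁻¹) with hc
    calc ρ * c * ρ⁻¹ = a * (a' * c * a'⁻¹) * a⁻¹ := by rw [hρ]; group
      _ = a * c * a⁻¹ := by rw [hfix' c (hdiff' v hv.1)]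
      _ = a' * v * a'⁻¹ := hstep v hv
  have hρ3 : ∀ v ∈ P, ρ * (a' * v * a'⁻¹) * ρ⁻¹ = v := by
    intro v hv
    have hvw : a' * v * a'⁻¹ = v⁻¹ * (v * (a' * v * a'⁻¹)) := by group
    calc ρ * (a' * v * a'⁻¹) * ρ⁻¹
        = (ρ * v * ρ⁻¹)⁻¹ * (ρ * (v * (a' * v * a'⁻¹)) * ρ⁻¹) := by rw [hvw]; group
      _ = (a' * v * a'⁻¹)⁻¹ * v⁻¹ * (a' * v * a'⁻¹) := by rw [hρ1 v hv, hρ2 v hv, mul_inv_rev]
      _ = v⁻¹ := by
          rw [mul_assoc, d.comm _ (V.inv_mem hv.1) _ (d.conj_mem ha'N hv.1), inv_mul_cancel_left]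
      _ = v := inv_eq_of_mul_eq_one_right (d.sq v hv.1)
  have hρρ : ∀ v ∈ P, ρ ^ 3 * v * (ρ ^ 3)⁻¹ = v := fun v hv => by
    calc ρ ^ 3 * v * (ρ ^ 3)⁻¹ = ρ * (ρ * (ρ * v * ρ⁻¹) * ρ⁻¹) * ρ⁻¹ := by rw [pow_three']; group
      _ = v := by rw [hρ1 v hv, hρ2 v hv, hρ3 v hv]
  -- the images of `P` fill `P'`
  have hsurj : ∀ x ∈ P', ∃ v ∈ P, v * (a' * v * a'⁻¹) = x := by
    let f : P → P' := fun v => ⟨(v : G) * (a' * v * a'⁻¹), hdiff' _ v.2.1⟩
    have hinj : Function.Injective f := fun v v' e => by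
      have e' : (v : G) * (a' * v * a'⁻¹) = v' * (a' * v' * a'⁻¹) := congrArg Subtype.val e
      refine Subtype.ext (inv_mul_eq_one.1 (hPP' ((v : G)⁻¹ * v') (P.mul_mem (P.inv_mem v.2) v'.2) ?_))
      have ex : ∀ z : P, (z : G)⁻¹ = z := fun z => inv_eq_of_mul_eq_one_right (d.sq _ z.2.1)
      show _ ∈ fixSub V U'
      rw [← (hW U' hU').2.2 a' ha'U ha'E]
      refine mem_fixOne.2 ⟨V.mul_mem (V.inv_mem v.2.1) v'.2.1, ?_⟩
      have hxy : (v : G)⁻¹ * v' = a' * v * a'⁻¹ * (a' * v' * a'⁻¹)⁻¹ := by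
        rw [eq_mul_inv_iff_mul_eq, mul_assoc, inv_mul_eq_iff_eq_mul, e']
      calc a' * ((v : G)⁻¹ * v') = a' * (v * (v' : G)⁻¹) * a'⁻¹ * a' := by rw [ex v, ex v']; group
        _ = (a' * v * a'⁻¹ * (a' * v' * a'⁻¹)⁻¹) * a' := by group
        _ = (v : G)⁻¹ * v' * a' := by rw [hxy]
    have hb := hinj.bijective_of_nat_card_le
      (le_of_eq ((hW U' hU').2.1.trans (hW U hU).2.1.symm))
    intro x hx
    obtain ⟨v, hv⟩ := hb.2 ⟨x, hx⟩
    exact ⟨v, v.2, congrArg Subtype.val hv⟩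
  have hsup : P ⊔ P' = V := by
    refine eq_of_le_of_card_ge (sup_le inf_le_left inf_le_left) ?_
    have h1 := CfsgLib.Fusion.card_mul_le_sup_inf P P'
    rw [(hW U hU).2.1, (hW U' hU').2.1, show P ⊓ P' = ⊥ from
      (eq_bot_iff_forall _).2 fun v hv => hPP' v hv.1 hv.2, card_bot, mul_one] at h1
    exact hV.le.trans h1
  have hcube : ρ ^ 3 ∈ E := by
    refine d.centralizer_le_core ⟨(N[E]).pow_mem hρN 3, ?_⟩
    rw [← hsup]
    refine mem_centralizer_iff.2 fun x hx => ?_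
    have hcl : P ⊔ P' ≤ centralizer ({ρ ^ 3} : Set G) := by
      refine sup_le (fun v hv => mem_centralizer_singleton_iff.2 (eq_mul_inv_iff_mul_eq.1 (hρρ v hv).symm))
        fun x hx => ?_
      obtain ⟨v, hv, rfl⟩ := hsurj x hx
      refine mem_centralizer_singleton_iff.2 (eq_mul_inv_iff_mul_eq.1 (Eq.symm ?_))
      calc ρ ^ 3 * (v * (a' * v * a'⁻¹)) * (ρ ^ 3)⁻¹ = ρ ^ 3 * (ρ * v * ρ⁻¹) * (ρ ^ 3)⁻¹ := by
            rw [hρ1 v hv]
        _ = ρ * (ρ ^ 3 * v * (ρ ^ 3)⁻¹) * ρ⁻¹ := by rw [pow_three']; group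
        _ = v * (a' * v * a'⁻¹) := by rw [hρρ v hv, hρ1 v hv]
    exact mem_centralizer_singleton_iff.1 (hcl hx)
  have hρE : ρ ∉ E := fun h => by
    obtain ⟨⟨v, hv⟩, hv1⟩ := ne_bot_iff_exists_ne_one.1 (show P ≠ ⊥ from fun e => by
      have h1 := (hW U hU).2.1
      have h2 := (one_lt_card_iff_ne_bot V).2 d.ne
      rw [show fixSub V U = ⊥ from e, card_bot] at h1
      rw [hV, ← h1] at h2
      omega)
    have h1 := hρ1 v hv
    rw [d.cen v hv.1 ρ h, mul_inv_cancel_right] at h1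
    have h2 : a' * v * a'⁻¹ = 1 := mul_left_cancel (h1.symm.trans (mul_one v).symm)
    exact hv1 (Subtype.ext (conj_eq_one_iff.1 h2))
  -- lift to order three
  obtain ⟨m, hm⟩ := d.rad.two.exists_card_eq
  obtain ⟨s, hs⟩ : ∃ s, 4 ^ m = 3 * s + 1 := by
    refine ⟨4 ^ m / 3, ?_⟩
    have h1 : 4 ^ m % 3 = 1 := by simp [Nat.pow_mod]
    omega
  have hEpow : ∀ e ∈ E, e ^ (4 ^ m) = 1 := fun e he => by
    have h1 : e ^ (2 ^ m) = 1 := by
      have := pow_card_eq_one' (x := (⟨e, he⟩ : E))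
      rw [hm] at this
      exact congrArg Subtype.val this
    rw [show (4 : ℕ) ^ m = 2 ^ m * 2 ^ m by rw [← mul_pow]; norm_num, pow_mul, h1, one_pow]
  set r := ρ ^ (4 ^ m) with hr
  have hrmod : r * ρ⁻¹ ∈ E := by
    rw [hr, hs, pow_succ, pow_mul, mul_inv_cancel_right]
    exact E.pow_mem hcube s
  refine ⟨r, (N[E]).pow_mem hρN _, ?_, fun h1 => hρE ?_, ?_⟩
  · rw [hr, ← pow_mul, mul_comm, pow_mul]
    exact hEpow _ hcube
  · rw [h1, one_mul] at hrmod
    simpa using E.inv_mem hrmod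
  · set e := r * ρ⁻¹ with he
    have hre : r = e * ρ := by rw [he, inv_mul_cancel_right]
    have hconj : ∀ g ∈ N[E], ∀ x ∈ E, g * x * g⁻¹ ∈ E := fun g hg x hx => normalizer_conj_mem hg hx
    have hae : a * ρ * a⁻¹ * ρ ∈ E := by
      rw [hρ, show a * (a * a') * a⁻¹ * (a * a') = (a * a) * (a' * a') by group]
      exact E.mul_mem ha2 ha'2
    rw [hre, show a * (e * ρ) * a⁻¹ * (e * ρ) =
      (a * e * a⁻¹) * ((a * ρ * a⁻¹) * e * (a * ρ * a⁻¹)⁻¹) * (a * ρ * a⁻¹ * ρ) by group]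
    exact E.mul_mem (E.mul_mem (hconj a haN e hrmod)
      (hconj _ ((N[E]).mul_mem ((N[E]).mul_mem haN hρN) ((N[E]).inv_mem haN)) e hrmod)) hae

end Spread

/-- A radical with an offender. -/
theorem off_of_radical (hc : IsCIT G) {E U : Subgroup G} (hE : IsRad E) (hti : IsTIMod N[E])
    (hU : IsSyl N[E] U) (hJ : ¬ jAb U ≤ E) : ∃ q, Off E q := by
  classical
  haveI : Fact (Nat.Prime 2) := ⟨Nat.prime_two⟩
  obtain ⟨A, hA, hAE⟩ : ∃ A, IsMaxAb U A ∧ ¬ A ≤ E := by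
    by_contra hall
    push Not at hall
    exact hJ (sSup_le hall)
  have hAc : ∀ x ∈ A, ∀ y ∈ A, x * y = y * x := fun x hx y hy =>
    congrArg Subtype.val (hA.2.1.is_comm.comm ⟨x, hx⟩ ⟨y, hy⟩)
  set Z := E ⊓ centralizer (E : Set G) with hZ
  have hZc : ∀ z ∈ Z, ∀ e ∈ E, e * z = z * e := fun z hz e he => mem_centralizer_iff.1 hz.2 e he
  let V : Subgroup G :=
    { carrier := {x | x ∈ Z ∧ x * x = 1}
      one_mem' := ⟨Z.one_mem, mul_one 1⟩
      mul_mem' := fun {x y} hx hy => ⟨Z.mul_mem hx.1 hy.1, by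
        calc x * y * (x * y) = x * (y * x) * y := by group
          _ = x * (x * y) * y := by rw [hZc x hx.1 y hy.1.1]
          _ = (x * x) * (y * y) := by group
          _ = 1 := by rw [hx.2, hy.2, one_mul]⟩
      inv_mem' := fun {x} hx => ⟨Z.inv_mem hx.1, by rw [← mul_inv_rev, hx.2, inv_one]⟩ }
  have hVZ : ∀ x ∈ V, x ∈ Z := fun x hx => hx.1
  have hZn : ∀ g ∈ N[E], ∀ x ∈ Z, g * x * g⁻¹ ∈ Z := fun g hg x hx =>
    ⟨normalizer_conj_mem hg hx.1, mem_centralizer_iff.2 fun e he => by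
      have he' : g⁻¹ * e * g ∈ E := by
        have := normalizer_conj_mem ((N[E]).inv_mem hg) he
        rwa [inv_inv] at this
      calc e * (g * x * g⁻¹) = g * ((g⁻¹ * e * g) * x) * g⁻¹ := by group
        _ = g * (x * (g⁻¹ * e * g)) * g⁻¹ := by rw [hZc x hx _ he']
        _ = g * x * g⁻¹ * e := by group⟩
  have hVne : V ≠ ⊥ := by
    haveI : Nontrivial E := (nontrivial_iff_ne_bot E).2 hE.ne
    haveI := hE.two.center_nontrivial
    obtain ⟨⟨z, hz⟩, hz1⟩ := exists_ne (1 : center E)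
    obtain ⟨k, hk⟩ := orderOf_two_pow hE.two z.2
    have hzZ : (z : G) ∈ Z := ⟨z.2, mem_centralizer_iff.2 fun e he =>
      congrArg Subtype.val (mem_center_iff.1 hz ⟨e, he⟩)⟩
    have h2 : 2 ∣ orderOf (z : G) := by
      rw [hk]
      refine dvd_pow_self 2 fun e => hz1 (Subtype.ext (Subtype.ext (orderOf_eq_one_iff.1 ?_)))
      rw [hk, e, pow_zero]
    have ho := orderOf_pow_orderOf_div (orderOf_pos (z : G)).ne' h2
    intro h
    refine CfsgLib.Invol.invol_ne_one ho (mem_bot.1 (h ▸ ?_))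
    exact (⟨Z.pow_mem hzZ _, CfsgLib.Invol.invol_mul_self ho⟩ : _ ∈ V)
  have d : Spread E V := ⟨hc, hE, hti, fun x hx => hx.1.1, hVne,
    fun x hx y hy => (hZc x hx.1 y hy.1.1).symm, fun x hx => hx.2,
    le_normalizer_of_forall fun g hg x hx => ⟨hZn g hg x hx.1, by
      rw [show g * x * g⁻¹ * (g * x * g⁻¹) = g * (x * x) * g⁻¹ by group, hx.2, mul_one, mul_inv_cancel]⟩,
    fun x hx e he => hZc x hx.1 e he⟩
  have hEU : E ≤ U := hE.le_normalizer_syl hU
  set X := A ⊓ E with hX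
  -- an abelian subgroup bounding `V`
  have hoff : Nat.card V * Nat.card X ≤ Nat.card A * Nat.card (A ⊓ V : Subgroup G) := by
    haveI : IsMulCommutative (V ⊔ X : Subgroup G) := by
      refine isMulCommutative_iff.2 fun a b => Subtype.ext ?_
      have h1 : V ⊔ X ≤ centralizer ((V ⊔ X : Subgroup G) : Set G) := by
        have hVX : V ⊔ X ≤ centralizer (V : Set G) ⊓ centralizer (X : Set G) :=
          sup_le (le_inf (fun v hv => mem_centralizer_iff.2 fun w hw => d.comm w hw v hv)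
              (fun v hv => mem_centralizer_iff.2 fun w hw => hZc v hv.1 w hw.2))
            (le_inf (fun x hx => mem_centralizer_iff.2 fun v hv => (hZc v hv.1 x hx.2).symm)
              (fun x hx => mem_centralizer_iff.2 fun w hw => hAc w hw.1 x hx.1))
        refine sup_le (fun v hv => mem_centralizer_iff.2 fun w hw => ?_)
          (fun v hv => mem_centralizer_iff.2 fun w hw => ?_)
        · exact (mem_centralizer_iff.1 (hVX hw).1 v hv).symm
        · exact (mem_centralizer_iff.1 (hVX hw).2 v hv).symm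
      exact (mem_centralizer_iff.1 (h1 a.2) b b.2).symm
    calc Nat.card V * Nat.card X ≤ Nat.card (V ⊔ X : Subgroup G) * Nat.card (V ⊓ X : Subgroup G) :=
          CfsgLib.Fusion.card_mul_le_sup_inf V X
      _ ≤ Nat.card A * Nat.card (A ⊓ V : Subgroup G) :=
          Nat.mul_le_mul (hA.2.2 _ (sup_le (d.le.trans hEU) (inf_le_right.trans hEU)) inferInstance)
            (card_le_of_le fun x hx => ⟨hx.2.1, hx.1⟩)
  obtain ⟨q, hq2, hVq, hAq, hAVq, hUAE, hn, hW⟩ := d.main hU hA.1 hA.2.1 hAE hoff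
  obtain ⟨a, haA, haE⟩ := SetLike.not_le_iff_exists.1 hAE
  obtain ⟨r, hrN, hr3, hr1, hinv⟩ := d.exists_three hVq hn hW hU (hA.1 haA) haE
  have hro : Odd (orderOf r) := by
    haveI : Fact (Nat.Prime 3) := ⟨Nat.prime_three⟩
    rw [orderOf_eq_prime hr3 hr1]; decide
  have hcls : ∀ {x y w : G}, x ∈ E → y ∈ E → w ∈ E → Commute ⁅x, y⁆ w := fun hx hy hw =>
    hc.commute_commutator hE.two hr3 hr1 hrN hx hy hw
  have hrE : ∀ x ∈ E, r * x * r⁻¹ ∈ E := fun x hx => normalizer_conj_mem hrN hx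
  have hrE' : ∀ x ∈ E, r⁻¹ * x * r ∈ E := fun x hx => by
    have := normalizer_conj_mem ((N[E]).inv_mem hrN) hx
    rwa [inv_inv] at this
  have hmul : ∀ x y w : G, x ∈ E → y ∈ E → w ∈ E → ⁅x, y * w⁆ = ⁅x, y⁆ * ⁅x, w⁆ := fun x y w hx hy hw => by
    rw [show ⁅x, y * w⁆ = ⁅x, y⁆ * (y * ⁅x, w⁆ * y⁻¹) by simp only [commutatorElement_def]; group,
      (hcls hx hw hy).symm.eq, mul_inv_cancel_right]
  -- commutators between `X` and its image
  have hcomm : ∀ u ∈ X, ∀ v ∈ X, u * (r * v * r⁻¹) = r * v * r⁻¹ * u := by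
    intro u hu v hv
    have key : ∀ u v : G, u ∈ X → v ∈ X → r * ⁅u, r * v * r⁻¹⁆ * r⁻¹ = ⁅v, r * u * r⁻¹⁆ := by
      intro u v hu hv
      have hn1 : v * (r * v * r⁻¹) * (r⁻¹ * v * r) = 1 := hc.norm_eq_one hE.two hr3 hr1 hrN hv.2
      have e1 : r * (r * v * r⁻¹) * r⁻¹ = (v * (r * v * r⁻¹))⁻¹ := by
        rw [mul_eq_one_iff_inv_eq.1 hn1]
        have h3 := hr3
        rw [pow_three'] at h3
        rw [show r⁻¹ = r * r from inv_eq_of_mul_eq_one_left h3]
        calc r * (r * v * (r * r)) * (r * r) = r * r * v * (r * r * r) * r := by group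
          _ = r * r * v * r := by rw [h3, mul_one]
      have e2 : ∀ x y : G, x ∈ E → y ∈ E → ⁅x, y⁻¹⁆ = ⁅x, y⁆⁻¹ := fun x y hx hy => by
        refine eq_inv_of_mul_eq_one_left ?_
        rw [← hmul x y⁻¹ y hx (E.inv_mem hy) hy, inv_mul_cancel, commutatorElement_one_right]
      have hz : ⁅r * u * r⁻¹, r * v * r⁻¹⁆ = 1 := by
        rw [commutatorElement_eq_one_iff_mul_comm]
        calc r * u * r⁻¹ * (r * v * r⁻¹) = r * (u * v) * r⁻¹ := by group
          _ = r * (v * u) * r⁻¹ := by rw [hAc u hu.1 v hv.1]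
          _ = r * v * r⁻¹ * (r * u * r⁻¹) := by group
      calc r * ⁅u, r * v * r⁻¹⁆ * r⁻¹ = ⁅r * u * r⁻¹, r * (r * v * r⁻¹) * r⁻¹⁆ := by
            simp only [commutatorElement_def]; group
        _ = (⁅r * u * r⁻¹, v⁆ * ⁅r * u * r⁻¹, r * v * r⁻¹⁆)⁻¹ := by
            rw [e1, e2 _ _ (hrE u hu.2) (E.mul_mem hv.2 (hrE v hv.2)),
              hmul _ _ _ (hrE u hu.2) hv.2 (hrE v hv.2)]
        _ = ⁅v, r * u * r⁻¹⁆ := by rw [hz, mul_one, commutatorElement_inv]
    have h1 := key u v hu hv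
    have h2 := key v u hv hu
    have hfix : r * (r * ⁅u, r * v * r⁻¹⁆ * r⁻¹) * r⁻¹ = ⁅u, r * v * r⁻¹⁆ := by rw [h1, h2]
    have hcE : ⁅u, r * v * r⁻¹⁆ ∈ E := by
      rw [commutatorElement_def]
      exact E.mul_mem (E.mul_mem (E.mul_mem hu.2 (hrE v hv.2)) (E.inv_mem hu.2)) (E.inv_mem (hrE v hv.2))
    set c := ⁅u, r * v * r⁻¹⁆
    have hrc : r * c = c * r := by
      rw [pow_three'] at hr3
      calc r * c = r * (r * (r * c * r⁻¹) * r⁻¹) := by rw [hfix]
        _ = (r * r * r) * c * (r * r)⁻¹ := by group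
        _ = c * r := by rw [hr3, one_mul, show (r * r)⁻¹ = r from inv_eq_of_mul_eq_one_left (by rw [← mul_assoc]; exact hr3)]
    exact commutatorElement_eq_one_iff_mul_comm.1 (hc.fpf hE.two hcE hro hr1 hrc)
  -- `B = X Z` and its image meet in `Z`
  set B := X ⊔ Z with hB
  set B' := cj r B with hB'
  have hBE : B ≤ E := sup_le inf_le_right inf_le_left
  have hXc : X ≤ centralizer (X : Set G) := fun x hx => mem_centralizer_iff.2 fun y hy => hAc y hy.1 x hx.1
  have hBB : ∀ x ∈ B, ∀ y ∈ B, x * y = y * x := by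
    have h1 : B ≤ centralizer (X : Set G) :=
      sup_le hXc fun z hz => mem_centralizer_iff.2 fun y hy => hZc z hz y hy.2
    have h2 : B ≤ centralizer (B : Set G) := sup_le
      (fun x hx => mem_centralizer_iff.2 fun y hy => (mem_centralizer_iff.1 (h1 hy) x hx).symm)
      fun z hz => mem_centralizer_iff.2 fun y hy => hZc z hz y (hBE hy)
    exact fun x hx y hy => mem_centralizer_iff.1 (h2 hy) x hx
  have hBB' : ∀ x ∈ B, ∀ y ∈ B', x * y = y * x := by
    have h1 : ∀ x ∈ X, ∀ y ∈ B', x * y = y * x := fun x hx y hy => by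
      obtain ⟨y0, hy0, rfl⟩ := hy
      have h2 : B ≤ (centralizer ({x} : Set G)).comap (MulAut.conj r).toMonoidHom := by
        refine sup_le (fun w hw => mem_centralizer_singleton_iff.2 (hcomm x hx w hw).symm)
          fun z hz => mem_centralizer_singleton_iff.2 (hZc _ (hZn r hrN z hz) x hx.2).symm
      exact (mem_centralizer_singleton_iff.1 (h2 hy0)).symm
    have h2 : B ≤ centralizer (B' : Set G) := sup_le
      (fun x hx => mem_centralizer_iff.2 fun y hy => (h1 x hx y hy).symm)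
      fun z hz => mem_centralizer_iff.2 fun y hy => by
        obtain ⟨y0, hy0, rfl⟩ := hy
        exact hZc z hz _ (hrE y0 (hBE hy0))
    exact fun x hx y hy => (mem_centralizer_iff.1 (h2 hx) y hy).symm
  have hB'E : B' ≤ E := fun y hy => by
    obtain ⟨y0, hy0, rfl⟩ := hy
    exact hrE y0 (hBE hy0)
  haveI : IsMulCommutative (B ⊔ B' : Subgroup G) := by
    refine isMulCommutative_iff.2 fun x y => Subtype.ext ?_
    have hB'B' : ∀ x ∈ B', ∀ y ∈ B', x * y = y * x := by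
      rintro _ ⟨x, hx, rfl⟩ _ ⟨y, hy, rfl⟩
      rw [← map_mul, ← map_mul, hBB x hx y hy]
    have h1 : B ⊔ B' ≤ centralizer (B : Set G) ⊓ centralizer (B' : Set G) := sup_le
      (fun x hx => ⟨mem_centralizer_iff.2 fun y hy => hBB y hy x hx,
        mem_centralizer_iff.2 fun y hy => (hBB' x hx y hy).symm⟩)
      (fun x hx => ⟨mem_centralizer_iff.2 fun y hy => hBB' y hy x hx,
        mem_centralizer_iff.2 fun y hy => hB'B' y hy x hx⟩)
    have h2 : B ⊔ B' ≤ centralizer ((B ⊔ B' : Subgroup G) : Set G) := sup_le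
      (fun x hx => mem_centralizer_iff.2 fun y hy => (mem_centralizer_iff.1 (h1 hy).1 x hx).symm)
      (fun x hx => mem_centralizer_iff.2 fun y hy => (mem_centralizer_iff.1 (h1 hy).2 x hx).symm)
    exact (mem_centralizer_iff.1 (h2 x.2) y y.2).symm
  -- modulo `Z` the element `a` centralizes `B` and inverts `r`
  have haN : a ∈ N[E] := hU.1 (hA.1 haA)
  have haB : ∀ w ∈ B, w⁻¹ * (a * w * a⁻¹) ∈ Z := by
    intro w hw
    haveI : (Z.subgroupOf N[E]).Normal :=
      (normal_subgroupOf_iff_le_normalizer ((inf_le_left : Z ≤ E).trans le_normalizer)).2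
        (le_normalizer_of_forall hZn)
    obtain ⟨x, hx, z, hz, rfl⟩ : ∃ x ∈ X, ∃ z ∈ Z, x * z = w := by
      have h1 : w ∈ (X : Set G) * (Z : Set G) := by
        rw [← Subgroup.coe_mul_of_left_le_normalizer_right X Z
          ((inf_le_right : X ≤ E).trans (le_normalizer.trans (le_normalizer_of_forall hZn)))]
        exact hw
      exact Set.mem_mul.1 h1
    rw [show (x * z)⁻¹ * (a * (x * z) * a⁻¹) = z⁻¹ * x⁻¹ * (a * x * a⁻¹) * (a * z * a⁻¹) by group,
      hAc a haA x hx.1, mul_inv_cancel_right, inv_mul_cancel_right]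
    exact Z.mul_mem (Z.inv_mem hz) (hZn a haN z hz)
  -- elements of `B` whose image under `r` is in `B` lie in `Z`, with a sharper form for fixed points
  have hmeet : ∀ w1 ∈ B, r * w1 * r⁻¹ ∈ B → ∀ Z0 : Subgroup G, Z0 ≤ Z →
      (∀ g ∈ N[E], ∀ z ∈ Z0, g * z * g⁻¹ ∈ Z0) → w1⁻¹ * (a * w1 * a⁻¹) ∈ Z0 →
      (r * w1 * r⁻¹)⁻¹ * (a * (r * w1 * r⁻¹) * a⁻¹) ∈ Z0 →
      (∀ e ∈ E, e⁻¹ * (w1 * e * w1⁻¹) ∈ Z0) → w1 ∈ Z0 := by
    intro w1 hw1 hw Z0 hZ0 hZ0n h1 h2 h3
    set k := a * r * a⁻¹ * r with hk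
    have hkE : k ∈ E := hinv
    set z1 := w1⁻¹ * (a * w1 * a⁻¹) with hz1
    set z2 := (r * w1 * r⁻¹)⁻¹ * (a * (r * w1 * r⁻¹) * a⁻¹) with hz2
    -- `a (r w1 r⁻¹) a⁻¹ = (k r⁻¹) (w1 z1) (k r⁻¹)⁻¹`
    have e1 : a * (r * w1 * r⁻¹) * a⁻¹ = k * (r⁻¹ * w1 * r) * k⁻¹ * ((k * r⁻¹) * z1 * (k * r⁻¹)⁻¹) := by
      rw [hk, hz1]; group
    have e2 : a * (r * w1 * r⁻¹) * a⁻¹ = (r * w1 * r⁻¹) * z2 := by rw [hz2, mul_inv_cancel_left]
    set y := r⁻¹ * w1 * r
    have hy : y ∈ E := hrE' w1 (hBE hw1)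
    have hkr : k * r⁻¹ ∈ N[E] := (N[E]).mul_mem (le_normalizer hkE) ((N[E]).inv_mem hrN)
    -- `k y k⁻¹ = y z3`
    have hz3 : y⁻¹ * (k * y * k⁻¹) ∈ Z0 := by
      have h4 := h3 (r * k * r⁻¹) (hrE k hkE)
      have h5 := hZ0n r⁻¹ ((N[E]).inv_mem hrN) _ h4
      have h6 : k * (r⁻¹ * ((r * k * r⁻¹)⁻¹ * (w1 * (r * k * r⁻¹) * w1⁻¹)) * r⁻¹⁻¹) * k⁻¹ = y * k * y⁻¹ * k⁻¹ := by
        simp only [y]; group
      have h7 := hZ0n k (le_normalizer hkE) _ h5
      rw [h6] at h7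
      have h8 := hZ0n y⁻¹ ((N[E]).inv_mem (le_normalizer hy)) _ (Z0.inv_mem h7)
      rwa [show y⁻¹ * (y * k * y⁻¹ * k⁻¹)⁻¹ * y⁻¹⁻¹ = y⁻¹ * (k * y * k⁻¹) by group] at h8
    -- hence `r w1 r⁻¹` and `r⁻¹ w1 r` agree modulo `Z0`
    have h9 : y⁻¹ * (r * w1 * r⁻¹) ∈ Z0 := by
      have e3 : y⁻¹ * (r * w1 * r⁻¹) =
          (y⁻¹ * (k * y * k⁻¹)) * ((k * r⁻¹) * z1 * (k * r⁻¹)⁻¹) * z2⁻¹ := by
        have e4 := e2.symm.trans e1
        rw [eq_mul_inv_iff_mul_eq, mul_assoc, e4]; group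
      rw [e3]
      exact Z0.mul_mem (Z0.mul_mem hz3 (hZ0n _ hkr _ h1)) (Z0.inv_mem h2)
    -- so `r` fixes `w1` modulo `Z0`
    have h10 : w1⁻¹ * (r * r * w1 * (r * r)⁻¹) ∈ Z0 := by
      have := hZ0n r hrN _ h9
      rwa [show r * (y⁻¹ * (r * w1 * r⁻¹)) * r⁻¹ = w1⁻¹ * (r * r * w1 * (r * r)⁻¹) by
        simp only [y]; group] at this
    rw [pow_three'] at hr3
    have hrr : r * r = r⁻¹ := (inv_eq_of_mul_eq_one_left hr3).symm
    rw [hrr, inv_inv] at h10
    let f : Z0 → Z0 := fun z => ⟨(z : G)⁻¹ * (r⁻¹ * z * r), Z0.mul_mem (Z0.inv_mem z.2) (by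
      have := hZ0n r⁻¹ ((N[E]).inv_mem hrN) _ z.2
      rwa [inv_inv] at this)⟩
    have hfpf : ∀ x ∈ E, r⁻¹ * x * r = x → x = 1 := fun x hx e => hc.fpf hE.two hx hro hr1 (by
      nth_rewrite 1 [← e]
      group)
    have hf : Function.Injective f := fun z z' e => by
      have e' : (z : G)⁻¹ * (r⁻¹ * z * r) = (z' : G)⁻¹ * (r⁻¹ * z' * r) := congrArg Subtype.val e
      refine Subtype.ext (inv_mul_eq_one.1 (hfpf ((z : G)⁻¹ * z')
        (E.mul_mem (E.inv_mem (hZ0 z.2).1) (hZ0 z'.2).1) ?_))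
      have c1 := hZc _ (hZn r⁻¹ ((N[E]).inv_mem hrN) _ (hZ0 z.2)) z' (hZ0 z'.2).1
      rw [inv_inv] at c1
      calc r⁻¹ * ((z : G)⁻¹ * z') * r = (r⁻¹ * z * r)⁻¹ * (r⁻¹ * z' * r) := by group
        _ = (z : G)⁻¹ * z' := by
          have e5 : r⁻¹ * z' * r = z' * ((z : G)⁻¹ * (r⁻¹ * z * r)) := by rw [e', mul_inv_cancel_left]
          rw [e5, ← mul_assoc, ← mul_assoc,
            show ((r⁻¹ * (z : G) * r)⁻¹ * (z' : G)) = (z' : G) * (r⁻¹ * (z : G) * r)⁻¹ from
              ((show Commute (z' : G) (r⁻¹ * z * r) from c1).inv_right.eq).symm]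
          have c2 := hZc _ (hZ0 z'.2) z (hZ0 z.2).1
          have c3 : (z : G)⁻¹ * z' = z' * (z : G)⁻¹ := (show Commute (z : G) z' from c2).inv_left.eq
          have c4 : (r⁻¹ * z * r)⁻¹ * (z : G)⁻¹ = (z : G)⁻¹ * (r⁻¹ * z * r)⁻¹ := by
            have h11 := hZc _ (hZn r⁻¹ ((N[E]).inv_mem hrN) _ (hZ0 z.2)) z (hZ0 z.2).1
            rw [inv_inv] at h11
            exact ((show Commute (z : G) (r⁻¹ * z * r) from h11).inv_inv).symm.eq
          rw [mul_assoc ((z' : G)), c4, c3]; group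
    obtain ⟨z, hz⟩ := (Finite.injective_iff_surjective.1 hf) ⟨_, h10⟩
    have hz' : (z : G)⁻¹ * (r⁻¹ * z * r) = w1⁻¹ * (r⁻¹ * w1 * r) := congrArg Subtype.val hz
    have hw0 : w1 * (z : G)⁻¹ = 1 := hfpf _ (E.mul_mem (hBE hw1) (E.inv_mem (hZ0 z.2).1)) (by
      calc r⁻¹ * (w1 * (z : G)⁻¹) * r = (r⁻¹ * w1 * r) * (r⁻¹ * z * r)⁻¹ := by group
        _ = w1 * ((z : G)⁻¹ * (r⁻¹ * z * r)) * (r⁻¹ * z * r)⁻¹ := by rw [hz', mul_inv_cancel_left]
        _ = w1 * (z : G)⁻¹ := by group)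
    rw [mul_inv_eq_one.1 hw0]
    exact z.2
  have hinter : B ⊓ B' ≤ Z := by
    rintro w ⟨hw, w1, hw1, hwe⟩
    have hwe' : r * w1 * r⁻¹ = w := hwe
    have h := hmeet w1 hw1 (hwe'.symm ▸ hw) Z le_rfl hZn (haB w1 hw1) (hwe'.symm ▸ haB w hw)
      fun e he => ?_
    · rw [← hwe']; exact hZn r hrN w1 h
    · refine ⟨E.mul_mem (E.inv_mem he) (E.mul_mem (E.mul_mem (hBE hw1) he) (E.inv_mem (hBE hw1))),
        mem_centralizer_iff.2 fun x hx => ?_⟩
      rw [show e⁻¹ * (w1 * e * w1⁻¹) = ⁅e⁻¹, w1⁆ by rw [commutatorElement_def]; group]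
      exact (hcls (E.inv_mem he) (hBE hw1) hx).symm.eq
  have hcardA : Nat.card A = Nat.card X * q := hAq
  have hAV : Nat.card (A ⊓ V : Subgroup G) = q := hAVq
  have hXZ : X ≤ Z := by
    have h1 : Nat.card B * Nat.card B ≤ Nat.card A * Nat.card Z := by
      calc Nat.card B * Nat.card B = Nat.card B * Nat.card B' := by rw [hB', card_cj]
        _ ≤ Nat.card (B ⊔ B' : Subgroup G) * Nat.card (B ⊓ B' : Subgroup G) :=
            CfsgLib.Fusion.card_mul_le_sup_inf B B'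
        _ ≤ Nat.card A * Nat.card Z := Nat.mul_le_mul
            (hA.2.2 _ (sup_le (hBE.trans hEU) (hB'E.trans hEU)) inferInstance) (card_le_of_le hinter)
    set i := Nat.card (X ⊓ Z : Subgroup G)
    have h2 : Nat.card X * Nat.card Z ≤ Nat.card B * i := CfsgLib.Fusion.card_mul_le_sup_inf X Z
    have h3 : i * q ≤ Nat.card Z := by
      have h4 := CfsgLib.Fusion.card_mul_le_sup_inf (X ⊓ Z) V
      have h5 : Nat.card ((X ⊓ Z) ⊔ V : Subgroup G) ≤ Nat.card Z := card_le_of_le (sup_le inf_le_right hVZ)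
      have h6 : Nat.card ((X ⊓ Z) ⊓ V : Subgroup G) ≤ q :=
        hAV ▸ card_le_of_le (fun x hx => ⟨hx.1.1.1, hx.2⟩)
      rw [hVq] at h4
      refine Nat.le_of_mul_le_mul_right ?_ (show 0 < q by omega)
      calc i * q * q = i * (q * q) := by ring
        _ ≤ _ := h4
        _ ≤ Nat.card Z * q := Nat.mul_le_mul h5 h6
    have hz0 : 0 < Nat.card Z := Nat.card_pos
    have hx0 : 0 < Nat.card X := Nat.card_pos
    have hi0 : 0 < i := Nat.card_pos
    have h7 : Nat.card X * Nat.card Z ≤ q * (i * i) := by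
      refine Nat.le_of_mul_le_mul_right ?_ (Nat.mul_pos hx0 hz0)
      calc Nat.card X * Nat.card Z * (Nat.card X * Nat.card Z) ≤ (Nat.card B * i) * (Nat.card B * i) :=
            Nat.mul_le_mul h2 h2
        _ = (Nat.card B * Nat.card B) * (i * i) := by ring
        _ ≤ (Nat.card A * Nat.card Z) * (i * i) := Nat.mul_le_mul_right _ h1
        _ = q * (i * i) * (Nat.card X * Nat.card Z) := by rw [hcardA]; ring
    have h8 : Nat.card X ≤ i := by
      refine Nat.le_of_mul_le_mul_right ?_ (Nat.mul_pos hi0 (show 0 < q by omega))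
      calc Nat.card X * (i * q) ≤ Nat.card X * Nat.card Z := Nat.mul_le_mul_left _ h3
        _ ≤ q * (i * i) := h7
        _ = i * (i * q) := by ring
    exact inf_eq_left.1 (eq_of_le_of_card_ge inf_le_left h8)
  -- `E = Z`
  have hZA : Nat.card A ≤ Nat.card Z := by
    have h4 := CfsgLib.Fusion.card_mul_le_sup_inf X V
    rw [hVq] at h4
    have h5 : Nat.card (X ⊔ V : Subgroup G) ≤ Nat.card Z := card_le_of_le (sup_le hXZ hVZ)
    have h6 : Nat.card (X ⊓ V : Subgroup G) ≤ q := hAV ▸ card_le_of_le (fun x hx => ⟨hx.1.1, hx.2⟩)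
    refine Nat.le_of_mul_le_mul_right ?_ (show 0 < q by omega)
    calc Nat.card A * q = Nat.card X * (q * q) := by rw [hcardA]; ring
      _ ≤ _ := h4
      _ ≤ Nat.card Z * q := Nat.mul_le_mul h5 h6
  have hEZ : E = Z := by
    refine le_antisymm (fun e he => ?_) inf_le_left
    haveI : IsMulCommutative (Z ⊔ zpowers e : Subgroup G) := by
      refine isMulCommutative_iff.2 fun x y => Subtype.ext ?_
      have h1 : Z ⊔ zpowers e ≤ centralizer ({e} : Set G) := sup_le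
        (fun z hz => mem_centralizer_singleton_iff.2 (hZc z hz e he).symm)
        (zpowers_le.2 (mem_centralizer_singleton_iff.2 rfl))
      have h2 : Z ⊔ zpowers e ≤ centralizer ((Z ⊔ zpowers e : Subgroup G) : Set G) := by
        have hle : Z ⊔ zpowers e ≤ E := sup_le inf_le_left (zpowers_le.2 he)
        exact sup_le (fun z hz => mem_centralizer_iff.2 fun y hy => hZc z hz y (hle hy))
          (zpowers_le.2 (mem_centralizer_iff.2 fun y hy => mem_centralizer_singleton_iff.1 (h1 hy)))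
      exact (mem_centralizer_iff.1 (h2 x.2) y y.2).symm
    have h3 : Z ⊔ zpowers e = Z := (eq_of_le_of_card_ge le_sup_left ((hA.2.2 _ (sup_le
      ((inf_le_left : Z ≤ E).trans hEU) (zpowers_le.2 (hEU he))) inferInstance).trans hZA)).symm
    exact h3.le (le_sup_right (a := Z) (mem_zpowers e))
  -- `Z = V`
  have hAle : Nat.card Z ≤ Nat.card A := by
    haveI : IsMulCommutative Z :=
      isMulCommutative_iff.2 fun x y => Subtype.ext (hZc y y.2 x x.2.1)
    exact hA.2.2 Z ((inf_le_left : Z ≤ E).trans hEU) inferInstance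
  set C := fixOne Z a
  have hCC : C ⊓ cj r C = ⊥ := (eq_bot_iff_forall _).2 fun w hw => by
    obtain ⟨hwC, w1, hw1, hwe⟩ := hw
    have hwe' : r * w1 * r⁻¹ = w := hwe
    obtain ⟨hw1Z, hc1⟩ := mem_fixOne.1 hw1
    obtain ⟨hwZ, hc2⟩ := mem_fixOne.1 hwC
    have h := hmeet w1 ((le_sup_right : Z ≤ B) hw1Z) (hwe'.symm ▸ (le_sup_right : Z ≤ B) hwZ) ⊥ bot_le
      (fun g _ z hz => by rw [mem_bot.1 hz, mul_one, mul_inv_cancel]; exact one_mem _)
      (by rw [hc1, mul_inv_cancel_right, inv_mul_cancel]; exact one_mem _)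
      (by rw [hwe', hc2, mul_inv_cancel_right, inv_mul_cancel]; exact one_mem _)
      (fun e he => by rw [← hZc w1 hw1Z e he, mul_inv_cancel_right, inv_mul_cancel]; exact one_mem _)
    rw [← hwe', mem_bot.1 h, mul_one, mul_inv_cancel]
  have hCq : Nat.card C * Nat.card C ≤ Nat.card Z := by
    have h1 := CfsgLib.Fusion.card_mul_le_sup_inf C (cj r C)
    rw [hCC, card_bot, mul_one, card_cj] at h1
    refine h1.trans (card_le_of_le (sup_le inf_le_left fun w hw => ?_))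
    obtain ⟨w1, hw1, rfl⟩ := hw
    exact hZn r hrN w1 hw1.1
  have hXC : Nat.card X ≤ Nat.card C :=
    card_le_of_le fun x hx => mem_fixOne.2 ⟨hXZ hx, hAc a haA x hx.1⟩
  have hXq : Nat.card X ≤ q := by
    refine Nat.le_of_mul_le_mul_left ?_ (Nat.card_pos (α := X))
    calc Nat.card X * Nat.card X ≤ Nat.card C * Nat.card C := Nat.mul_le_mul hXC hXC
      _ ≤ Nat.card A := hCq.trans hAle
      _ = Nat.card X * q := hcardA
  have hXq' : Nat.card X = q :=
    le_antisymm hXq (hAV ▸ card_le_of_le fun x hx => ⟨hx.1, d.le hx.2⟩)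
  have hEV : V = E := by
    refine eq_of_le_of_card_ge d.le ?_
    rw [hEZ, hVq]
    exact hAle.trans_eq (by rw [hcardA, hXq'])
  have hEq : Nat.card E = q * q := by rw [← hEV, hVq]
  have hsyl : ∀ W : Subgroup G, IsSyl N[E] W → Nat.card W = q * q * q ∧ Nat.card (fixSub E W) = q ∧
      ∀ w ∈ W, (w ∉ E → fixOne E w = fixSub E W) := by
    intro W hWs
    obtain ⟨h1, h2, h3⟩ := hW W hWs
    refine ⟨by rw [h1, hEq], ?_, ?_⟩
    · rwa [hEV] at h2
    · rwa [hEV] at h3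
  refine ⟨q, hEV ▸ d, hq2, hEq, hn, hsyl, fun W hWs => ?_⟩
  obtain ⟨g, hg, rfl⟩ := hU.exists_conj hWs
  have hgE : cj g E = E := cj_eq_self_iff.2 hg
  refine ⟨cj g A, isMaxAb_cj hA g, fun h => hAE ?_, by rw [card_cj, hcardA, hXq'], ?_⟩
  · have := cj_mono (g := g⁻¹) h
    rwa [cj_mul, inv_mul_cancel, cj_one, cj_eq_self_iff.2 ((N[E]).inv_mem hg)] at this
  · conv_rhs => rw [← hgE]
    rw [cj, cj, cj, ← Subgroup.map_sup, ← hUAE]

end CfsgLib.CIT
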