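import Cfsg.Agent.Lib.CIT.Perfect
import Cfsg.Agent.Lib.AutPSL.BalanceField
import Cfsg.Agent.Lib.SLTwoFpf.Abelian
import Cfsg.Agent.Lib.SLTwoFpf.Group
import Cfsg.Agent.Lib.Lie.Suz.Aut
import Cfsg.Agent.Lib.Classical.SLBasic
import Cfsg.Agent.S0813

/-!
# CN groups of automorphisms

A CN group of automorphisms containing the inner ones of `PSL₂(2ⁿ)`, `PSL₃(4)` or a Suzuki group is
the inner group, and one of `PSL₂(p)` or `PSL₂(9)` contains it with index at most two, equality
holding for `p`.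
-/

set_option autoImplicit false
set_option linter.unusedSectionVars false
set_option linter.style.haveILetI false
set_option linter.unusedSimpArgs false

namespace CfsgLib.CIT

open scoped Matrix

open CfsgLib.AutPSL
open CfsgLib.Qd (up lo ext2 mul00 mul01 mul10 mul11)

universe u

variable {P : Type u} [Group P] [Finite P]

theorem eq_one_of_fix (hinj : Function.Injective (MulAut.conj : P →* MulAut P)) {𝒢 : Subgroup (MulAut P)}
    (hin : (MulAut.conj : P →* MulAut P).range ≤ 𝒢) (hCN : IsCN 𝒢) {f : MulAut P} (hf : f ∈ 𝒢)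
    {z y : P} (hz : orderOf z = 2) (hy : Odd (orderOf y)) (hne : z * y ≠ y * z) (hfz : f z = z)
    (hfy : f y = y) : f = 1 := by
  by_contra hf1
  have hcomm : ∀ w : P, f w = w → MulAut.conj w * f = f * MulAut.conj w := fun w hw => by
    refine MulEquiv.ext fun x => ?_
    simp [map_mul, hw]
  have h := cn_comm (G := 𝒢) hCN (x := ⟨f, hf⟩) (a := ⟨MulAut.conj z, hin ⟨z, rfl⟩⟩)
    (b := ⟨MulAut.conj y, hin ⟨y, rfl⟩⟩) (fun e => hf1 (congrArg Subtype.val e))
    (Subtype.ext (hcomm z hfz)) (Subtype.ext (hcomm y hfy)) (by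
      rw [Subgroup.orderOf_mk, Subgroup.orderOf_mk, orderOf_injective MulAut.conj hinj z,
        orderOf_injective MulAut.conj hinj y, hz]
      exact Nat.coprime_two_left.2 hy)
  refine hne (hinj ?_)
  rw [map_mul, map_mul]
  exact congrArg Subtype.val h

/-- No nontrivial member fixes an involution and an element of odd order not commuting with it. -/
def FixTrivial (𝒢 : Subgroup (MulAut P)) : Prop :=
  ∀ f ∈ 𝒢, ∀ z y : P, orderOf z = 2 → Odd (orderOf y) → z * y ≠ y * z → f z = z → f y = y → f = 1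

theorem fixTrivial_of_isCN (hinj : Function.Injective (MulAut.conj : P →* MulAut P)) {𝒢 : Subgroup (MulAut P)}
    (hin : (MulAut.conj : P →* MulAut P).range ≤ 𝒢) (hCN : IsCN 𝒢) : FixTrivial 𝒢 :=
  fun _ hf _ _ hz hy hne hfz hfy => eq_one_of_fix hinj hin hCN hf hz hy hne hfz hfy

theorem conj_injective_of_simple [IsSimpleGroup P] (hna : ¬ IsMulCommutative P) :
    Function.Injective (MulAut.conj : P →* MulAut P) := by
  refine (MonoidHom.ker_eq_bot_iff _).1 (((MulAut.conj : P →* MulAut P).normal_ker.eq_bot_or_eq_top).resolve_right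
    fun e => hna (isMulCommutative_iff.2 fun a b => ?_))
  have h : MulAut.conj a b = b := by
    rw [MonoidHom.mem_ker.1 (show a ∈ (MulAut.conj : P →* MulAut P).ker from e ▸ Subgroup.mem_top a)]
    rfl
  rw [MulAut.conj_apply] at h
  exact mul_inv_eq_iff_eq_mul.1 h

section SLTwo

variable {F : Type} [Field F] [Fintype F]

local notation "P2" => Matrix.ProjectiveSpecialLinearGroup (Fin 2) F

theorem inner_psl_two_even_of_fix [CharP F 2] (hna : ¬ IsMulCommutative P2) [IsSimpleGroup P2]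
    {𝒢 : Subgroup (MulAut P2)} (hin : (MulAut.conj : P2 →* MulAut P2).range ≤ 𝒢) (hfix : FixTrivial 𝒢) :
    𝒢 = (MulAut.conj : P2 →* MulAut P2).range := by
  classical
  refine le_antisymm (fun β hβ => ?_) hin
  obtain ⟨g, σ, h | ⟨h3, -⟩⟩ := aut_classify le_rfl β
  swap; · omega
  obtain ⟨c, hc⟩ := CfsgLib.SLTwoFpf.root_exists (g.1.det)
  have hc0 : c ≠ 0 := fun e => by
    rw [e, mul_zero] at hc
    exact (Matrix.GeneralLinearGroup.det g).ne_zero hc.symm
  let s : Matrix.SpecialLinearGroup (Fin 2) F := ⟨c⁻¹ • g.1, by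
    rw [Matrix.det_smul, Fintype.card_fin, ← hc]; field_simp⟩
  have hg : g = scal (Units.mk0 c hc0) * Matrix.SpecialLinearGroup.toGL s := by
    refine Units.ext ?_
    rw [Units.val_mul, scal_val]
    show g.1 = (c • (1 : Matrix (Fin 2) (Fin 2) F)) * (c⁻¹ • g.1)
    rw [Matrix.smul_mul, one_mul, smul_smul, mul_inv_cancel₀ hc0, one_smul]
  have hinner : ind g 1 ∈ (MulAut.conj : P2 →* MulAut P2).range := by
    rw [hg, ind_scal_mul, ← indHom_apply, ← conj_proj]
    exact ⟨_, rfl⟩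
  have he : ind g σ = ind g 1 * ind 1 σ := (ind_mul_fieldHom g σ).symm
  have hfield : ind (1 : GL (Fin 2) F) σ ∈ 𝒢 := by
    have := Subgroup.mul_mem _ (Subgroup.inv_mem _ (hin hinner)) (h ▸ hβ)
    rwa [he, inv_mul_cancel_left] at this
  have hmap : ∀ M : Matrix.SpecialLinearGroup (Fin 2) F, slField σ M = M → ind (1 : GL (Fin 2) F) σ (proj M) = proj M :=
    fun M hM => by rw [field_proj, hM]
  have hup : slField σ (up (1 : F)) = up (1 : F) := by
    refine Subtype.ext ?_
    rw [slField_val]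
    ext i j
    fin_cases i <;> fin_cases j <;> simp
  have hlo : slField σ (lo (1 : F)) = lo (1 : F) := by
    refine Subtype.ext ?_
    rw [slField_val]
    ext i j
    fin_cases i <;> fin_cases j <;> simp
  have he2 : 2 ∣ Fintype.card F := by
    obtain ⟨n, hp, hn⟩ := FiniteField.card F 2
    rw [hn]; exact dvd_pow_self 2 n.ne_zero
  have ho3 := (CfsgLib.SLTwoFpf.order_three (1 : F) one_ne_zero).1
  rw [inv_one] at ho3
  have hinj : Function.Injective (proj : Matrix.SpecialLinearGroup (Fin 2) F → P2) := fun a b e => by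
    have h1 := CfsgLib.Classical.PSL2Spectrum.orderOf_π_even he2 (a⁻¹ * b)
    have h2 : proj (a⁻¹ * b) = (1 : P2) := by rw [map_mul, map_inv, e, inv_mul_cancel]
    have h3 : orderOf (a⁻¹ * b) = 1 := h1.symm.trans (orderOf_eq_one_iff.2 h2)
    exact inv_mul_eq_one.1 (orderOf_eq_one_iff.1 h3)
  have hone := hfix _ hfield (proj (up (1 : F))) (proj (up (1 : F) * lo (1 : F)))
    (orderOf_eq_prime (by rw [pow_two, ← map_mul, CfsgLib.SLTwoFpf.up_mul_self, map_one])
      fun e => by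
        have h2 := congrArg (fun M : Matrix.SpecialLinearGroup (Fin 2) F => M.1 0 1) (hinj (e.trans (map_one proj).symm))
        simp at h2)
    (by rw [orderOf_injective proj hinj, ho3]; decide)
    (fun e => by
      rw [← map_mul, ← map_mul] at e
      have h2 := congrArg (fun M : Matrix.SpecialLinearGroup (Fin 2) F => M.1 1 1) (hinj e)
      simp [Matrix.mul_apply, Fin.sum_univ_two] at h2)
    (hmap _ hup) (hmap _ (by rw [map_mul, hup, hlo]))
  rw [h, he, hone, mul_one]
  exact hinner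

theorem inner_psl_two_even [CharP F 2] (hna : ¬ IsMulCommutative P2) [IsSimpleGroup P2]
    {𝒢 : Subgroup (MulAut P2)} (hin : (MulAut.conj : P2 →* MulAut P2).range ≤ 𝒢) (hCN : IsCN 𝒢) :
    𝒢 = (MulAut.conj : P2 →* MulAut P2).range :=
  inner_psl_two_even_of_fix hna hin (fixTrivial_of_isCN (conj_injective_of_simple hna) hin hCN)

/-- The companion matrix of trace `t`. -/
def compMat (t : F) : Matrix (Fin 2) (Fin 2) F := !![0, -1; 1, t]

theorem compMat_pow_five {t : F} (ht : t * t + t - 1 = 0) : compMat t ^ 5 = 1 := by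
  have hA2 : compMat t * compMat t = !![-1, -t; t, -t] := by
    ext a b; fin_cases a <;> fin_cases b <;> simp [compMat, Matrix.mul_apply, Fin.sum_univ_two] <;>
      linear_combination ht
  have hA4 : !![(-1 : F), -t; t, -t] * !![-1, -t; t, -t] = !![t, 1; -1, 0] := by
    ext a b; fin_cases a <;> fin_cases b <;> simp [Matrix.mul_apply, Fin.sum_univ_two]
    · linear_combination -ht
    · linear_combination ht
    · linear_combination -ht
  rw [show (5 : ℕ) = 2 + 2 + 1 by rfl, pow_succ, pow_add, pow_two, hA2, hA4]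
  ext a b; fin_cases a <;> fin_cases b <;> simp [compMat, Matrix.mul_apply, Fin.sum_univ_two]

theorem exists_good_trace (h5 : 5 ≤ Fintype.card F) (hodd : Fintype.card F % 2 = 1)
    (h : Fintype.card F = 9 ∨ (Fintype.card F).Prime) :
    ∃ (t : F) (r : ℕ), Odd r ∧ t ≠ 2 ∧ t ≠ -2 ∧ compMat t ^ r = 1 := by
  obtain ⟨p, hc⟩ := CharP.exists F
  obtain ⟨f, hp, hf⟩ := FiniteField.card F p
  have h2 : (2 : F) ≠ 0 := by
    intro e
    have : p ∣ 2 := (CharP.cast_eq_zero_iff F p 2).1 (by exact_mod_cast e)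
    rw [(Nat.prime_dvd_prime_iff_eq hp Nat.prime_two).1 this] at hf
    rw [hf] at hodd
    have := dvd_pow_self 2 f.ne_zero
    omega
  by_cases h3 : (3 : F) = 0
  · have hp3 : p = 3 := by
      have : p ∣ 3 := (CharP.cast_eq_zero_iff F p 3).1 (by exact_mod_cast h3)
      exact (Nat.prime_dvd_prime_iff_eq hp Nat.prime_three).1 this
    subst hp3
    have h9 : Fintype.card F = 9 := by
      rcases h with h | h
      · exact h
      · exfalso
        rcases Nat.lt_or_ge (f : ℕ) 2 with hlt | hge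
        · have : (f : ℕ) = 1 := by have := f.pos; omega
          rw [hf, this] at h5; norm_num at h5
        · exact (Nat.Prime.not_prime_pow hge) (hf ▸ h)
    obtain ⟨i, hi⟩ : IsSquare (-1 : F) := FiniteField.isSquare_neg_one_iff.2 (by rw [h9]; decide)
    have ht : (1 + i) * (1 + i) + (1 + i) - 1 = 0 := by linear_combination -hi + i * h3
    refine ⟨1 + i, 5, by decide, fun e => h2 ?_, fun e => h2 ?_, ?_⟩
    · have hi1 : i = 1 := by linear_combination e
      rw [hi1] at hi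
      linear_combination -hi
    · have hi1 : i = -3 := by linear_combination e
      rw [hi1] at hi
      exact absurd (show (1 : F) = 0 by linear_combination -hi - 3 * h3) one_ne_zero
    · exact compMat_pow_five ht
  · refine ⟨-1, 3, by decide, fun e => h3 (by linear_combination -e), fun e => one_ne_zero (α := F) (by linear_combination e), ?_⟩
    rw [show (3 : ℕ) = 2 + 1 by rfl, pow_succ, pow_two]
    ext a b
    fin_cases a <;> fin_cases b <;> simp [compMat, Matrix.mul_apply, Fin.sum_univ_two]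

theorem not_isCN_aut_psl_two (hna : ¬ IsMulCommutative P2) [IsSimpleGroup P2]
    (h5 : 5 ≤ Fintype.card F) (hodd : Fintype.card F % 2 = 1)
    (h : Fintype.card F = 9 ∨ (Fintype.card F).Prime) : ¬ IsCN (⊤ : Subgroup (MulAut P2)) := by
  classical
  intro hCN
  obtain ⟨t, r, hr, ht1, ht2, hpow⟩ := exists_good_trace h5 hodd h
  have h2 : (2 : F) ≠ 0 := fun e => by
    obtain ⟨p, hc⟩ := CharP.exists F
    obtain ⟨f, hp, hf⟩ := FiniteField.card F p
    have : p ∣ 2 := (CharP.cast_eq_zero_iff F p 2).1 (by exact_mod_cast e)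
    rw [(Nat.prime_dvd_prime_iff_eq hp Nat.prime_two).1 this] at hf
    rw [hf] at hodd
    have := dvd_pow_self 2 f.ne_zero
    omega
  let A : Matrix.SpecialLinearGroup (Fin 2) F := ⟨compMat t, by simp [compMat, Matrix.det_fin_two]⟩
  let M : GL (Fin 2) F := Matrix.GeneralLinearGroup.mkOfDetNeZero !![-t, -2; 2, t] (by
    rw [Matrix.det_fin_two]
    simp only [Matrix.cons_val_zero, Matrix.cons_val_one, Matrix.of_apply, Matrix.cons_val']
    intro e
    have : (t - 2) * (t + 2) = 0 := by linear_combination -e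
    rcases mul_eq_zero.1 this with h' | h'
    · exact ht1 (sub_eq_zero.1 h')
    · exact ht2 (eq_neg_of_add_eq_zero_left h'))
  let J : GL (Fin 2) F := Matrix.GeneralLinearGroup.mkOfDetNeZero !![0, 1; 1, 0] (by simp [Matrix.det_fin_two])
  let N : GL (Fin 2) F := Matrix.GeneralLinearGroup.mkOfDetNeZero ((-1 : F) • (1 : Matrix (Fin 2) (Fin 2) F))
    (by simp [Matrix.det_fin_two])
  set a := Matrix.SpecialLinearGroup.toGL A with ha
  have haval : a.1 = compMat t := rfl
  have hscal : indHom (n := 2) (F := F) N = 1 := indHom_scalar le_rfl (c := (-1 : F)) rfl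
  have hMA : M * a = a * M := Units.ext (by
    rw [Units.val_mul, Units.val_mul, haval]
    show !![-t, -2; 2, t] * compMat t = compMat t * !![-t, -2; 2, t]
    ext i j; fin_cases i <;> fin_cases j <;> simp [compMat, Matrix.mul_apply, Fin.sum_univ_two] <;> ring)
  have hMJ : J * M = N * (M * J) := Units.ext (by
    show !![0, 1; 1, 0] * !![-t, -2; 2, t] = ((-1 : F) • (1 : Matrix (Fin 2) (Fin 2) F)) * (!![-t, -2; 2, t] * !![0, 1; 1, 0])
    rw [Matrix.smul_mul, one_mul]
    ext i j; fin_cases i <;> fin_cases j <;> simp [Matrix.mul_apply, Fin.sum_univ_two])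
  have hM1 : indHom M ≠ (1 : MulAut P2) := fun e => by
    obtain ⟨c, hc⟩ := scalar_of_indHom le_rfl e
    have h' := congrFun (congrFun hc 0) 1
    simp [M, Matrix.GeneralLinearGroup.mkOfDetNeZero] at h'
    exact h2 h'
  have hJJ : J * J = 1 := Units.ext (by
    show !![(0 : F), 1; 1, 0] * !![0, 1; 1, 0] = 1
    ext i j; fin_cases i <;> fin_cases j <;> simp [Matrix.mul_apply, Fin.sum_univ_two])
  have hJ1 : indHom J ≠ (1 : MulAut P2) := fun e => by
    obtain ⟨c, hc⟩ := scalar_of_indHom le_rfl e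
    have h' := congrFun (congrFun hc 0) 1
    simp [J, Matrix.GeneralLinearGroup.mkOfDetNeZero] at h'
  have hJo : orderOf (indHom J : MulAut P2) = 2 :=
    orderOf_eq_prime (by rw [pow_two, ← map_mul, hJJ, map_one]) hJ1
  have hao : Odd (orderOf (indHom a : MulAut P2)) := by
    refine hr.of_dvd_nat (orderOf_dvd_of_pow_eq_one ?_)
    rw [← map_pow, show a ^ r = 1 from Units.ext (by rw [Units.val_pow_eq_pow_val, haval, hpow, Units.val_one]),
      map_one]
  have hc := cn_comm (G := (⊤ : Subgroup (MulAut P2))) hCN (x := ⟨indHom M, Subgroup.mem_top _⟩)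
    (a := ⟨indHom a, Subgroup.mem_top _⟩) (b := ⟨indHom J, Subgroup.mem_top _⟩)
    (fun e => hM1 (congrArg Subtype.val e))
    (Subtype.ext (show indHom a * indHom M = indHom M * indHom a by rw [← map_mul, ← map_mul, hMA]))
    (Subtype.ext (show indHom J * indHom M = indHom M * indHom J by
      rw [← map_mul, hMJ, map_mul, hscal, one_mul, map_mul]))
    (by rw [Subgroup.orderOf_mk, Subgroup.orderOf_mk, hJo]; exact (Nat.coprime_two_left.2 hao).symm)
  have hc' : indHom a * indHom J = (indHom J * indHom a : MulAut P2) := congrArg Subtype.val hc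
  have h1 : indHom ((J * a)⁻¹ * (a * J)) = (1 : MulAut P2) := by
    rw [map_mul, map_inv, map_mul, map_mul, hc', inv_mul_cancel]
  obtain ⟨c, hc1⟩ := scalar_of_indHom le_rfl h1
  have h2' : (a * J).1 = c • (J * a).1 := by
    have e : a * J = (J * a) * ((J * a)⁻¹ * (a * J)) := (mul_inv_cancel_left _ _).symm
    conv_lhs => rw [e]
    rw [Units.val_mul, hc1, Matrix.mul_smul, mul_one]
  rw [Units.val_mul, Units.val_mul, haval] at h2'
  change compMat t * !![0, 1; 1, 0] = c • (!![0, 1; 1, 0] * compMat t) at h2'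
  have e10 := congrFun (congrFun h2' 1) 0
  have ht0 : t = 0 := by
    simpa [compMat, Matrix.mul_apply, Fin.sum_univ_two] using e10
  -- `t = 0` would make `A` of order four
  subst ht0
  have hsq : compMat (0 : F) * compMat 0 = (-1 : F) • 1 := by
    ext i j; fin_cases i <;> fin_cases j <;> simp [compMat, Matrix.mul_apply, Fin.sum_univ_two]
  obtain ⟨k, rfl⟩ := hr
  rw [pow_succ, pow_mul, pow_two, hsq, smul_pow, one_pow, Matrix.smul_mul, one_mul] at hpow
  have h' := congrFun (congrFun hpow 0) 0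
  simp [compMat] at h'

theorem card_mulAut_psl_two (h5 : 5 ≤ Fintype.card F) (hodd : Fintype.card F % 2 = 1) {p f : ℕ}
    [Fact p.Prime] (hf : 1 ≤ f) (hF : Fintype.card F = p ^ f) :
    Nat.card (MulAut P2) = 2 * f * Nat.card P2 := by
  classical
  rw [Cfsg.Agent.S0813.result p f hf hF 2 le_rfl (fun _ => by omega), if_pos rfl, one_mul,
    CfsgLib.Classical.card_pgl_eq]
  have h1 := CfsgLib.Char.TwoChars.card_sl_two (F := F)
  have h2 := CfsgLib.Classical.card_psl2 (F := F)
  have hg : Nat.gcd 2 (Fintype.card F - 1) = 2 := by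
    obtain ⟨k, hk⟩ : 2 ∣ Fintype.card F - 1 := by omega
    rw [hk]; exact Nat.gcd_eq_left (dvd_mul_right 2 k)
  rw [hg] at h2
  rw [show Nat.card (Matrix.SpecialLinearGroup (Fin 2) F) = 2 * Nat.card P2 by rw [h1, h2]; ring]
  ring

/-- CN groups of automorphisms of `PSL₂(p)` and `PSL₂(9)`. -/
theorem psl_two_odd_index (hna : ¬ IsMulCommutative P2) [IsSimpleGroup P2]
    (h5 : 5 ≤ Fintype.card F) (hodd : Fintype.card F % 2 = 1)
    (h : Fintype.card F = 9 ∨ (Fintype.card F).Prime)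
    {𝒢 : Subgroup (MulAut P2)} (hin : (MulAut.conj : P2 →* MulAut P2).range ≤ 𝒢) (hCN : IsCN 𝒢) :
    𝒢 = (MulAut.conj : P2 →* MulAut P2).range ∨
      (Fintype.card F = 9 ∧ (MulAut.conj : P2 →* MulAut P2).range.relIndex 𝒢 = 2) := by
  classical
  have hnot : 𝒢 ≠ ⊤ := fun e => not_isCN_aut_psl_two hna h5 hodd h (e ▸ hCN)
  set I := (MulAut.conj : P2 →* MulAut P2).range
  have hI : Nat.card I = Nat.card P2 :=
    (Nat.card_congr (MonoidHom.ofInjective (conj_injective_of_simple hna)).toEquiv).symm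
  haveI : Finite (MulAut P2) := Finite.of_injective _ DFunLike.coe_injective
  have hlt : Nat.card 𝒢 < Nat.card (MulAut P2) :=
    lt_of_le_of_ne (Nat.card_le_card_of_injective _ Subtype.val_injective) fun e => hnot (Subgroup.eq_top_of_card_eq _ e)
  have hdvd : Nat.card 𝒢 ∣ Nat.card (MulAut P2) := Subgroup.card_subgroup_dvd_card _
  have hrel : I.relIndex 𝒢 * Nat.card P2 = Nat.card 𝒢 := by
    rw [← hI, ← Nat.card_congr (Subgroup.subgroupOfEquivOfLe hin).toEquiv, mul_comm]
    exact Subgroup.card_mul_index (I.subgroupOf 𝒢)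
  have hpos : 0 < Nat.card P2 := Nat.card_pos
  rcases h with h9 | hp
  · haveI : Fact (Nat.Prime 3) := ⟨Nat.prime_three⟩
    rw [card_mulAut_psl_two h5 hodd (p := 3) (f := 2) (by norm_num) (by rw [h9]; norm_num), ← hrel] at hlt hdvd
    have hd4 : I.relIndex 𝒢 ∣ 2 * 2 := Nat.dvd_of_mul_dvd_mul_right hpos hdvd
    have hlt4 : I.relIndex 𝒢 < 2 * 2 := Nat.lt_of_mul_lt_mul_right hlt
    have hr : I.relIndex 𝒢 = 1 ∨ I.relIndex 𝒢 = 2 := by
      have h0 : I.relIndex 𝒢 ≠ 0 := fun e => by rw [e, zero_mul] at hrel; exact Nat.card_pos.ne hrel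
      have h3 : I.relIndex 𝒢 ≠ 3 := fun e => by rw [e] at hd4; norm_num at hd4
      omega
    rcases hr with hr | hr
    · exact Or.inl (le_antisymm (Subgroup.relIndex_eq_one.1 hr) hin)
    · exact Or.inr ⟨h9, hr⟩
  · haveI : Fact (Fintype.card F).Prime := ⟨hp⟩
    rw [card_mulAut_psl_two h5 hodd (p := Fintype.card F) (f := 1) le_rfl (pow_one _).symm, ← hrel] at hlt hdvd
    have hlt2 : I.relIndex 𝒢 < 2 * 1 := Nat.lt_of_mul_lt_mul_right hlt
    have h0 : I.relIndex 𝒢 ≠ 0 := fun e => by rw [e, zero_mul] at hrel; exact Nat.card_pos.ne hrel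
    exact Or.inl (le_antisymm (Subgroup.relIndex_eq_one.1 (by omega)) hin)

end SLTwo

section PSLThree

variable {F : Type} [Field F] [Fintype F] [CharP F 2]

local notation "P3" => Matrix.ProjectiveSpecialLinearGroup (Fin 3) F

theorem inner_psl_three_of_fix (hna : ¬ IsMulCommutative P3) [IsSimpleGroup P3]
    {𝒢 : Subgroup (MulAut P3)} (hin : (MulAut.conj : P3 →* MulAut P3).range ≤ 𝒢) (hfix : FixTrivial 𝒢) :
    𝒢 = (MulAut.conj : P3 →* MulAut P3).range := by
  classical
  have h2 : (2 : F) = 0 := CfsgLib.SLTwoFpf.two_K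
  have hneg : ∀ a : F, -a = a := CfsgLib.SLTwoFpf.neg_K
  let Z : Matrix.SpecialLinearGroup (Fin 3) F := ⟨!![1, 0, 0; 0, 1, 1; 0, 0, 1], by simp [Matrix.det_fin_three]⟩
  let Z' : Matrix.SpecialLinearGroup (Fin 3) F := ⟨!![1, 0, 0; 0, 1, 0; 0, 1, 1], by simp [Matrix.det_fin_three]⟩
  let Y : Matrix.SpecialLinearGroup (Fin 3) F := ⟨!![1, 0, 0; 0, 0, 1; 0, 1, 1], by simp [Matrix.det_fin_three, hneg]⟩
  let Y' : Matrix.SpecialLinearGroup (Fin 3) F := ⟨!![1, 0, 0; 0, 1, 1; 0, 1, 0], by simp [Matrix.det_fin_three, hneg]⟩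
  let J : Matrix (Fin 3) (Fin 3) F := !![1, 0, 0; 0, 0, 1; 0, 1, 0]
  have h11 : (1 : F) + 1 = 0 := by linear_combination h2
  have hZZ : Z * Z = 1 := Subtype.ext (by
    show !![(1 : F), 0, 0; 0, 1, 1; 0, 0, 1] * !![(1 : F), 0, 0; 0, 1, 1; 0, 0, 1] = 1
    ext i j; fin_cases i <;> fin_cases j <;> simp [Matrix.mul_apply, Fin.sum_univ_three, h11])
  have hYY : Y * Y = Y' := Subtype.ext (by
    show !![(1 : F), 0, 0; 0, 0, 1; 0, 1, 1] * !![(1 : F), 0, 0; 0, 0, 1; 0, 1, 1] = !![(1 : F), 0, 0; 0, 1, 1; 0, 1, 0]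
    ext i j; fin_cases i <;> fin_cases j <;> simp [Matrix.mul_apply, Fin.sum_univ_three, h11])
  have hYY' : Y * Y' = 1 := Subtype.ext (by
    show !![(1 : F), 0, 0; 0, 0, 1; 0, 1, 1] * !![(1 : F), 0, 0; 0, 1, 1; 0, 1, 0] = 1
    ext i j; fin_cases i <;> fin_cases j <;> simp [Matrix.mul_apply, Fin.sum_univ_three, h11])
  have hY3 : Y ^ 3 = 1 := by rw [pow_succ', pow_two, hYY, hYY']
  have hnscal : ∀ {M : Matrix.SpecialLinearGroup (Fin 3) F}, M.1 0 0 = 1 → proj M = (1 : P3) → M = 1 := by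
    intro M hM e
    obtain ⟨c, hc⟩ := proj_eq_imp (e.trans (map_one proj).symm)
    have h0 := congrFun (congrFun hc 0) 0
    rw [hM] at h0
    simp at h0
    exact Subtype.ext (by rw [hc, ← h0, one_smul])
  have hzo : orderOf (proj Z : P3) = 2 := orderOf_eq_prime (by rw [pow_two, ← map_mul, hZZ, map_one]) fun e => by
    have h := congrArg (fun M : Matrix.SpecialLinearGroup (Fin 3) F => M.1 1 2) (hnscal (by simp [Z]) e)
    simp [Z] at h
  haveI : Fact (Nat.Prime 3) := ⟨Nat.prime_three⟩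
  have hyo : orderOf (proj Y : P3) = 3 := orderOf_eq_prime (by rw [← map_pow, hY3, map_one]) fun e => by
    have h := congrArg (fun M : Matrix.SpecialLinearGroup (Fin 3) F => M.1 1 2) (hnscal (by simp [Y]) e)
    simp [Y] at h
  have hnc : (proj Z : P3) * proj Y ≠ proj Y * proj Z := fun e => by
    rw [← map_mul, ← map_mul] at e
    obtain ⟨c, hc⟩ := proj_eq_imp e
    have hc' : Z.1 * Y.1 = c • (Y.1 * Z.1) := hc
    have h0 := congrFun (congrFun hc' 0) 0
    have h12 := congrFun (congrFun hc' 1) 1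
    simp [Z, Y, Matrix.mul_apply, Fin.sum_univ_three] at h0 h12
  have hfixσ : ∀ σ : RingAut F, slField σ Z = Z ∧ slField σ Y = Y := fun σ => by
    constructor <;> refine Subtype.ext ?_ <;> rw [slField_val] <;> ext i j <;>
      fin_cases i <;> fin_cases j <;> simp [Z, Y]
  have hJ : J.det = 1 := by simp [J, Matrix.det_fin_three, hneg]
  have hit : ∀ (M M' : Matrix.SpecialLinearGroup (Fin 3) F), M * M' = 1 → (M'.1)ᵀ = J * M.1 * J →
      slIT M = ⟨J * M.1 * J, by rw [Matrix.det_mul, Matrix.det_mul, hJ, M.2, one_mul, one_mul]⟩ := fun M M' hM hT =>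
    Subtype.ext (by rw [slIT_val, inv_eq_of_mul_eq_one_right hM]; exact hT)
  refine le_antisymm (fun β hβ => ?_) hin
  have hstep : ∀ (g H : GL (Fin 3) F) (σ : RingAut F) (e : MulAut P3), β = ind g σ * e → g.1.det = H.1.det →
      (ind H σ * e) (proj Z) = proj Z → (ind H σ * e) (proj Y) = proj Y →
      β ∈ (MulAut.conj : P3 →* MulAut P3).range := by
    intro g H σ e hβe hdet hz hy
    let s : Matrix.SpecialLinearGroup (Fin 3) F := ⟨(g * H⁻¹).1, by
      have hH : H.1.det ≠ 0 := (Matrix.GeneralLinearGroup.det H).ne_zero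
      have h' : (g * H⁻¹).1.det * H.1.det = g.1.det := by
        rw [← Matrix.det_mul, ← Units.val_mul, inv_mul_cancel_right]
      rw [hdet] at h'
      exact (mul_eq_right₀ hH).1 h'⟩
    have hs : g = Matrix.SpecialLinearGroup.toGL s * H := by
      rw [show Matrix.SpecialLinearGroup.toGL s = g * H⁻¹ from Units.ext rfl, inv_mul_cancel_right]
    have hβ' : β = MulAut.conj (proj s) * (ind H σ * e) := by
      rw [hβe, hs, conj_proj, indHom_apply, ← mul_assoc, ind_mul, one_mul]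
      rfl
    have hin' : MulAut.conj (proj s) ∈ (MulAut.conj : P3 →* MulAut P3).range := ⟨_, rfl⟩
    have hfG : ind H σ * e ∈ 𝒢 := by
      have := Subgroup.mul_mem _ (Subgroup.inv_mem _ (hin hin')) hβ
      rwa [hβ', inv_mul_cancel_left] at this
    rw [hβ', hfix _ hfG _ _ hzo (by rw [hyo]; decide) hnc hz hy, mul_one]
    exact hin'
  obtain ⟨g, σ, h | ⟨-, h⟩⟩ := aut_classify (by norm_num) β
  all_goals obtain ⟨d, hd0, hd⟩ : ∃ d : F, d ≠ 0 ∧ g.1.det = d :=
    ⟨_, (Matrix.GeneralLinearGroup.det g).ne_zero, rfl⟩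
  · let H : GL (Fin 3) F := Matrix.GeneralLinearGroup.mkOfDetNeZero !![d, 0, 0; 0, 1, 0; 0, 0, 1] (by
      simp [Matrix.det_fin_three, hd0])
    have hfix : ∀ M : Matrix.SpecialLinearGroup (Fin 3) F, slField σ M = M → H.1 * M.1 = M.1 * H.1 →
        (ind H σ * 1) (proj M) = proj M := fun M hM hc => by
      rw [mul_one, ind_proj, hM]
      refine congrArg proj (Subtype.ext ?_)
      rw [slConj_val, hc, mul_assoc, ← Units.val_mul, mul_inv_cancel, Units.val_one, mul_one]
    refine hstep g H σ 1 (by rw [h, mul_one]) ?_ (hfix Z (hfixσ σ).1 ?_) (hfix Y (hfixσ σ).2 ?_)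
    · rw [hd]; simp [H, Matrix.GeneralLinearGroup.mkOfDetNeZero, Matrix.det_fin_three]
    · show !![d, 0, 0; 0, 1, 0; 0, 0, 1] * !![(1 : F), 0, 0; 0, 1, 1; 0, 0, 1] = _
      ext i j; fin_cases i <;> fin_cases j <;> simp [Z, H, Matrix.GeneralLinearGroup.mkOfDetNeZero, Matrix.mul_apply, Fin.sum_univ_three]
    · show !![d, 0, 0; 0, 1, 0; 0, 0, 1] * !![(1 : F), 0, 0; 0, 0, 1; 0, 1, 1] = _
      ext i j; fin_cases i <;> fin_cases j <;> simp [Y, H, Matrix.GeneralLinearGroup.mkOfDetNeZero, Matrix.mul_apply, Fin.sum_univ_three]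
  · let H : GL (Fin 3) F := Matrix.GeneralLinearGroup.mkOfDetNeZero !![d, 0, 0; 0, 0, 1; 0, 1, 0] (by
      simp [Matrix.det_fin_three, hd0])
    have hfix : ∀ M M' : Matrix.SpecialLinearGroup (Fin 3) F, slField σ M = M → M * M' = 1 →
        (M'.1)ᵀ = J * M.1 * J → (J * M.1 * J).map σ = J * M.1 * J → H.1 * (J * M.1 * J) = M.1 * H.1 →
        (ind H σ * itAut : MulAut P3) (proj M) = proj M := fun M M' _ hMM hT hσ hc => by
      show ind H σ (proj (slIT M)) = proj M
      rw [hit M M' hMM hT]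
      refine (ind_proj H σ _).trans (congrArg proj (Subtype.ext ?_))
      rw [slConj_val]
      show H.1 * (J * M.1 * J).map σ * (H⁻¹).1 = M.1
      rw [hσ, hc, mul_assoc, ← Units.val_mul, mul_inv_cancel, Units.val_one, mul_one]
    have eZ : J * Z.1 * J = !![(1 : F), 0, 0; 0, 1, 0; 0, 1, 1] := by
      ext i j; fin_cases i <;> fin_cases j <;> simp [J, Z, Matrix.mul_apply, Fin.sum_univ_three]
    have eY : J * Y.1 * J = !![(1 : F), 0, 0; 0, 1, 1; 0, 1, 0] := by
      ext i j; fin_cases i <;> fin_cases j <;> simp [J, Y, Matrix.mul_apply, Fin.sum_univ_three]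
    refine hstep g H σ itAut h ?_ (hfix Z Z (hfixσ σ).1 hZZ ?_ ?_ ?_) (hfix Y Y' (hfixσ σ).2 hYY' ?_ ?_ ?_)
    · rw [hd]; simp [H, Matrix.GeneralLinearGroup.mkOfDetNeZero, Matrix.det_fin_three, hneg]
    · rw [eZ]; ext i j; fin_cases i <;> fin_cases j <;> simp [Z]
    · rw [eZ]; ext i j; fin_cases i <;> fin_cases j <;> simp
    · rw [eZ]; show !![d, 0, 0; 0, 0, 1; 0, 1, 0] * _ = Z.1 * !![d, 0, 0; 0, 0, 1; 0, 1, 0]
      ext i j; fin_cases i <;> fin_cases j <;> simp [Z, Matrix.mul_apply, Fin.sum_univ_three]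
    · rw [eY]; ext i j; fin_cases i <;> fin_cases j <;> simp [Y']
    · rw [eY]; ext i j; fin_cases i <;> fin_cases j <;> simp
    · rw [eY]; show !![d, 0, 0; 0, 0, 1; 0, 1, 0] * _ = Y.1 * !![d, 0, 0; 0, 0, 1; 0, 1, 0]
      ext i j; fin_cases i <;> fin_cases j <;> simp [Y, Matrix.mul_apply, Fin.sum_univ_three]

theorem inner_psl_three (hna : ¬ IsMulCommutative P3) [IsSimpleGroup P3]
    {𝒢 : Subgroup (MulAut P3)} (hin : (MulAut.conj : P3 →* MulAut P3).range ≤ 𝒢) (hCN : IsCN 𝒢) :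
    𝒢 = (MulAut.conj : P3 →* MulAut P3).range :=
  inner_psl_three_of_fix hna hin (fixTrivial_of_isCN (conj_injective_of_simple hna) hin hCN)

end PSLThree

section Suzuki

open CfsgLib.Lie.Suz

variable {F : Type} [Field F] [Fintype F] {m : ℕ}

theorem inner_suz_of_fix (hm : 1 ≤ m) (hF : Fintype.card F = 2 ^ (2 * m + 1)) {𝒢 : Subgroup (MulAut (Cfsg.Sz F m))}
    (hin : (MulAut.conj : Cfsg.Sz F m →* MulAut (Cfsg.Sz F m)).range ≤ 𝒢) (hfix : FixTrivial 𝒢) :
    𝒢 = (MulAut.conj : Cfsg.Sz F m →* MulAut (Cfsg.Sz F m)).range := by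
  classical
  have hS := isSuzField hF
  haveI : CharP F 2 := CfsgLib.Classical.PSL2Spectrum.char_two_of_dvd (hF ▸ dvd_pow_self 2 (by omega))
  let φ : ZMod 2 →+* F := ZMod.castHom dvd_rfl F
  let T0 : Matrix (Fin 4) (Fin 4) (ZMod 2) := !![1, 0, 1, 1; 0, 1, 0, 1; 0, 0, 1, 0; 0, 0, 0, 1]
  let W0 : Matrix (Fin 4) (Fin 4) (ZMod 2) := !![0, 0, 0, 1; 0, 0, 1, 0; 0, 1, 0, 0; 1, 0, 0, 0]
  have hφ : Function.Injective φ := φ.injective
  have hth : th m (1 : F) = 1 := one_pow _
  have hth0 : th m (0 : F) = 0 := th_zero hS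
  set z : Cfsg.Sz F m := TS hF 0 1
  set y : Cfsg.Sz F m := WS hF * TS hF 0 1
  have hzM : ((z : Matrix.SpecialLinearGroup (Fin 4) F) : Matrix (Fin 4) (Fin 4) F) = φ.mapMatrix T0 := by
    show Tm m (0 : F) 1 = _
    ext i j; fin_cases i <;> fin_cases j <;> simp [Tm, fO, hth, hth0, T0, φ]
  have hyM : ((y : Matrix.SpecialLinearGroup (Fin 4) F) : Matrix (Fin 4) (Fin 4) F) = φ.mapMatrix (W0 * T0) := by
    rw [map_mul, ← hzM]
    show (Wm : Matrix (Fin 4) (Fin 4) F) * _ = _
    congr 1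
    ext i j; fin_cases i <;> fin_cases j <;> simp [Wm, W0, φ]
  have hval : Function.Injective fun w : Cfsg.Sz F m =>
      ((w : Matrix.SpecialLinearGroup (Fin 4) F) : Matrix (Fin 4) (Fin 4) F) :=
    fun a b e => Subtype.ext (Subtype.ext e)
  have hz2 : z * z = 1 := hval (by
    show ((z : Matrix.SpecialLinearGroup (Fin 4) F) : Matrix (Fin 4) (Fin 4) F) * (z : Matrix.SpecialLinearGroup (Fin 4) F) = 1
    rw [hzM, ← map_mul, show T0 * T0 = 1 by decide, map_one])
  have hzo : orderOf z = 2 := orderOf_eq_prime (by rw [pow_two, hz2]) fun e => by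
    have h : φ.mapMatrix T0 = φ.mapMatrix 1 := by rw [map_one, ← hzM, e]; rfl
    exact absurd (Matrix.map_injective hφ h) (by decide)
  have hy5 : y ^ 5 = 1 := hval (by
    show (((y ^ 5 : Cfsg.Sz F m) : Matrix.SpecialLinearGroup (Fin 4) F) : Matrix (Fin 4) (Fin 4) F) = 1
    rw [SubmonoidClass.coe_pow, Matrix.SpecialLinearGroup.coe_pow, hyM, ← map_pow,
      show (W0 * T0) ^ 5 = 1 by decide, map_one])
  have hnc : z * y ≠ y * z := fun e => by
    have h : φ.mapMatrix (T0 * (W0 * T0)) = φ.mapMatrix (W0 * T0 * T0) := by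
      rw [map_mul, map_mul (φ.mapMatrix) (W0 * T0), ← hzM, ← hyM]
      exact congrArg (fun w : Cfsg.Sz F m => ((w : Matrix.SpecialLinearGroup (Fin 4) F) : Matrix (Fin 4) (Fin 4) F)) e
    exact absurd (Matrix.map_injective hφ h) (by decide)
  refine le_antisymm (fun β hβ => ?_) hin
  obtain ⟨x, σ, rfl⟩ := aut_decomp hm hF β
  have hfG : sigAut hm hF σ ∈ 𝒢 := by
    have := Subgroup.mul_mem _ (Subgroup.inv_mem _ (hin ⟨x, rfl⟩)) hβ
    rwa [inv_mul_cancel_left] at this
  have hfz : sigAut hm hF σ z = z := by rw [sigAut_TS, map_zero, map_one]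
  have hfy : sigAut hm hF σ y = y := by
    rw [map_mul, hfz]
    refine congrArg (· * z) (Subtype.ext ?_)
    exact sigSL_W σ
  haveI : Fact (Nat.Prime 5) := ⟨Nat.prime_five⟩
  rw [hfix _ hfG _ _ hzo
    ((show Odd 5 by decide).of_dvd_nat (orderOf_dvd_of_pow_eq_one hy5)) hnc hfz hfy, mul_one]
  exact ⟨x, rfl⟩

theorem inner_suz (hm : 1 ≤ m) (hF : Fintype.card F = 2 ^ (2 * m + 1)) {𝒢 : Subgroup (MulAut (Cfsg.Sz F m))}
    (hin : (MulAut.conj : Cfsg.Sz F m →* MulAut (Cfsg.Sz F m)).range ≤ 𝒢) (hCN : IsCN 𝒢) :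
    𝒢 = (MulAut.conj : Cfsg.Sz F m →* MulAut (Cfsg.Sz F m)).range :=
  inner_suz_of_fix hm hF hin (fixTrivial_of_isCN (CfsgLib.Lie.Suz.conj_injective hm hF) hin hCN)

end Suzuki

end CfsgLib.CIT
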