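import Cfsg.Agent.Lib.CIT.OffAct
import Cfsg.Agent.Lib.Fusion.Tate

/-!
# Two offending radicals in one Sylow subgroup

In a CIT group without nontrivial normal 2-subgroup whose Sylow 2-subgroups are not TI, two offending
radicals share a Sylow subgroup of their normalizers; their parameter is 2 or 4, and for 4 this is a
Sylow subgroup of the group.
-/

set_option autoImplicit false
set_option linter.unusedSectionVars false
set_option linter.style.haveILetI false

open scoped commutatorElement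

namespace CfsgLib.CIT

open Subgroup
open scoped Pointwise

universe u

variable {G : Type u} [Group G] [Finite G]

local notation "N[" X "]" => normalizer ((X : Subgroup G) : Set G)

/-- Two offending radicals with a common Sylow subgroup. -/
structure Pair (E F U : Subgroup G) (q : ℕ) : Prop where
  offE : Off E q
  offF : Off F q
  ne : E ≠ F
  sylE : IsSyl (normalizer (E : Set G)) U
  sylF : IsSyl (normalizer (F : Set G)) U

theorem exists_pair (hc : IsCIT G) (hO : NoCore G) {T T' : Subgroup G} (hT : IsSyl ⊤ T) (hT' : IsSyl ⊤ T')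
    (h : T ⊓ T' ≠ ⊥) (hne : T ≠ T') : ∃ E F U q, Pair (G := G) E F U q := by
  by_contra hno
  refine hne (ti_of_unique hc (properTI hc) hO (fun E F U q q' hE hF hU hFU hUN => ?_) hT hT' h)
  by_contra hEF
  apply hno
  have hFE : ¬ F ≤ E := fun hle => hEF (le_antisymm (fun e he => hF.sp.rad.centralizer_le hc
    (mem_centralizer_iff.2 fun f hf => hE.sp.comm f (hle hf) e he)) hle)
  obtain ⟨f, hf, hfE⟩ := SetLike.not_le_iff_exists.1 hFE
  have hint : Nat.card (F ⊓ E : Subgroup G) ≤ q := by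
    rw [← (hE.syl U hU).2.1, ← (hE.syl U hU).2.2 f (hFU hf) hfE]
    exact card_le_of_le fun x hx => mem_fixOne.2 ⟨hx.2, hF.sp.comm f hf x hx.1⟩
  have h1 : Nat.card F * Nat.card E ≤ q * q * q * q :=
    (CfsgLib.Fusion.card_mul_le_sup_inf F E).trans (Nat.mul_le_mul
      ((card_le_of_le (sup_le hFU (hE.sp.le_syl hU))).trans_eq (hE.syl U hU).1) hint)
  rw [hF.card, hE.card] at h1
  have hq0 : 0 < q := lt_of_lt_of_le two_pos hE.two_le
  have hqq : q' ≤ q := Nat.mul_self_le_mul_self_iff.1 (Nat.le_of_mul_le_mul_right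
    (show q' * q' * (q * q) ≤ q * q * (q * q) from h1.trans (le_of_eq (by ring))) (Nat.mul_pos hq0 hq0))
  obtain ⟨W, hW, hUW⟩ := exists_syl hU.2.1 hUN
  have h2 := card_le_of_le hUW
  rw [(hE.syl U hU).1, (hF.syl W hW).1] at h2
  have hq : q = q' := le_antisymm (by
    by_contra hlt
    push Not at hlt
    have : q' * q' * q' < q * q * q := Nat.mul_lt_mul_of_lt_of_lt (Nat.mul_lt_mul_of_lt_of_lt hlt hlt) hlt
    omega) hqq
  subst hq
  have hUW' : U = W := eq_of_le_of_card_ge hUW (by rw [(hE.syl U hU).1, (hF.syl W hW).1])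
  exact ⟨E, F, U, q, hE, hF, hEF, hU, hUW' ▸ hW⟩

namespace Pair

variable {E F U : Subgroup G} {q : ℕ} (p : Pair E F U q)
include p

theorem symm : Pair F E U q := ⟨p.offF, p.offE, p.ne.symm, p.sylF, p.sylE⟩

theorem cit : IsCIT G := p.offE.sp.cit

theorem leE : E ≤ U := p.offE.sp.le_syl p.sylE

theorem leF : F ≤ U := p.offF.sp.le_syl p.sylF

theorem not_le : ¬ F ≤ E := fun hle => p.ne (eq_of_le_of_card_ge hle
  (by rw [p.offE.card, p.offF.card])).symm

/-- The common line. -/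
theorem fix_eq : fixSub E U = E ⊓ F := by
  refine eq_of_le_of_card_ge (fun x hx => ⟨hx.1, p.offF.sp.rad.centralizer_le p.cit
    (mem_centralizer_iff.2 fun f hf => (mem_fixSub.1 hx).2 f (p.leF hf))⟩) ?_
  obtain ⟨f, hf, hfE⟩ := SetLike.not_le_iff_exists.1 p.not_le
  rw [← (p.offE.syl U p.sylE).2.2 f (p.leF hf) hfE]
  exact card_le_of_le fun x hx => mem_fixOne.2 ⟨hx.1, p.offF.sp.comm f hf x hx.2⟩

theorem card_inf : Nat.card (E ⊓ F : Subgroup G) = q := by
  rw [← p.fix_eq]; exact (p.offE.syl U p.sylE).2.1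

theorem sup_eq : E ⊔ F = U := by
  refine eq_of_le_of_card_ge (sup_le p.leE p.leF) ?_
  have h := CfsgLib.Fusion.card_mul_le_sup_inf E F
  rw [p.offE.card, p.offF.card, p.card_inf] at h
  rw [(p.offE.syl U p.sylE).1]
  exact Nat.le_of_mul_le_mul_right (le_of_eq_of_le (by ring) h) (lt_of_lt_of_le two_pos p.offE.two_le)

theorem exists_mul {x : G} (hx : x ∈ U) : ∃ e ∈ E, ∃ f ∈ F, e * f = x := by
  have h1 : x ∈ (E : Set G) * (F : Set G) := by
    rw [← Subgroup.coe_mul_of_left_le_normalizer_right E F (p.leE.trans p.sylF.1), p.sup_eq]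
    exact hx
  exact Set.mem_mul.1 h1

theorem comm_inf {x y : G} (hx : x ∈ E ⊓ F) (hy : y ∈ U) : y * x = x * y := by
  rw [← p.fix_eq] at hx
  exact (mem_fixSub.1 hx).2 y hy

/-- All involutions of `U` lie in `E` or in `F`. -/
theorem sq_one_mem {x : G} (hx : x ∈ U) (h2 : x * x = 1) : x ∈ E ∨ x ∈ F := by
  obtain ⟨e, he, f, hf, rfl⟩ := p.exists_mul hx
  by_cases hfE : f ∈ E
  · exact Or.inl (E.mul_mem he hfE)
  right
  refine F.mul_mem ?_ hf
  have hc : f * e = e * f := by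
    have h3 : e⁻¹ = e := inv_eq_of_mul_eq_one_right (p.offE.sp.sq e he)
    have h4 : f⁻¹ = f := inv_eq_of_mul_eq_one_right (p.offF.sp.sq f hf)
    calc f * e = f⁻¹ * e⁻¹ := by rw [h3, h4]
      _ = (e * f)⁻¹ := by group
      _ = e * f := inv_eq_of_mul_eq_one_right h2
  have h5 : e ∈ fixOne E f := mem_fixOne.2 ⟨he, hc⟩
  rw [(p.offE.syl U p.sylE).2.2 f (p.leF hf) hfE, p.fix_eq] at h5
  exact h5.2

/-- A conjugate of `E` inside `U` is `E` or `F`. -/
theorem cj_cases {g : G} (h : cj g E ≤ U) : cj g E = E ∨ cj g E = F := by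
  by_cases hle : cj g E ≤ E
  · exact Or.inl (eq_of_le_of_card_ge hle (card_cj g E).ge)
  refine Or.inr (eq_of_le_of_card_ge (fun x hx => ?_) (by rw [card_cj, p.offE.card, p.offF.card]))
  have hsq : ∀ y ∈ cj g E, y * y = 1 := fun y hy => by
    obtain ⟨e, he, rfl⟩ := hy
    rw [← map_mul, p.offE.sp.sq e he, map_one]
  obtain ⟨y, hy, hyE⟩ := SetLike.not_le_iff_exists.1 hle
  have hyF := (p.sq_one_mem (h hy) (hsq y hy)).resolve_left hyE
  rcases p.sq_one_mem (h hx) (hsq x hx) with hxE | hxF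
  · by_contra hxF
    rcases p.sq_one_mem (h ((cj g E).mul_mem hx hy)) (hsq _ ((cj g E).mul_mem hx hy)) with h3 | h3
    · exact hyE (by simpa using E.mul_mem (E.inv_mem hxE) h3)
    · exact hxF (by simpa using F.mul_mem h3 (F.inv_mem hyF))
  · exact hxF

theorem cj_cases_normalizer {g : G} (hg : g ∈ normalizer (U : Set G)) :
    (cj g E = E ∧ cj g F = F) ∨ (cj g E = F ∧ cj g F = E) := by
  have hle : ∀ X : Subgroup G, X ≤ U → cj g X ≤ U := fun X hX => by
    have h := cj_mono (g := g) hX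
    rwa [cj_eq_self_iff.2 hg] at h
  have hinj : cj g E ≠ cj g F := fun e => p.ne (by
    have h1 := congrArg (cj g⁻¹) e
    simpa [cj_mul, cj_one] using h1)
  rcases p.cj_cases (hle E p.leE) with hE | hE <;> rcases p.symm.cj_cases (hle F p.leF) with hF | hF
  · exact Or.inl ⟨hE, hF⟩
  · exact absurd (hE.trans hF.symm) hinj
  · exact absurd (hE.trans hF.symm) hinj
  · exact Or.inr ⟨hE, hF⟩

/-- An element normalizing `U` and `E` normalizes `F`. -/
theorem mem_normalizerF {g : G} (hg : g ∈ normalizer (U : Set G)) (hgE : g ∈ normalizer (E : Set G)) :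
    g ∈ normalizer (F : Set G) := by
  rcases p.cj_cases_normalizer hg with ⟨-, h⟩ | ⟨h, -⟩
  · exact cj_eq_self_iff.1 h
  · exact absurd ((cj_eq_self_iff.2 hgE).symm.trans h) p.ne

/-- The operators on the common line have order dividing three. -/
theorem pow_three_eq {h : G} (hh : h ∈ normalizer (E : Set G)) (hhU : cj h U = U) (hodd : Odd (orderOf h)) :
    h ^ 3 = 1 := by
  have hhF := p.mem_normalizerF (cj_eq_self_iff.1 hhU) hh
  obtain ⟨f, hf, hfE⟩ := SetLike.not_le_iff_exists.1 p.not_le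
  obtain ⟨e, he, heF⟩ := SetLike.not_le_iff_exists.1 p.symm.not_le
  set e' := h * e * h⁻¹
  have he' : e' ∈ E := normalizer_conj_mem hh he
  -- three instances
  have r1 := p.offE.comm_relation p.sylE hh hhU (a := f) (x := e') (p.leF hf) he'
  have r2 := p.offF.comm_relation p.sylF hhF hhU (a := e) (x := f) (p.leE he) hf
  set c := e * (f * e * f⁻¹) with hc
  have hcP : c ∈ fixSub E U := p.offE.diff_mem p.sylE (p.leF hf) hfE he
  have hflip : ∀ x y : G, x ∈ E → y ∈ F → x * (y * x * y⁻¹) = y * (x * y * x⁻¹) := by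
    intro x y hx hy
    have h3 : x⁻¹ = x := inv_eq_of_mul_eq_one_right (p.offE.sp.sq x hx)
    have h4 : y⁻¹ = y := inv_eq_of_mul_eq_one_right (p.offF.sp.sq y hy)
    have hmem : x * (y * x * y⁻¹) ∈ E :=
      E.mul_mem hx (normalizer_conj_mem (p.sylE.1 (p.leF hy)) hx)
    calc x * (y * x * y⁻¹) = (x * (y * x * y⁻¹))⁻¹ :=
          (inv_eq_of_mul_eq_one_right (p.offE.sp.sq _ hmem)).symm
      _ = y * x⁻¹ * y⁻¹ * x⁻¹ := by group
      _ = y * (x * y * x⁻¹) := by rw [h3, h4]; group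
  rw [← hflip e f he hf, ← hflip e' f he' hf] at r2
  -- r2 : [e', f] = h² [e, f] h⁻²
  have e1 : e' * ((h * f * h⁻¹) * e' * (h * f * h⁻¹)⁻¹) = h * c * h⁻¹ := by simp only [e', hc]; group
  rw [e1, r2, ← hc] at r1
  have hfix : h ^ 3 * c = c * h ^ 3 := by
    calc h ^ 3 * c = h⁻¹ * (h * h * (h * h * c * (h * h)⁻¹) * (h * h)⁻¹) * h * (h ^ 3) := by
          simp only [pow_three']; group
      _ = h⁻¹ * (h * c * h⁻¹) * h * h ^ 3 := by rw [← r1]
      _ = c * h ^ 3 := by group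
  have hc1 : c ≠ 1 := fun h0 => heF (by
    have h3 : e⁻¹ = e := inv_eq_of_mul_eq_one_right (p.offE.sp.sq e he)
    have h5 : e ∈ fixOne E f := mem_fixOne.2 ⟨he, by
      have h6 := eq_inv_of_mul_eq_one_right h0
      rw [h3] at h6
      exact mul_inv_eq_iff_eq_mul.1 h6⟩
    rw [(p.offE.syl U p.sylE).2.2 f (p.leF hf) hfE, p.fix_eq] at h5
    exact h5.2)
  exact p.cit.comm_two p.offE.sp.rad.two hcP.1 hc1 (hodd.of_dvd_nat (orderOf_pow_dvd 3)) hfix

theorem two_or_four : q = 2 ∨ q = 4 := by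
  classical
  haveI : Fact (Nat.Prime 2) := ⟨Nat.prime_two⟩
  obtain ⟨U', hU', hne⟩ := p.offE.sp.rad.two_syl U p.sylE
  set K := Off.stabPair (E := E) U U'
  have hK : Nat.card K = Nat.card E * (q - 1) := p.offE.card_stabPair p.sylE hU' hne
  obtain ⟨k, hk⟩ := (p.offE.sp.rad.two.to_le (inf_le_left : E ⊓ F ≤ E)).exists_card_eq
  rw [p.card_inf] at hk
  have hq2 := p.offE.two_le
  have hq1 : q - 1 ≠ 0 := by omega
  have hpr : ∀ r : ℕ, r.Prime → r ∣ q - 1 → r = 3 := by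
    intro r hr hdvd
    haveI := Fact.mk hr
    obtain ⟨⟨h, hh⟩, ho⟩ := exists_prime_orderOf_dvd_card' r (hK ▸ hdvd.mul_left _ : r ∣ Nat.card K)
    rw [Subgroup.orderOf_mk] at ho
    obtain ⟨h1, h2, -⟩ := Off.mem_stabPair.1 hh
    have hodd : Odd r := hr.odd_of_ne_two fun e => by
      subst e
      rcases Nat.eq_zero_or_pos k with h0 | h0
      · rw [h0, pow_zero] at hk; omega
      · have h3 : 2 ∣ q := hk ▸ dvd_pow_self 2 h0.ne'
        omega
    have h3 := p.pow_three_eq h1 h2 (ho ▸ hodd)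
    exact (Nat.prime_dvd_prime_iff_eq hr Nat.prime_three).1 (ho ▸ orderOf_dvd_of_pow_eq_one h3)
  obtain ⟨m, hm⟩ : ∃ m, q - 1 = 3 ^ m :=
    ⟨_, Nat.eq_prime_pow_of_unique_prime_dvd hq1 fun {r} hr hd => hpr r hr hd⟩
  have hk3 : k < 3 := by
    by_contra hk3
    push Not at hk3
    have h8 : (8 : ℕ) ∣ q := by rw [hk]; exact pow_dvd_pow 2 hk3
    have h9 : 3 ^ m % 8 = 1 ∨ 3 ^ m % 8 = 3 := by
      rcases Nat.even_or_odd' m with ⟨j, rfl | rfl⟩ <;>
        simp [pow_succ, pow_mul, Nat.mul_mod, Nat.pow_mod]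
    omega
  interval_cases k <;> omega

/-- For parameter four the common Sylow subgroup is a Sylow subgroup of the group. -/
theorem syl_top_of_four (hq : q = 4) (hni : ∀ M : Subgroup G, M.Normal → M.index ≠ 2) : IsSyl ⊤ U := by
  classical
  haveI : Fact (Nat.Prime 2) := ⟨Nat.prime_two⟩
  haveI : Fact (Nat.Prime 3) := ⟨Nat.prime_three⟩
  subst hq
  have hc := p.cit
  obtain ⟨T₀, hT₀, hUT₀⟩ := exists_syl_top p.sylE.2.1
  by_contra hnot
  have hUT' : U ≠ T₀ := fun e => hnot (e ▸ hT₀)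
  obtain ⟨g₀, hg₀, hg₀U, hg₀N⟩ := exists_normalizing_notMem hT₀.2.1 hUT₀ hUT'
  have hswap : ∀ g ∈ N[U], IsPGroup 2 (zpowers g) → g ∉ U → cj g E = F ∧ cj g F = E := by
    intro g hg h2 hgU
    rcases p.cj_cases_normalizer hg with ⟨h, -⟩ | h
    · exact absurd (p.offE.mem_of_fix p.sylE (cj_eq_self_iff.1 h) h2 (cj_eq_self_iff.2 hg)) hgU
    · exact h
  have hsq : ∀ g ∈ N[U], IsPGroup 2 (zpowers g) → g * g ∈ U := by
    intro g hg h2
    by_cases hgU : g ∈ U
    · exact U.mul_mem hgU hgU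
    obtain ⟨h1, h1'⟩ := hswap g hg h2 hgU
    exact p.offE.mem_of_fix p.sylE (cj_eq_self_iff.1 (by rw [← cj_mul, h1, h1']))
      (h2.to_le (zpowers_le.2 ((zpowers g).mul_mem (mem_zpowers g) (mem_zpowers g))))
      (cj_eq_self_iff.2 ((N[U]).mul_mem hg hg))
  have h2T : ∀ {T : Subgroup G}, IsPGroup 2 T → ∀ x ∈ T, IsPGroup 2 (zpowers x) :=
    fun hT x hx => hT.to_le (zpowers_le.2 hx)
  have hg₀2 := h2T hT₀.2.1 g₀ hg₀
  obtain ⟨hg₀E, hg₀F⟩ := hswap g₀ hg₀N hg₀2 hg₀U
  obtain ⟨U', hU', hne⟩ := p.offE.sp.rad.two_syl U p.sylE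
  have hK : Nat.card (Off.stabPair (E := E) U U') = 48 := by
    rw [p.offE.card_stabPair p.sylE hU' hne, p.offE.card]
  obtain ⟨⟨h, hhK⟩, hho⟩ := exists_prime_orderOf_dvd_card' (G := Off.stabPair (E := E) U U') 3 (by rw [hK]; norm_num)
  rw [Subgroup.orderOf_mk] at hho
  obtain ⟨hhE, hhU, -⟩ := Off.mem_stabPair.1 hhK
  have hhodd : Odd (orderOf h) := by rw [hho]; decide
  have hh1 : h ≠ 1 := fun e => by rw [e, orderOf_one] at hho; omega
  have hhN : h ∈ N[U] := cj_eq_self_iff.1 hhU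
  set M1 := N[E] ⊓ N[U] with hM1
  have hUM : U ≤ M1 := le_inf p.sylE.1 le_normalizer
  haveI hUn : (U.subgroupOf M1).Normal :=
    (normal_subgroupOf_iff_le_normalizer hUM).2 inf_le_right
  have hM1card : Nat.card M1 ≤ 192 := by
    have hne' : ∀ x : M1, cj (x : G) U' ≠ U := fun x e => hne (by
      have h1 := congrArg (cj (x : G)⁻¹) e
      rwa [cj_mul, inv_mul_cancel, cj_one, cj_eq_self_iff.2 ((N[U]).inv_mem x.2.2)] at h1)
    let f : M1 → {X : {W : Subgroup G // IsSyl N[E] W} // X.1 ≠ U} := fun x =>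
      ⟨⟨cj (x : G) U', p.offE.sp.move hU' x.2.1⟩, hne' x⟩
    have hker : ∀ x y : M1, f x = f y → (x : G)⁻¹ * y ∈ Off.stabPair (E := E) U U' := fun x y e => by
      have e' : cj (x : G) U' = cj (y : G) U' := congrArg (fun X => X.1.1) e
      refine Off.mem_stabPair.2 ⟨(N[E]).mul_mem ((N[E]).inv_mem x.2.1) y.2.1,
        cj_eq_self_iff.2 ((N[U]).mul_mem ((N[U]).inv_mem x.2.2) y.2.2), ?_⟩
      rw [← cj_mul, ← e', cj_mul, inv_mul_cancel, cj_one]
    refine (card_le_range_mul f hker).trans ?_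
    rw [hK]
    refine (Nat.mul_le_mul_right 48 (Nat.card_le_card_of_injective _ Subtype.val_injective)).trans ?_
    haveI := Fintype.ofFinite {W : Subgroup G // IsSyl N[E] W}
    rw [Nat.card_eq_fintype_card, Fintype.card_subtype_compl, ← Nat.card_eq_fintype_card, p.offE.card_syl,
      show Fintype.card {X : {W : Subgroup G // IsSyl N[E] W} // X.1 = U} = 1 from
        Fintype.card_eq_one_iff.2 ⟨⟨⟨U, p.sylE⟩, rfl⟩, fun X => Subtype.ext (Subtype.ext X.2)⟩]
  have hhnU : h ∉ U := fun hh => hh1 (eq_one_of_two_of_odd p.sylE.2.1 hh hhodd)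
  -- conjugation by `g₀` inverts `h` modulo `U`
  have hcos : ∀ x ∈ M1, x ∈ U ∨ x * h ∈ U ∨ x * h⁻¹ ∈ U := by
    intro x hx
    set π := QuotientGroup.mk' (U.subgroupOf M1)
    have hmem : ∀ y : M1, π y = 1 ↔ (y : G) ∈ U := fun y => by
      rw [QuotientGroup.mk'_apply, QuotientGroup.eq_one_iff, mem_subgroupOf]
    set hb : M1 := ⟨h, hhE, hhN⟩
    have hUc : Nat.card (U.subgroupOf M1) = 64 := by
      rw [Nat.card_congr (subgroupOfEquivOfLe hUM).toEquiv, (p.offE.syl U p.sylE).1]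
    have hc3 : Nat.card (M1 ⧸ U.subgroupOf M1) ≤ 3 := by
      have h1 := Subgroup.card_eq_card_quotient_mul_card_subgroup (U.subgroupOf M1)
      rw [hUc] at h1
      omega
    have ho : orderOf (π hb) = 3 := orderOf_eq_prime (by
      rw [← map_pow, hmem]
      show h ^ 3 ∈ U
      rw [← hho, pow_orderOf_eq_one]; exact U.one_mem) (fun e => hhnU ((hmem hb).1 e))
    have htop : zpowers (π hb) = ⊤ := eq_top_of_le_card _ (by rw [Nat.card_zpowers, ho]; exact hc3)
    obtain ⟨n, hn⟩ := mem_zpowers_iff.1 (htop.symm.le (mem_top (π ⟨x, hx⟩)))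
    rw [← zpow_mod_orderOf, ho] at hn
    have : n % 3 = 0 ∨ n % 3 = 1 ∨ n % 3 = 2 := by omega
    rcases this with h0 | h0 | h0
    · rw [show ((3 : ℕ) : ℤ) = 3 from rfl, h0, zpow_zero] at hn
      exact Or.inl ((hmem _).1 hn.symm)
    · rw [show ((3 : ℕ) : ℤ) = 3 from rfl, h0, zpow_one] at hn
      refine Or.inr (Or.inr ((hmem (⟨x, hx⟩ * hb⁻¹)).1 ?_))
      rw [map_mul, map_inv, ← hn, mul_inv_cancel]
    · rw [show ((3 : ℕ) : ℤ) = 3 from rfl, h0] at hn
      refine Or.inr (Or.inl ((hmem (⟨x, hx⟩ * hb)).1 ?_))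
      rw [map_mul, ← hn, show (2 : ℤ) = ((2 : ℕ) : ℤ) from rfl, zpow_natCast, ← pow_succ,
        show 2 + 1 = orderOf (π hb) by omega, pow_orderOf_eq_one]
  set X := N[U] with hX
  haveI : (U.subgroupOf X).Normal := (normal_subgroupOf_iff_le_normalizer le_normalizer).2 le_rfl
  have hXc := (hc.subgroup X).quotient (U.subgroupOf X) p.sylE.2.1.comap_subtype
  have hinv : g₀ * h * g₀⁻¹ * h ∈ U := by
    have hmemM : g₀ * h * g₀⁻¹ ∈ M1 := by
      refine ⟨cj_eq_self_iff.1 ?_, (N[U]).mul_mem ((N[U]).mul_mem hg₀N hhN) ((N[U]).inv_mem hg₀N)⟩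
      have hF : cj h F = F := cj_eq_self_iff.2 (p.mem_normalizerF hhN hhE)
      have hgi : cj g₀⁻¹ E = F := by
        conv_lhs => rw [← hg₀F]
        rw [cj_mul, inv_mul_cancel, cj_one]
      rw [← cj_mul, hgi, ← cj_mul, hF, hg₀F]
    rcases hcos _ hmemM with h3 | h3 | h3
    · exfalso
      have h4 : h ∈ cj g₀⁻¹ U := by
        rw [mem_cj]; simpa using h3
      rw [cj_eq_self_iff.2 ((N[U]).inv_mem hg₀N)] at h4
      exact hhnU h4
    · exact h3
    · exfalso
      set π := QuotientGroup.mk' (U.subgroupOf X)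
      have hmem : ∀ y : X, π y = 1 ↔ (y : G) ∈ U := fun y => by
        rw [QuotientGroup.mk'_apply, QuotientGroup.eq_one_iff, mem_subgroupOf]
      set gb : X := ⟨g₀, hg₀N⟩
      set hb : X := ⟨h, hhN⟩
      have hgo : orderOf (π gb) = 2 := orderOf_eq_prime
        (by rw [pow_two, ← map_mul, hmem]; exact hsq g₀ hg₀N hg₀2) (fun e => hg₀U ((hmem gb).1 e))
      refine hhnU ((hmem hb).1 (hXc _ _ hgo ?_ ?_))
      · exact hhodd.of_dvd_nat ((orderOf_map_dvd π hb).trans (by rw [← orderOf_coe hb]))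
      · have h5 : π (gb * hb * gb⁻¹ * hb⁻¹) = 1 := (hmem _).2 h3
        rw [map_mul, map_mul, map_mul, map_inv, map_inv, mul_inv_eq_one, mul_inv_eq_iff_eq_mul] at h5
        exact h5.symm
  -- an involution swapping the two radicals
  obtain ⟨sX, hs1, hs2, hs3⟩ := (hc.subgroup X).exists_lift_inverting (N := U.subgroupOf X)
    p.sylE.2.1.comap_subtype (t := ⟨g₀, hg₀N⟩) (x := ⟨h, hhN⟩) (by rw [Subgroup.orderOf_mk]; exact hhodd)
    (fun e => hh1 (congrArg Subtype.val e)) (fun hh => hg₀U hh) (hsq g₀ hg₀N hg₀2) hinv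
  obtain ⟨s, hsN⟩ := sX
  rw [Subgroup.orderOf_mk] at hs2
  have hs3' : s * h * s⁻¹ = h⁻¹ := congrArg Subtype.val hs3
  have hsU : s ∉ U := fun hs => hg₀U (by
    have h1 : s * g₀⁻¹ ∈ U := hs1
    simpa using U.inv_mem ((U.mul_mem (U.inv_mem hs) h1)))
  have hss : s * s = 1 := CfsgLib.Invol.invol_mul_self hs2
  have hsi : s⁻¹ = s := CfsgLib.Invol.invol_inv hs2
  have hs2g : IsPGroup 2 (zpowers s) := IsPGroup.of_card (n := 1) (by rw [Nat.card_zpowers, hs2, pow_one])
  obtain ⟨hsE, hsF⟩ := hswap s hsN hs2g hsU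
  set T2 := U ⊔ zpowers s with hT2
  have hT2p : IsPGroup 2 T2 := p.sylE.2.1.to_sup_of_normal_left' hs2g (zpowers_le.2 hsN)
  have hmemT2 : ∀ x ∈ T2, x ∈ U ∨ x * s ∈ U := by
    intro x hx
    have h1 : x ∈ (zpowers s : Set G) * (U : Set G) := by
      rw [← Subgroup.coe_mul_of_left_le_normalizer_right (zpowers s) U (zpowers_le.2 hsN), sup_comm]
      exact hx
    obtain ⟨a, ha, u, hu, rfl⟩ := Set.mem_mul.1 h1
    obtain ⟨n, rfl⟩ := mem_zpowers_iff.1 ha
    rcases Int.even_or_odd' n with ⟨m, rfl | rfl⟩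
    · left
      rw [zpow_mul, zpow_two, hss, one_zpow, one_mul]; exact hu
    · right
      rw [zpow_add, zpow_mul, zpow_two, hss, one_zpow, one_mul, zpow_one]
      have : s * u * s⁻¹ ∈ U := normalizer_conj_mem hsN hu
      rwa [hsi] at this
  obtain ⟨T, hT, hT2T⟩ := exists_syl_top hT2p
  have hUT2 : U ≤ T2 := le_sup_left
  have hsT2 : s ∈ T2 := le_sup_right (a := U) (mem_zpowers s)
  have hT2U : T ⊓ N[U] = T2 := by
    refine le_antisymm (fun x hx => ?_) (le_inf hT2T (sup_le le_normalizer (zpowers_le.2 hsN)))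
    by_cases hxU : x ∈ U
    · exact hUT2 hxU
    obtain ⟨hxE, hxF⟩ := hswap x hx.2 (h2T hT.2.1 x hx.1) hxU
    have h3 : x * s ∈ U := p.offE.mem_of_fix p.sylE (cj_eq_self_iff.1 (by rw [← cj_mul, hsE, hxF]))
      (h2T hT.2.1 _ (T.mul_mem hx.1 (hT2T hsT2))) (cj_eq_self_iff.2 ((N[U]).mul_mem hx.2 hsN))
    have h4 := T2.mul_mem (hUT2 h3) hsT2
    rwa [mul_assoc, hss, mul_one] at h4
  have hTT2 : T2 = T := by
    refine eq_of_inf_normalizer_le hT.2.1 hT2T fun x hx => ?_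
    have himg : ∀ Y : Subgroup G, (Y = E ∨ Y = F) → cj x Y ≤ U := by
      intro Y hY
      have hYU : Y ≤ U := by rcases hY with rfl | rfl; exacts [p.leE, p.leF]
      have hYc : Nat.card Y = 16 := by
        rcases hY with rfl | rfl
        exacts [p.offE.card, p.offF.card]
      have hYs : ∀ y ∈ cj x Y, y * y = 1 := by
        rintro _ ⟨y, hy, rfl⟩
        rw [← map_mul, show y * y = 1 by rcases hY with rfl | rfl; exacts [p.offE.sp.sq y hy, p.offF.sp.sq y hy],
          map_one]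
      have hle2 : cj x Y ≤ T2 := fun z hz => by
        have h5 := cj_mono (g := x) (hYU.trans hUT2) hz
        rwa [cj_eq_self_iff.2 hx.2] at h5
      intro y hy
      by_contra hyU
      have hy2 := h2T hT2p y (hle2 hy)
      have hyN : y ∈ N[U] := (sup_le le_normalizer (zpowers_le.2 hsN) : T2 ≤ N[U]) (hle2 hy)
      obtain ⟨hyE, hyF⟩ := hswap y hyN hy2 hyU
      have hsmall : cj x Y ⊓ U ≤ E ⊓ F := by
        intro z hz
        have hcomm : y * z = z * y := by
          have h6 := hYs _ ((cj x Y).mul_mem hy hz.1)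
          calc y * z = (y * z)⁻¹ := (inv_eq_of_mul_eq_one_right h6).symm
            _ = z⁻¹ * y⁻¹ := by group
            _ = z * y := by rw [inv_eq_of_mul_eq_one_right (hYs z hz.1), inv_eq_of_mul_eq_one_right (hYs y hy)]
        rcases p.sq_one_mem hz.2 (hYs z hz.1) with hzE | hzF
        · refine Subgroup.mem_inf.2 ⟨hzE, ?_⟩
          rw [← hyE, mem_cj, mul_assoc, ← hcomm, inv_mul_cancel_left]; exact hzE
        · refine Subgroup.mem_inf.2 ⟨?_, hzF⟩
          rw [← hyF, mem_cj, mul_assoc, ← hcomm, inv_mul_cancel_left]; exact hzF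
      have h7 := card_le_of_le hsmall
      rw [p.card_inf] at h7
      have h8 : Nat.card (cj x Y) ≤ Nat.card (cj x Y ⊓ U : Subgroup G) * 2 := by
        let f : cj x Y → Bool := fun z => decide ((z : G) ∈ U)
        refine (card_le_range_mul f (H := cj x Y ⊓ U) (fun a b e => ?_)).trans ?_
        · refine ⟨(cj x Y).mul_mem ((cj x Y).inv_mem a.2) b.2, ?_⟩
          have e' : ((a : G) ∈ U) ↔ ((b : G) ∈ U) := by
            simpa [f] using e
          by_cases haU : (a : G) ∈ U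
          · exact U.mul_mem (U.inv_mem haU) (e'.1 haU)
          · have ha' := (hmemT2 _ (hle2 a.2)).resolve_left haU
            have hb' := (hmemT2 _ (hle2 b.2)).resolve_left (fun hb => haU (e'.2 hb))
            have h9 : ((a : G) * s)⁻¹ * (b * s) ∈ U := U.mul_mem (U.inv_mem ha') hb'
            have h10 := normalizer_conj_mem hsN h9
            rwa [show s * (((a : G) * s)⁻¹ * (b * s)) * s⁻¹ = (a : G)⁻¹ * b by group] at h10
        · rw [mul_comm]
          refine Nat.mul_le_mul_left _ ((Nat.card_le_card_of_injective _ Subtype.val_injective).trans ?_)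
          simp [Nat.card_eq_fintype_card]
      rw [card_cj, hYc] at h8
      omega
    have hxN : x ∈ N[U] := by
      refine cj_eq_self_iff.1 (eq_of_le_of_card_ge ?_ (card_cj x U).ge)
      have hmap : cj x U = cj x E ⊔ cj x F := by
        rw [← p.sup_eq]; exact Subgroup.map_sup _ _ _
      rw [hmap]
      exact sup_le (himg E (Or.inl rfl)) (himg F (Or.inr rfl))
    exact hT2U.le ⟨hx.1, hxN⟩
  -- transfer
  have hindex : U.relIndex T = 2 := by
    rw [← hTT2]
    haveI : (U.subgroupOf T2).Normal := (normal_subgroupOf_iff_le_normalizer hUT2).2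
      (sup_le le_normalizer (zpowers_le.2 hsN))
    refine index_eq_two_iff.2 ⟨⟨s, hsT2⟩, fun b => ?_⟩
    rw [mem_subgroupOf, mem_subgroupOf, Subgroup.coe_mul]
    by_cases hb : (b : G) ∈ U
    · refine Or.inr ⟨hb, fun h1 => hsU ?_⟩
      have h2 := U.mul_mem (U.inv_mem hb) h1
      rwa [inv_mul_cancel_left] at h2
    · exact Or.inl ⟨(hmemT2 _ b.2).resolve_left hb, hb⟩
  obtain ⟨g, hgU⟩ : ∃ g, g * s * g⁻¹ ∈ U := by
    by_contra hno
    push Not at hno
    obtain ⟨M, hM, hM2, -⟩ := CfsgLib.Fusion.thompson_transfer (⟨T, hT.2.1, fun {Q} hQ hle =>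
      hT.2.2 Q hle le_top hQ⟩ : Sylow 2 G) (Q := U) (hUT2.trans hT2T) hindex
      (by rw [pow_two]; exact hss) hno
    exact hni M hM hM2
  -- the central involution `z`
  obtain ⟨e, he, heF⟩ := SetLike.not_le_iff_exists.1 p.symm.not_le
  have hPn : ∀ g ∈ N[U], (cj g E = E ∧ cj g F = F) ∨ (cj g E = F ∧ cj g F = E) →
      ∀ x ∈ E ⊓ F, g * x * g⁻¹ ∈ E ⊓ F := by
    rintro g - (⟨h1, h2⟩ | ⟨h1, h2⟩) x hx
    · exact ⟨h1.le (conj_mem_cj.2 hx.1), h2.le (conj_mem_cj.2 hx.2)⟩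
    · exact ⟨h2.le (conj_mem_cj.2 hx.2), h1.le (conj_mem_cj.2 hx.1)⟩
  have hsP : ∀ x ∈ E ⊓ F, s * x * s⁻¹ ∈ E ⊓ F := hPn s hsN (Or.inr ⟨hsE, hsF⟩)
  have hhP : ∀ x ∈ E ⊓ F, h * x * h⁻¹ ∈ E ⊓ F :=
    hPn h hhN (Or.inl ⟨cj_eq_self_iff.2 hhE, cj_eq_self_iff.2 (p.mem_normalizerF hhN hhE)⟩)
  set C := fixOne (E ⊓ F) s
  have hC2 : Nat.card C ≤ 2 := by
    have hCC : C ⊓ cj h C = ⊥ := (eq_bot_iff_forall _).2 fun v hv => by
      obtain ⟨hv1, v0, hv0, hve⟩ := hv
      have hve' : h * v0 * h⁻¹ = v := hve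
      have a1 : s * v = v * s := (mem_fixOne.1 hv1).2
      have a2 : (h * s * h⁻¹) * v = v * (h * s * h⁻¹) := by
        calc (h * s * h⁻¹) * v = h * (s * v0) * h⁻¹ := by rw [← hve']; group
          _ = h * (v0 * s) * h⁻¹ := by rw [(mem_fixOne.1 hv0).2]
          _ = v * (h * s * h⁻¹) := by rw [← hve']; group
      have a3 : s * (h * s * h⁻¹) = h⁻¹ * h⁻¹ := by
        calc s * (h * s * h⁻¹) = (s * h * s⁻¹) * (s * s) * h⁻¹ := by group
          _ = h⁻¹ * h⁻¹ := by rw [hs3', hss, mul_one]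
      have a4 : Commute (s * (h * s * h⁻¹)) v :=
        (show Commute s v from a1).mul_left (show Commute (h * s * h⁻¹) v from a2)
      rw [a3] at a4
      refine hc.fpf (p.offE.sp.rad.two.to_le inf_le_left) (mem_fixOne.1 hv1).1 (y := h⁻¹ * h⁻¹) ?_ ?_ a4.eq
      · rw [← pow_two]; exact ((orderOf_inv h).symm ▸ hhodd).of_dvd_nat (orderOf_pow_dvd 2)
      · intro e0
        exact hh1 (inv_eq_one.1 (CfsgLib.Invol.eq_one_of_odd_of_mul_self (by rwa [orderOf_inv]) e0))
    have h2 := CfsgLib.Fusion.card_mul_le_sup_inf C (cj h C)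
    rw [hCC, card_bot, mul_one, card_cj] at h2
    have h3 : Nat.card (C ⊔ cj h C : Subgroup G) ≤ 4 := by
      rw [← p.card_inf]
      refine card_le_of_le (sup_le inf_le_left fun v hv => ?_)
      obtain ⟨v0, hv0, rfl⟩ := hv
      exact hhP v0 (mem_fixOne.1 hv0).1
    by_contra hlt
    have h4 : 3 * 3 ≤ Nat.card C * Nat.card C := Nat.mul_le_mul (by omega) (by omega)
    omega
  have hPc : ∀ x ∈ E ⊓ F, x * (s * x * s⁻¹) ∈ C := fun x hx => by
    refine mem_fixOne.2 ⟨(E ⊓ F).mul_mem hx (hsP x hx), ?_⟩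
    have hxx : s * (s * x * s⁻¹) * s⁻¹ = x := by
      rw [show s * (s * x * s⁻¹) * s⁻¹ = (s * s) * x * (s * s)⁻¹ by group, hss]; group
    calc s * (x * (s * x * s⁻¹)) = (s * x * s⁻¹) * (s * (s * x * s⁻¹) * s⁻¹) * s := by group
      _ = (s * x * s⁻¹) * x * s := by rw [hxx]
      _ = x * (s * x * s⁻¹) * s := by rw [p.offE.sp.comm _ (hsP x hx).1 _ hx.1]
  obtain ⟨p₀, hp₀, hp₀s⟩ : ∃ x ∈ E ⊓ F, ¬ x ∈ C := by
    by_contra hall
    push Not at hall
    have := (card_le_of_le (show E ⊓ F ≤ C from hall)).trans hC2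
    rw [p.card_inf] at this
    omega
  set z := p₀ * (s * p₀ * s⁻¹) with hz
  have hzC : z ∈ C := hPc p₀ hp₀
  have hz1 : z ≠ 1 := fun h0 => hp₀s (mem_fixOne.2 ⟨hp₀, by
    have h3 := eq_inv_of_mul_eq_one_right (hz.symm.trans h0)
    rw [inv_eq_of_mul_eq_one_right (p.offE.sp.sq p₀ hp₀.1)] at h3
    exact mul_inv_eq_iff_eq_mul.1 h3⟩)
  have hC01 : ∀ c ∈ C, c = 1 ∨ c = z := by
    intro c hc'
    by_contra hne'
    push Not at hne'
    haveI := Fintype.ofFinite C
    have h1 : (⟨z, hzC⟩ : C) ∉ ({⟨c, hc'⟩} : Finset C) := fun h =>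
      hne'.2 (congrArg Subtype.val (Finset.mem_singleton.1 h)).symm
    have h2 : (1 : C) ∉ ({⟨z, hzC⟩, ⟨c, hc'⟩} : Finset C) := fun h => by
      rcases Finset.mem_insert.1 h with h | h
      · exact hz1 (congrArg Subtype.val h).symm
      · exact hne'.1 (congrArg Subtype.val (Finset.mem_singleton.1 h)).symm
    have h3 := Finset.card_le_univ (insert (1 : C) ({⟨z, hzC⟩, ⟨c, hc'⟩} : Finset C))
    rw [Finset.card_insert_of_notMem h2, Finset.card_insert_of_notMem h1, Finset.card_singleton,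
      ← Nat.card_eq_fintype_card] at h3
    omega
  have hzE : z ∈ E := (mem_fixOne.1 hzC).1.1
  have hzF : z ∈ F := (mem_fixOne.1 hzC).1.2
  have hzs : s * z = z * s := (mem_fixOne.1 hzC).2
  -- the centralizer of `z` is `T`
  have hTz : ∀ x ∈ T, x * z = z * x := by
    intro x hx
    rw [← hTT2] at hx
    rcases hmemT2 x hx with hxU | hxU
    · exact p.comm_inf ⟨hzE, hzF⟩ hxU
    · have h1 := p.comm_inf ⟨hzE, hzF⟩ hxU
      calc x * z = x * s * (s⁻¹ * z) := by group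
        _ = x * s * (z * s⁻¹) := by rw [((show Commute s z from hzs).inv_left).eq]
        _ = (x * s * z) * s⁻¹ := by group
        _ = z * x := by rw [h1]; group
  have hCz : centralizer ({z} : Set G) = T :=
    hT.2.2 _ (fun x hx => mem_centralizer_singleton_iff.2 (hTz x hx)) le_top
      (hc.isPGroup_centralizer_mem p.offE.sp.rad.two hzE hz1)
  -- `s` is conjugate to `z`
  obtain ⟨k, hk⟩ : ∃ k : G, k * z * k⁻¹ = s := by
    have h1 : g * s * g⁻¹ ≠ 1 := fun e0 => hsU (by rw [conj_eq_one_iff.1 e0]; exact U.one_mem)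
    have h2 : (g * s * g⁻¹) * (g * s * g⁻¹) = 1 := by
      rw [show g * s * g⁻¹ * (g * s * g⁻¹) = g * (s * s) * g⁻¹ by group, hss, mul_one, mul_inv_cancel]
    rcases p.sq_one_mem hgU h2 with hE' | hF'
    · obtain ⟨a, -, ha⟩ := p.offE.exists_conj_eq hzE hz1 hE' h1
      exact ⟨g⁻¹ * a, by rw [show g⁻¹ * a * z * (g⁻¹ * a)⁻¹ = g⁻¹ * (a * z * a⁻¹) * g by group, ha]; group⟩
    · obtain ⟨a, -, ha⟩ := p.offF.exists_conj_eq hzF hz1 hF' h1
      exact ⟨g⁻¹ * a, by rw [show g⁻¹ * a * z * (g⁻¹ * a)⁻¹ = g⁻¹ * (a * z * a⁻¹) * g by group, ha]; group⟩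
  set T' := centralizer ({s} : Set G) with hT'
  have hT'eq : T' = cj k T := by
    ext x
    rw [hT', mem_centralizer_singleton_iff, mem_cj, ← hCz, mem_centralizer_singleton_iff]
    constructor
    · intro hx
      calc k⁻¹ * x * k * z = k⁻¹ * (x * (k * z * k⁻¹)) * k := by group
        _ = k⁻¹ * ((k * z * k⁻¹) * x) * k := by rw [hk, hx]
        _ = z * (k⁻¹ * x * k) := by group
    · intro hx
      calc x * s = k * ((k⁻¹ * x * k) * z) * k⁻¹ := by rw [← hk]; group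
        _ = k * (z * (k⁻¹ * x * k)) * k⁻¹ := by rw [hx]
        _ = s * x := by rw [← hk]; group
  have hT'p : IsPGroup 2 T' := by rw [hT'eq]; exact isPGroup_cj hT.2.1
  -- commutators inside `C_T(s)`
  have hTU : U ≤ T := hUT2.trans hT2T
  set D := T ⊓ T' with hD
  have hDcomm : ∀ a ∈ D, ∀ b ∈ D, ⁅a, b⁆ ∈ C := by
    intro a ha b hb
    have hred : ∀ a ∈ D, ∃ c ∈ U, s * c = c * s ∧ (a = c ∨ a = c * s) := by
      intro a ha
      have has : a * s = s * a := mem_centralizer_singleton_iff.1 ha.2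
      have ha1 : a ∈ T2 := hTT2 ▸ ha.1
      rcases hmemT2 a ha1 with hU1 | hU1
      · exact ⟨a, hU1, has.symm, Or.inl rfl⟩
      · refine ⟨a * s, hU1, by rw [← mul_assoc, ← has], Or.inr ?_⟩
        rw [mul_assoc, hss, mul_one]
    obtain ⟨c, hcU, hcs, hac⟩ := hred a ha
    obtain ⟨d, hdU, hds, hbd⟩ := hred b hb
    have e1 : ⁅a, b⁆ = ⁅c, d⁆ := by
      have r1 : ∀ w : G, s * w = w * s → ⁅c * s, w⁆ = ⁅c, w⁆ := fun w hw => by
        simp only [commutatorElement_def]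
        calc c * s * w * (c * s)⁻¹ * w⁻¹ = c * (s * w) * s⁻¹ * c⁻¹ * w⁻¹ := by group
          _ = c * w * c⁻¹ * w⁻¹ := by rw [hw]; group
      have r2 : ⁅c, d * s⁆ = ⁅c, d⁆ := by
        simp only [commutatorElement_def]
        calc c * (d * s) * c⁻¹ * (d * s)⁻¹ = c * d * (s * c⁻¹) * s⁻¹ * d⁻¹ := by group
          _ = c * d * c⁻¹ * d⁻¹ := by rw [((show Commute s c from hcs).inv_right).eq]; group
      rcases hac with hh | hh <;> rcases hbd with hh' | hh' <;> rw [hh, hh']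
      · exact r2
      · exact r1 d hds
      · rw [r1 (d * s) (by rw [← mul_assoc, hds]), r2]
    rw [e1]
    obtain ⟨e₁, he₁, f₁, hf₁, rfl⟩ := p.exists_mul hcU
    obtain ⟨e₂, he₂, f₂, hf₂, rfl⟩ := p.exists_mul hdU
    refine mem_fixOne.2 ⟨?_, ?_⟩
    · have hmixed : ∀ x y : G, x ∈ E → y ∈ F → ⁅x, y⁆ ∈ E ⊓ F := fun x y hx hy => by
        rw [commutatorElement_def]
        refine ⟨?_, F.mul_mem (normalizer_conj_mem (p.sylF.1 (p.leE hx)) hy) (F.inv_mem hy)⟩
        rw [show x * y * x⁻¹ * y⁻¹ = x * (y * x⁻¹ * y⁻¹) by group]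
        exact E.mul_mem hx (normalizer_conj_mem (p.sylE.1 (p.leF hy)) (E.inv_mem hx))
      haveI : ((E ⊓ F).subgroupOf U).Normal := (normal_subgroupOf_iff_le_normalizer
        (inf_le_left.trans p.leE)).2 fun u hu => mem_normalizer_iff.2 fun y => by
          constructor
          · intro hy; rw [p.comm_inf hy hu, mul_inv_cancel_right]; exact hy
          · intro hy
            have h1 := p.comm_inf hy (U.inv_mem hu)
            have : y = u⁻¹ * (u * y * u⁻¹) * u := by group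
            rw [this, h1, inv_mul_cancel_right]; exact hy
      set π := QuotientGroup.mk' ((E ⊓ F).subgroupOf U)
      let E1 : U := ⟨e₁, p.leE he₁⟩
      let E2 : U := ⟨e₂, p.leE he₂⟩
      let F1 : U := ⟨f₁, p.leF hf₁⟩
      let F2 : U := ⟨f₂, p.leF hf₂⟩
      have hone : ∀ w : U, (w : G) ∈ E ⊓ F → π w = 1 := fun w hw =>
        (QuotientGroup.eq_one_iff w).2 (mem_subgroupOf.2 hw)
      have c1 : Commute (π E1) (π F2) := commutatorElement_eq_one_iff_commute.1 (by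
        rw [← map_commutatorElement]; exact hone _ (hmixed e₁ f₂ he₁ hf₂))
      have c2 : Commute (π E2) (π F1) := commutatorElement_eq_one_iff_commute.1 (by
        rw [← map_commutatorElement]; exact hone _ (hmixed e₂ f₁ he₂ hf₁))
      have c3 : Commute (π E1) (π E2) := Commute.map (show Commute E1 E2 from
        Subtype.ext (p.offE.sp.comm e₁ he₁ e₂ he₂)) π
      have c4 : Commute (π F1) (π F2) := Commute.map (show Commute F1 F2 from
        Subtype.ext (p.offF.sp.comm f₁ hf₁ f₂ hf₂)) π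
      have h1 : π ⁅E1 * F1, E2 * F2⁆ = 1 := by
        rw [map_commutatorElement, commutatorElement_eq_one_iff_commute, map_mul, map_mul]
        exact (c3.mul_right c1).mul_left (c2.symm.mul_right c4)
      exact mem_subgroupOf.1 ((QuotientGroup.eq_one_iff _).1 h1)
    · have k1 : Commute s (e₁ * f₁) := hcs
      have k2 : Commute s (e₂ * f₂) := hds
      rw [commutatorElement_def]
      exact (((k1.mul_right k2).mul_right k1.inv_right).mul_right k2.inv_right).eq
  -- a noncommuting pair in `C_U(s)`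
  have hE2F : ∀ x ∈ E, s * x * s⁻¹ ∈ F := fun x hx => hsE.le (conj_mem_cj.2 hx)
  have hF2E : ∀ x ∈ F, s * x * s⁻¹ ∈ E := fun x hx => hsF.le (conj_mem_cj.2 hx)
  have hinvo : ∀ x : G, s * (s * x * s⁻¹) * s⁻¹ = x := fun x => by
    rw [show s * (s * x * s⁻¹) * s⁻¹ = (s * s) * x * (s * s)⁻¹ by group, hss]; group
  have hdiag : ∀ x ∈ E, x ∉ F →
      s * (x * (s * x * s⁻¹) * p₀) = (x * (s * x * s⁻¹) * p₀) * s := by
    intro x hx hxF
    set y := s * x * s⁻¹ with hy
    have hyF : y ∈ F := hE2F x hx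
    have hyE : y ∉ E := fun hyE => hxF (by
      have h1 := hsE.le (conj_mem_cj.2 hyE : s * y * s⁻¹ ∈ cj s E)
      rwa [hy, hinvo] at h1)
    set c := x * (y * x * y⁻¹) with hc'
    have hcP : c ∈ E ⊓ F := by rw [← p.fix_eq]; exact p.offE.diff_mem p.sylE (p.leF hyF) hyE hx
    have hxi : x⁻¹ = x := inv_eq_of_mul_eq_one_right (p.offE.sp.sq x hx)
    have hyi : y⁻¹ = y := inv_eq_of_mul_eq_one_right (p.offF.sp.sq y hyF)
    have hsc : s * c * s⁻¹ = c := by
      have e1 : s * c * s⁻¹ = y * (x * y * x⁻¹) := by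
        rw [hc', show s * (x * (y * x * y⁻¹)) * s⁻¹ =
          (s * x * s⁻¹) * ((s * y * s⁻¹) * (s * x * s⁻¹) * (s * y * s⁻¹)⁻¹) by group, hy, hinvo]
      rw [e1]
      calc y * (x * y * x⁻¹) = y⁻¹⁻¹ * (x⁻¹ * y⁻¹ * x) := by rw [inv_inv, hxi, hyi]
        _ = (x⁻¹ * y * x * y⁻¹)⁻¹ := by group
        _ = c⁻¹ := by rw [hc', hxi]; group
        _ = c := inv_eq_of_mul_eq_one_right (p.offE.sp.sq c hcP.1)
    have hc1 : c ≠ 1 := fun h0 => hxF (by
      have h5 : x ∈ fixOne E y := mem_fixOne.2 ⟨hx, by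
        have h6 := eq_inv_of_mul_eq_one_right (hc'.symm.trans h0)
        rw [hxi] at h6
        exact mul_inv_eq_iff_eq_mul.1 h6⟩
      rw [(p.offE.syl U p.sylE).2.2 y (p.leF hyF) hyE, p.fix_eq] at h5
      exact h5.2)
    have hcz : c = z := (hC01 c (mem_fixOne.2 ⟨hcP, by
      rw [← mul_inv_eq_iff_eq_mul]; exact hsc⟩)).resolve_left hc1
    have e3 : s * p₀ * s⁻¹ = p₀ * z := by rw [hz, ← mul_assoc, p.offE.sp.sq _ hp₀.1, one_mul]
    have e4 : y * x = x * y * z := by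
      rw [← hcz]
      calc y * x = x⁻¹ * c * y := by rw [hc']; group
        _ = x * c * y := by rw [hxi]
        _ = x * (c * y) := by group
        _ = x * (y * c) := by rw [p.comm_inf hcP (p.leF hyF)]
        _ = x * y * c := by group
    calc s * (x * y * p₀) = (s * x * s⁻¹) * (s * y * s⁻¹) * (s * p₀ * s⁻¹) * s := by group
      _ = y * x * (p₀ * z) * s := by rw [← hy, e3, show s * y * s⁻¹ = x by rw [hy, hinvo]]
      _ = x * y * (p₀ * (z * z)) * s := by
          rw [e4, mul_assoc (x * y) z, ← mul_assoc z p₀ z, p.offE.sp.comm z hzE p₀ hp₀.1, mul_assoc p₀ z z]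
      _ = x * y * p₀ * s := by rw [p.offE.sp.sq z hzE, mul_one]
  have hxFix : e ∉ fixSub E U := fun h' => heF (p.fix_eq ▸ h' : e ∈ E ⊓ F).2
  obtain ⟨a, ha, hac⟩ := p.offE.exists_comm_eq p.sylE he hxFix
    (show p₀ ∈ fixSub E U by rw [p.fix_eq]; exact hp₀)
  obtain ⟨e₀, he₀, f', hf', rfl⟩ := p.exists_mul ha
  have hac' : e * (f' * e * f'⁻¹) = p₀ := by
    rw [← hac]
    congr 1
    calc f' * e * f'⁻¹ = e₀ * (f' * e * f'⁻¹) * e₀⁻¹ := by
          rw [p.offE.sp.comm e₀ he₀ _ (normalizer_conj_mem (p.sylE.1 (p.leF hf')) he), mul_inv_cancel_right]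
      _ = e₀ * f' * e * (e₀ * f')⁻¹ := by group
  set f := s * f' * s⁻¹ with hf
  have hfE : f ∈ E := hF2E f' hf'
  have hf'E : f' ∉ E := fun h' => hp₀s (by
    have h1 : p₀ = 1 := by
      rw [← hac', p.offE.sp.cen e he f' h', mul_inv_cancel_right, p.offE.sp.sq e he]
    rw [h1]; exact one_mem _)
  have hfF : f ∉ F := fun h' => hf'E (by
    have h1 := hsF.le (conj_mem_cj.2 h' : s * f * s⁻¹ ∈ cj s F)
    rwa [hf, hinvo] at h1)
  set e' := s * e * s⁻¹ with he'
  set x := e * e' * p₀ with hx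
  set y := f * f' * p₀ with hy
  have he'F : e' ∈ F := hE2F e he
  have hxU : x ∈ U := U.mul_mem (U.mul_mem (p.leE he) (p.leF he'F)) (p.leE hp₀.1)
  have hyU : y ∈ U := U.mul_mem (U.mul_mem (p.leE hfE) (p.leF hf')) (p.leE hp₀.1)
  have hxs : s * x = x * s := hdiag e he heF
  have hys : s * y = y * s := by
    have h1 := hdiag f hfE hfF
    rwa [show s * f * s⁻¹ = f' by rw [hf, hinvo]] at h1
  have hxD : x ∈ D := ⟨hTU hxU, mem_centralizer_singleton_iff.2 hxs.symm⟩
  have hyD : y ∈ D := ⟨hTU hyU, mem_centralizer_singleton_iff.2 hys.symm⟩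
  have hxy : ⁅x, y⁆ = z := by
    have hpU : ∀ w ∈ U, p₀ * w = w * p₀ := fun w hw => (p.comm_inf hp₀ hw).symm
    have hy1U : f * f' ∈ U := U.mul_mem (p.leE hfE) (p.leF hf')
    have hx1U : e * e' ∈ U := U.mul_mem (p.leE he) (p.leF he'F)
    have r1 : ⁅x, y⁆ = ⁅e * e', f * f'⁆ := by
      rw [hx, hy, commutatorElement_def, commutatorElement_def]
      calc e * e' * p₀ * (f * f' * p₀) * (e * e' * p₀)⁻¹ * (f * f' * p₀)⁻¹
          = e * e' * (p₀ * (f * f')) * (e * e')⁻¹ * (p₀⁻¹ * (f * f')⁻¹) := by group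
        _ = e * e' * ((f * f') * p₀) * (e * e')⁻¹ * ((f * f')⁻¹ * p₀⁻¹) := by
            rw [hpU _ hy1U, ((show Commute p₀ ((f * f')⁻¹) from hpU _ (U.inv_mem hy1U)).inv_left).eq]
        _ = e * e' * (f * f') * (p₀ * ((e * e')⁻¹ * (f * f')⁻¹)) * p₀⁻¹ := by group
        _ = e * e' * (f * f') * ((e * e')⁻¹ * (f * f')⁻¹ * p₀) * p₀⁻¹ := by
            rw [hpU _ (U.mul_mem (U.inv_mem hx1U) (U.inv_mem hy1U))]
        _ = e * e' * (f * f') * (e * e')⁻¹ * (f * f')⁻¹ := by group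
    rw [r1]
    set w := e' * f * e'⁻¹ * f⁻¹ with hw
    have hwc : w = s * p₀ * s⁻¹ := by
      have hei : e'⁻¹ = e' := inv_eq_of_mul_eq_one_right (p.offF.sp.sq e' he'F)
      have hfi : f⁻¹ = f := inv_eq_of_mul_eq_one_right (p.offE.sp.sq f hfE)
      have hfi' : f'⁻¹ = f' := inv_eq_of_mul_eq_one_right (p.offF.sp.sq f' hf')
      rw [hw, ← hac', hei, hfi, he', hf, hfi']
      group
    have hwP : w ∈ E ⊓ F := by rw [hwc]; exact hsP p₀ hp₀
    have hee : e⁻¹ = e := inv_eq_of_mul_eq_one_right (p.offE.sp.sq e he)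
    have h3 : e' * (f * f') * e'⁻¹ = w * (f * f') := by
      calc e' * (f * f') * e'⁻¹ = (e' * f * e'⁻¹) * (e' * f' * e'⁻¹) := by group
        _ = (e' * f * e'⁻¹) * f' := by rw [p.offF.sp.comm e' he'F f' hf', mul_inv_cancel_right]
        _ = w * (f * f') := by rw [hw]; group
    have h4 : e * f' * e⁻¹ = f' * p₀ := by
      have : p₀⁻¹ = p₀ := inv_eq_of_mul_eq_one_right (p.offE.sp.sq p₀ hp₀.1)
      have hfi' : f'⁻¹ = f' := inv_eq_of_mul_eq_one_right (p.offF.sp.sq f' hf')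
      calc e * f' * e⁻¹ = (f' * f') * e⁻¹ * f'⁻¹ * e⁻¹ := by rw [p.offF.sp.sq f' hf', hee, hfi', one_mul]
        _ = f' * (e * (f' * e * f'⁻¹))⁻¹ := by group
        _ = f' * p₀ := by rw [hac', this]
    rw [commutatorElement_def]
    calc e * e' * (f * f') * (e * e')⁻¹ * (f * f')⁻¹
        = e * (e' * (f * f') * e'⁻¹) * e⁻¹ * (f * f')⁻¹ := by group
      _ = e * (w * (f * f')) * e⁻¹ * (f * f')⁻¹ := by rw [h3]
      _ = (e * w * e⁻¹) * (e * f * e⁻¹) * (e * f' * e⁻¹) * (f * f')⁻¹ := by group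
      _ = w * f * (f' * p₀) * (f * f')⁻¹ := by
          rw [p.offE.sp.comm e he w hwP.1, mul_inv_cancel_right, p.offE.sp.comm e he f hfE,
            mul_inv_cancel_right, h4]
      _ = w * (f * f' * p₀) * (f * f')⁻¹ := by group
      _ = w * (p₀ * (f * f')) * (f * f')⁻¹ := by rw [hpU _ hy1U]
      _ = w * p₀ := by group
      _ = z := by rw [hwc, hz]; exact p.offE.sp.comm _ (hsP p₀ hp₀).1 _ hp₀.1
  -- the contradiction
  have hDne : D ≠ T' := by
    intro hDT
    have hle : T' ≤ T := hDT ▸ inf_le_left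
    have hsz : T' = T := eq_of_le_of_card_ge hle (by rw [hT'eq, card_cj])
    have h1 : e ∈ T' := hsz ▸ hTU (p.leE he)
    have h2 : e * s = s * e := mem_centralizer_singleton_iff.1 h1
    refine heF ?_
    rw [← hsE, mem_cj, mul_assoc, h2, inv_mul_cancel_left]
    exact he
  obtain ⟨n, hn, hnD, hnN⟩ := exists_normalizing_notMem hT'p inf_le_right hDne
  have hnz : n * z = z * n := by
    have h1 := hDcomm _ (normalizer_conj_mem hnN hxD) _ (normalizer_conj_mem hnN hyD)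
    rw [show ⁅n * x * n⁻¹, n * y * n⁻¹⁆ = n * ⁅x, y⁆ * n⁻¹ by simp only [commutatorElement_def]; group,
      hxy] at h1
    exact mul_inv_eq_iff_eq_mul.1 ((hC01 _ h1).resolve_left fun h' => hz1 (conj_eq_one_iff.1 h'))
  exact hnD ⟨hCz ▸ mem_centralizer_singleton_iff.2 hnz, hn⟩

end Pair

end CfsgLib.CIT
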