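import Cfsg.Agent.Lib.CIT.CN
import Cfsg.Agent.Lib.Coprime.Solvable
import Cfsg.Agent.S1162

/-!
# Perfect CN groups without solvable normal subgroups are simple
-/

set_option autoImplicit false
set_option linter.unusedSectionVars false
set_option linter.style.haveILetI false

namespace CfsgLib.CIT

open Subgroup

universe u

variable {G : Type u} [Group G] [Finite G]

/-- The hypothesis of a CN group. -/
def IsCN (G : Type u) [Group G] : Prop :=
  ∀ x : G, x ≠ 1 → Group.IsNilpotent (centralizer ({x} : Set G))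

theorem IsCN.subgroup (h : IsCN G) (H : Subgroup G) : IsCN H := by
  intro x hx
  haveI := h x fun e => hx (Subtype.ext e)
  let f : centralizer ({x} : Set H) →* centralizer ({(x : G)} : Set G) :=
    MonoidHom.mk' (fun c => ⟨((c : H) : G), mem_centralizer_singleton_iff.2
      (congrArg Subtype.val (mem_centralizer_singleton_iff.1 c.2))⟩) fun _ _ => rfl
  have hf : Function.Injective f := fun a b e =>
    Subtype.ext (Subtype.ext (congrArg (fun w : centralizer ({(x : G)} : Set G) => (w : G)) e))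
  exact Group.nilpotent_of_mulEquiv (MonoidHom.ofInjective hf).symm

theorem NoSolv.noCore (hR : NoSolv G) : NoCore G := by
  haveI : Fact (Nat.Prime 2) := ⟨Nat.prime_two⟩
  haveI := CfsgLib.Coprime.pCore_normal' (G := G) 2
  haveI := (CfsgLib.Coprime.pCore_isPGroup (G := G) 2).isNilpotent
  exact noCore_of_pCore (hR _ inferInstance inferInstance)

/-- A nontrivial normal subgroup has even order. -/
theorem NoSolv.two_dvd (hR : NoSolv G) {N : Subgroup G} (hN : N.Normal) (h : N ≠ ⊥) : 2 ∣ Nat.card N := by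
  by_contra h2
  exact h (hR N hN (CfsgLib.FrobSystem.isSolvable_subgroup_of_odd
    (Nat.odd_iff.2 (Nat.two_dvd_ne_zero.1 h2))))

/-- A quotient with a Sylow two-subgroup of order at most two is solvable. -/
theorem isSolvable_of_sylow_le_two {Q : Type u} [Group Q] [Finite Q] (P : Sylow 2 Q)
    (h : Nat.card (P : Subgroup Q) ≤ 2) : Group.IsSolvable Q := by
  haveI : Fact (Nat.Prime 2) := ⟨Nat.prime_two⟩
  refine CfsgLib.FrobSystem.isSolvable_of_complement
    (CfsgLib.Fusion.hasNormalPComplement_of_normalizer_le_centralizer P fun g hg =>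
      mem_centralizer_iff.2 fun y hy => ?_)
  have hgy : g * y * g⁻¹ ∈ (P : Subgroup Q) := (mem_normalizer_iff.1 hg y).1 hy
  rcases eq_or_ne y 1 with rfl | hy1
  · rw [one_mul, mul_one]
  have hall : ∀ w ∈ (P : Subgroup Q), w = 1 ∨ w = y := by
    intro w hw
    by_contra hno
    push Not at hno
    let f : Fin 3 → (P : Subgroup Q) := ![1, ⟨y, hy⟩, ⟨w, hw⟩]
    have hf : Function.Injective f := by
      intro a b e
      fin_cases a <;> fin_cases b <;>
        simp_all [f, Subtype.ext_iff, hy1.symm, hno.1.symm, hno.2.symm]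
    have := Nat.card_le_card_of_injective f hf
    rw [Nat.card_eq_fintype_card, Fintype.card_fin] at this
    omega
  rcases hall _ hgy with e | e
  · exact absurd (conj_eq_one_iff.1 e) hy1
  · exact (mul_inv_eq_iff_eq_mul.1 e).symm

theorem eq_top_of_isSolvable_quotient (hp : commutator G = ⊤) (N : Subgroup G) [N.Normal]
    (hs : Group.IsSolvable (G ⧸ N)) : N = ⊤ := by
  by_contra h
  haveI : Nontrivial (G ⧸ N) := Finite.one_lt_card_iff_nontrivial.1 (by
    rw [← Subgroup.index_eq_card]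
    have h1 : N.index ≠ 1 := fun e => h (Subgroup.index_eq_one.1 e)
    have h2 : N.index ≠ 0 := N.index_ne_zero_of_finite
    omega)
  obtain ⟨n, hn⟩ := (Group.isSolvable_def (G ⧸ N)).1 hs
  have htop : ∀ k, derivedSeries G k = ⊤ := by
    intro k
    induction k with
    | zero => rfl
    | succ k ih => rw [derivedSeries_succ, ih]; exact hp
  have h1 := map_derivedSeries_eq (f := QuotientGroup.mk' N) (QuotientGroup.mk'_surjective N) n
  rw [htop, hn, ← MonoidHom.range_eq_map,
    MonoidHom.range_eq_top.2 (QuotientGroup.mk'_surjective N)] at h1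
  exact top_ne_bot h1

/-- Pair normal subgroups contain the pair. -/
theorem Pair.mem_normal {E F U : Subgroup G} {q : ℕ} (p : Pair E F U q) (hR : NoSolv G) {T : Subgroup G}
    (hT : IsSyl ⊤ T) (hUT : U ≤ T) {N : Subgroup G} (hN : N.Normal) (hne : N ≠ ⊥) :
    E ≤ N ∧ F ≤ N ∧ ∃ z ∈ E, z ≠ 1 ∧ z ∈ N ∧ ∀ t ∈ T, t * z = z * t := by
  haveI : Fact (Nat.Prime 2) := ⟨Nat.prime_two⟩
  haveI := hT.2.1.isNilpotent
  obtain ⟨⟨u, huN⟩, hu⟩ := exists_prime_orderOf_dvd_card' (G := N) 2 (hR.two_dvd hN hne)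
  rw [Subgroup.orderOf_mk] at hu
  obtain ⟨S, hS, huS⟩ := exists_syl_top (isPGroup_zpowers_invol hu)
  obtain ⟨g, -, rfl⟩ := hT.exists_conj hS
  have hw : g⁻¹ * u * g ∈ T := mem_cj.1 (huS (mem_zpowers u))
  haveI : (N.subgroupOf T).Normal := hN.subgroupOf T
  have hTne : N.subgroupOf T ≠ ⊥ := fun e => by
    have h1 : (⟨g⁻¹ * u * g, hw⟩ : T) ∈ N.subgroupOf T := mem_subgroupOf.2 (by
      have := hN.conj_mem u huN g⁻¹
      rwa [inv_inv] at this)
    rw [e, mem_bot] at h1
    have h2 : g⁻¹ * u * g = 1 := congrArg Subtype.val h1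
    refine CfsgLib.Invol.invol_ne_one hu ?_
    calc u = g * (g⁻¹ * u * g) * g⁻¹ := by group
      _ = 1 := by rw [h2]; group
  obtain ⟨⟨⟨z, hzT⟩, hz⟩, hz1⟩ := ne_bot_iff_exists_ne_one.1
    (CfsgLib.Coprime.nilpotent_inf_center_ne_bot (N.subgroupOf T) hTne)
  have hz1' : z ≠ 1 := fun e => hz1 (Subtype.ext (Subtype.ext e))
  have hzN : z ∈ N := mem_subgroupOf.1 hz.1
  have hzc : ∀ t ∈ T, t * z = z * t := fun t ht =>
    congrArg Subtype.val (mem_center_iff.1 hz.2 ⟨t, ht⟩)
  have hcen : ∀ {X : Subgroup G}, X ≤ U → IsRad X → z ∈ X := fun hX hrad =>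
    hrad.centralizer_le p.cit (mem_centralizer_iff.2 fun e he => hzc e (hUT (hX he)))
  have hzE := hcen p.leE p.offE.sp.rad
  refine ⟨fun y hy => ?_, fun y hy => ?_, z, hzE, hz1', hzN, hzc⟩
  · rcases eq_or_ne y 1 with rfl | hy1
    · exact one_mem N
    obtain ⟨a, -, rfl⟩ := p.offE.exists_conj_eq hzE hz1' hy hy1
    exact hN.conj_mem z hzN a
  · rcases eq_or_ne y 1 with rfl | hy1
    · exact one_mem N
    obtain ⟨a, -, rfl⟩ := p.offF.exists_conj_eq (hcen p.leF p.offF.sp.rad) hz1' hy hy1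
    exact hN.conj_mem z hzN a

/-- In the parameter two case a normal subgroup misses at most one involution class. -/
theorem Pair.card_quotient_le {E F U : Subgroup G} (p : Pair E F U 2) (hR : NoSolv G) {T : Subgroup G}
    (hT : IsSyl ⊤ T) (hUT : U ≤ T) {N : Subgroup G} (hN : N.Normal) (hne : N ≠ ⊥) :
    Nat.card T < 4 * Nat.card (N ⊓ T : Subgroup G) := by
  classical
  haveI : Fintype G := Fintype.ofFinite G
  obtain ⟨hEN, -, z, hzE, hz1, hzN, hzc⟩ := p.mem_normal hR hT hUT hN hne
  have hET : E ≤ T := p.leE.trans hUT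
  obtain ⟨s, hsE, hs1, hsz⟩ : ∃ s ∈ E, s ≠ 1 ∧ s ≠ z := by
    by_contra hno
    push Not at hno
    have h := Nat.card_le_card_of_surjective (β := E) (fun b : Bool => if b then 1 else ⟨z, hzE⟩) (by
      rintro ⟨y, hy⟩
      by_cases h1 : y = 1
      · exact ⟨true, Subtype.ext h1.symm⟩
      · exact ⟨false, Subtype.ext (hno y hy h1).symm⟩)
    rw [p.offE.card, Nat.card_eq_fintype_card, Fintype.card_bool] at h
    omega
  have hall : ∀ x : G, x ∈ T → x * s = s * x → x ∈ E := by
    intro x hx hxs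
    refine p.offE.sp.rad.centralizer_le p.cit (mem_centralizer_iff.2 fun e he => ?_)
    have he4 : e = 1 ∨ e = z ∨ e = s ∨ e = z * s := by
      by_contra hno
      push Not at hno
      have hzs1 : z * s ≠ 1 := fun e => hsz (by
        rw [← inv_eq_of_mul_eq_one_right e, inv_eq_of_mul_eq_one_right (p.offE.sp.sq z hzE)])
      let f : Fin 5 → E := ![1, ⟨z, hzE⟩, ⟨s, hsE⟩, ⟨z * s, mul_mem hzE hsE⟩, ⟨e, he⟩]
      have hf : Function.Injective f := by
        intro a b e'
        fin_cases a <;> fin_cases b <;>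
          simp_all [f, Subtype.ext_iff, hz1.symm, hs1.symm, Ne.symm hsz, hno.1.symm, hno.2.1.symm,
            hno.2.2.1.symm, hno.2.2.2.symm, hzs1.symm]
      have := Nat.card_le_card_of_injective f hf
      rw [p.offE.card, Nat.card_eq_fintype_card, Fintype.card_fin] at this
      omega
    have hxz : x * z = z * x := hzc x hx
    rcases he4 with h | h | h | h <;> rw [h]
    · rw [one_mul, mul_one]
    · exact hxz.symm
    · exact hxs.symm
    · exact ((show Commute x z from hxz).mul_right (show Commute x s from hxs)).eq.symm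
  let f : T → {w : (N ⊓ T : Subgroup G) // (w : G) ≠ 1} := fun t =>
    ⟨⟨(t : G) * s * (t : G)⁻¹, hN.conj_mem s (hEN hsE) t, T.mul_mem (T.mul_mem t.2 (hET hsE)) (T.inv_mem t.2)⟩,
      fun e => hs1 (conj_eq_one_iff.1 e)⟩
  have h := card_le_range_mul f (H := E) fun a b e => by
    have e' : (a : G) * s * (a : G)⁻¹ = b * s * (b : G)⁻¹ := congrArg (fun w => ((w.1 : _) : G)) e
    refine hall _ (T.mul_mem (T.inv_mem a.2) b.2) ?_
    calc (a : G)⁻¹ * b * s = (a : G)⁻¹ * (b * s * (b : G)⁻¹) * b := by group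
      _ = (a : G)⁻¹ * (a * s * (a : G)⁻¹) * b := by rw [e']
      _ = s * ((a : G)⁻¹ * b) := by group
  have h2 : Nat.card (Set.range f) ≤ Nat.card {w : (N ⊓ T : Subgroup G) // (w : G) ≠ 1} :=
    Nat.card_le_card_of_injective _ Subtype.val_injective
  have h3 : Nat.card {w : (N ⊓ T : Subgroup G) // (w : G) ≠ 1} < Nat.card (N ⊓ T : Subgroup G) := by
    rw [Nat.card_eq_fintype_card, Nat.card_eq_fintype_card]
    exact Fintype.card_subtype_lt (x := (1 : (N ⊓ T : Subgroup G))) (fun h => h rfl)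
  rw [p.offE.card] at h
  omega

/-- A perfect CN group without solvable normal subgroups is simple. -/
theorem isSimple_of_perfect [Nontrivial G] (hp : commutator G = ⊤) (hR : NoSolv G) (hCN : IsCN G) :
    IsSimpleGroup G ∧ ¬ IsMulCommutative G := by
  haveI : Fact (Nat.Prime 2) := ⟨Nat.prime_two⟩
  have hns : ¬ Group.IsSolvable G := fun hs =>
    haveI := hs
    top_ne_bot (hR ⊤ inferInstance inferInstance)
  have hna : ¬ IsMulCommutative G := fun h =>
    hns (Group.isSolvable_of_comm fun a b => h.is_comm.comm a b)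
  refine ⟨?_, hna⟩
  have h2 := two_dvd_card_of_nsolv hns
  obtain ⟨T₀⟩ : Nonempty (Sylow 2 G) := inferInstance
  have hti : ∀ hTI : ∀ S S' : Subgroup G, IsSyl ⊤ S → IsSyl ⊤ S' → S ⊓ S' ≠ ⊥ → S = S',
      IsSimpleGroup G := by
    intro hTI
    rcases sl_or_isoSuzuki (ti_conj T₀ hTI) (ker_of_cn hCN T₀ h2 hTI) hns hR with
      ⟨K, iK, iK', ⟨n, hn, hK⟩, ⟨e⟩⟩ | ⟨F, iF, iF', m, hm, hF, ⟨e⟩⟩
    · haveI : CharP K 2 := CfsgLib.Classical.PSL2Spectrum.char_two_of_dvd (hK ▸ dvd_pow_self 2 (by omega))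
      obtain ⟨e'⟩ := sl_two_equiv_psl (K := K)
      haveI : IsSimpleGroup (Matrix.ProjectiveSpecialLinearGroup (Fin 2) K) :=
        Matrix.ProjectiveSpecialLinearGroup.rank_two_simple (by
          rw [Nat.card_eq_fintype_card, hK]
          exact le_trans (by norm_num) (Nat.pow_le_pow_right two_pos hn))
      exact (e.trans e').isSimpleGroup
    · haveI := Cfsg.Agent.S1162.result (F := F) hm hF
      exact e.isSimpleGroup
  by_cases hTI : ∀ S S' : Subgroup G, IsSyl ⊤ S → IsSyl ⊤ S' → S ⊓ S' ≠ ⊥ → S = S'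
  · exact hti hTI
  have hc : IsCIT G := by_contra fun h => hTI (cn_ti hCN h)
  push Not at hTI
  obtain ⟨S, S', hS, hS', h, hne⟩ := hTI
  obtain ⟨E, F, U, q, p⟩ := exists_pair hc hR.noCore hS hS' h hne
  have hni : ∀ M : Subgroup G, M.Normal → M.index ≠ 2 := fun M hM hM2 => by
    haveI := hM
    haveI : IsCyclic (G ⧸ M) := isCyclic_of_prime_card (p := 2) (by rw [← Subgroup.index_eq_card]; exact hM2)
    letI : CommGroup (G ⧸ M) := IsCyclic.commGroup
    rw [eq_top_of_isSolvable_quotient hp M inferInstance, index_top] at hM2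
    omega
  refine ⟨fun N hN => ?_⟩
  by_contra hNn
  push Not at hNn
  obtain ⟨hNb, hNt⟩ := hNn
  haveI := hN
  refine hNt (eq_top_of_isSolvable_quotient hp N ?_)
  obtain ⟨T, hT, hUT⟩ := exists_syl_top p.sylE.2.1
  refine isSolvable_of_sylow_le_two (hT.sylowTop.mapSurjective (QuotientGroup.mk'_surjective N)) ?_
  rw [Sylow.coe_mapSurjective]
  have hTT : (hT.sylowTop : Subgroup G) = T := rfl
  rw [hTT]
  have hcard : Nat.card (T.map (QuotientGroup.mk' N)) * Nat.card (N ⊓ T : Subgroup G) = Nat.card T := by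
    have hr : ((QuotientGroup.mk' N).comp T.subtype).range = T.map (QuotientGroup.mk' N) := by
      rw [MonoidHom.range_comp, Subgroup.range_subtype]
    have hk : ((QuotientGroup.mk' N).comp T.subtype).ker = N.subgroupOf T := by
      rw [← MonoidHom.comap_ker, QuotientGroup.ker_mk']; rfl
    rw [Subgroup.card_eq_card_quotient_mul_card_subgroup ((QuotientGroup.mk' N).comp T.subtype).ker,
      Nat.card_congr (QuotientGroup.quotientKerEquivRange ((QuotientGroup.mk' N).comp T.subtype)).toEquiv,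
      hr, hk, ← Subgroup.inf_subgroupOf_right N T,
      Nat.card_congr (Subgroup.subgroupOfEquivOfLe (inf_le_right : N ⊓ T ≤ T)).toEquiv]
  rcases p.two_or_four with rfl | rfl
  · have hlt := p.card_quotient_le hR hT hUT hN hNb
    have hpos : 0 < Nat.card (N ⊓ T : Subgroup G) := Nat.card_pos
    have h4 : Nat.card (T.map (QuotientGroup.mk' N)) < 4 := by
      rw [← hcard] at hlt
      exact Nat.lt_of_mul_lt_mul_right hlt
    obtain ⟨k, hk⟩ := (hT.2.1.map (QuotientGroup.mk' N)).exists_card_eq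
    rw [hk] at h4 ⊢
    rcases k with _ | _ | k
    · norm_num
    · norm_num
    · exfalso
      have : 4 ≤ 2 ^ (k + 2) := le_trans (by norm_num) (Nat.pow_le_pow_right two_pos (show 2 ≤ k + 2 by omega))
      exact absurd this (not_le.2 (by simpa [Nat.add_assoc] using h4))
  · obtain ⟨hEN, hFN, -⟩ := p.mem_normal hR hT hUT hN hNb
    have hUT' : T = U := (p.syl_top_of_four rfl hni).eq_of_le hT hUT ▸ rfl
    have hle : T ≤ N := by rw [hUT', ← p.sup_eq]; exact sup_le hEN hFN
    have : T.map (QuotientGroup.mk' N) = ⊥ := by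
      rw [Subgroup.map_eq_bot_iff, QuotientGroup.ker_mk']; exact hle
    rw [this, Subgroup.card_bot]
    norm_num

end CfsgLib.CIT
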