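import Cfsg.Agent.Lib.CIT.Pair
import Cfsg.Agent.Lib.Spor.PlaneFour.M21

/-!
# A pair of offending radicals with parameter four gives the projective plane of order four

The conjugates of the two radicals are the 21 points and the 21 lines; a simple group then is
`PSL₃(4)`.
-/

set_option autoImplicit false
set_option linter.unusedSectionVars false
set_option linter.style.haveILetI false

namespace CfsgLib.CIT

open Subgroup
open scoped Pointwise LinearAlgebra.Projectivization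

universe u

variable {G : Type u} [Group G] [Finite G]

local notation "N[" X "]" => normalizer ((X : Subgroup G) : Set G)

theorem NoCore.ne_top {X : Subgroup G} (hO : NoCore G) (hX : IsPGroup 2 X) (h : X ≠ ⊥) : N[X] ≠ ⊤ :=
  hO X hX h

theorem Off.cj {E : Subgroup G} {q : ℕ} (d : Off E q) (hO : NoCore G) (g : G) :
    Off (CfsgLib.CIT.cj g E) q := by
  obtain ⟨U, hU, -⟩ := exists_syl d.sp.rad.two (le_normalizer : E ≤ _)
  have hrad := d.sp.rad.cj g
  have hUg : IsSyl N[CfsgLib.CIT.cj g E] (CfsgLib.CIT.cj g U) := by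
    have h1 := isSyl_cj hU g
    rwa [cj_normalizer] at h1
  obtain ⟨q', d'⟩ := off_of_radical d.sp.cit hrad
    (properTI d.sp.cit _ (hO _ hrad.two hrad.ne) fun e => hrad.ne (hrad.core.symm.trans e)) hUg
    (fun hle => d.not_jAb_le hU (by
      rw [← cj_jAb] at hle
      have := cj_mono (g := g⁻¹) hle
      rwa [cj_mul, cj_mul, inv_mul_cancel, cj_one, cj_one] at this))
  have h := d'.card
  rw [card_cj, d.card] at h
  exact (Nat.mul_self_inj.1 h).symm ▸ d'

namespace Pair

variable {E F U : Subgroup G}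

theorem cj {q : ℕ} (p : Pair E F U q) (hO : NoCore G) (g : G) :
    Pair (CfsgLib.CIT.cj g E) (CfsgLib.CIT.cj g F) (CfsgLib.CIT.cj g U) q := by
  refine ⟨p.offE.cj hO g, p.offF.cj hO g, fun e => p.ne ?_, ?_, ?_⟩
  · have h := congrArg (CfsgLib.CIT.cj g⁻¹) e
    simpa [cj_mul, cj_one] using h
  · have h := isSyl_cj p.sylE g
    rwa [cj_normalizer] at h
  · have h := isSyl_cj p.sylF g
    rwa [cj_normalizer] at h

variable (p : Pair E F U 4) (hT : IsSyl ⊤ U)
include p hT

/-- The two radicals are not conjugate. -/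
theorem not_conj (g : G) : CfsgLib.CIT.cj g E ≠ F := by
  intro hg
  haveI : Fact (Nat.Prime 2) := ⟨Nat.prime_two⟩
  have hUg : IsSyl N[F] (CfsgLib.CIT.cj g U) := by
    have h := isSyl_cj p.sylE g
    rwa [cj_normalizer, hg] at h
  obtain ⟨k, hk, hkU⟩ := hUg.exists_conj p.sylF
  rw [cj_mul] at hkU
  set x := k * g with hx
  have hxE : CfsgLib.CIT.cj x E = F := by rw [hx, ← cj_mul, hg, cj_eq_self_iff.2 hk]
  have hxN : x ∈ N[U] := cj_eq_self_iff.1 hkU
  have hxF : CfsgLib.CIT.cj x F = E := by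
    rcases p.cj_cases_normalizer hxN with ⟨h1, -⟩ | ⟨-, h2⟩
    · exact absurd (h1.symm.trans hxE) p.ne
    · exact h2
  have hpow : ∀ n : ℕ, (Even n → CfsgLib.CIT.cj (x ^ n) E = E) ∧ (Odd n → CfsgLib.CIT.cj (x ^ n) E = F) := by
    intro n
    induction n with
    | zero => exact ⟨fun _ => by rw [pow_zero, cj_one], fun h => absurd h (by decide)⟩
    | succ n ih =>
      refine ⟨fun h => ?_, fun h => ?_⟩
      · rw [pow_succ', ← cj_mul, ih.2 (by simpa [parity_simps] using h), hxF]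
      · rw [pow_succ', ← cj_mul, ih.1 (by simpa [parity_simps] using h), hxE]
  obtain ⟨a, m, hm, hord⟩ := Nat.exists_eq_two_pow_mul_odd (orderOf_pos x).ne'
  have hy : IsPGroup 2 (zpowers (x ^ m)) := IsPGroup.of_card (n := a) (by
    rw [Nat.card_zpowers, orderOf_pow_of_dvd hm.pos.ne' (hord ▸ dvd_mul_left m _), hord,
      Nat.mul_div_cancel _ hm.pos])
  have hyU : x ^ m ∈ U := by
    have h1 : IsPGroup 2 (U ⊔ zpowers (x ^ m) : Subgroup G) :=
      hT.2.1.to_sup_of_normal_left' hy (zpowers_le.2 ((N[U]).pow_mem hxN m))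
    exact (hT.2.2 _ le_sup_left le_top h1).le (le_sup_right (a := U) (mem_zpowers _))
  exact p.ne ((cj_eq_self_iff.2 (p.sylE.1 hyU)).symm.trans ((hpow m).2 hm))

theorem centralizer_eq {z : G} (hz : z ∈ E ⊓ F) (hz1 : z ≠ 1) : centralizer ({z} : Set G) = U :=
  hT.2.2 _ (fun _ hx => mem_centralizer_singleton_iff.2 (p.comm_inf hz hx)) le_top
    (p.cit.isPGroup_centralizer_mem p.offE.sp.rad.two hz.1 hz1)

theorem exists_central : ∃ z ∈ E ⊓ F, z ≠ 1 := by
  obtain ⟨⟨z, hz⟩, hz1⟩ := ne_bot_iff_exists_ne_one.1 (show E ⊓ F ≠ ⊥ from fun e => by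
    have h := p.card_inf
    rw [e, Subgroup.card_bot] at h
    omega)
  exact ⟨z, hz, fun e => hz1 (Subtype.ext e)⟩

/-- All involutions are conjugate. -/
theorem invol_conj_to {z₀ z : G} (hz₀ : z₀ ∈ E ⊓ F) (hz₀1 : z₀ ≠ 1) (hz : orderOf z = 2) :
    ∃ g : G, g * z₀ * g⁻¹ = z := by
  obtain ⟨S, hS, hzS⟩ := exists_syl_top (Q := zpowers z)
    (IsPGroup.of_card (p := 2) (n := 1) (by rw [Nat.card_zpowers, hz, pow_one]))
  obtain ⟨g, -, rfl⟩ := hT.exists_conj hS
  have hzU : g⁻¹ * z * g ∈ U := mem_cj.1 (hzS (mem_zpowers z))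
  have h1 : g⁻¹ * z * g ≠ 1 := fun e => CfsgLib.Invol.invol_ne_one hz (by
    have := congrArg (fun w => g * w * g⁻¹) e
    simpa [mul_assoc] using this)
  have h2 : g⁻¹ * z * g * (g⁻¹ * z * g) = 1 := by
    rw [show g⁻¹ * z * g * (g⁻¹ * z * g) = g⁻¹ * (z * z) * g by group, CfsgLib.Invol.invol_mul_self hz]
    group
  rcases p.sq_one_mem hzU h2 with hE | hF
  · obtain ⟨a, -, ha⟩ := p.offE.exists_conj_eq hz₀.1 hz₀1 hE h1
    exact ⟨g * a, by rw [show g * a * z₀ * (g * a)⁻¹ = g * (a * z₀ * a⁻¹) * g⁻¹ by group, ha]; group⟩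
  · obtain ⟨a, -, ha⟩ := p.offF.exists_conj_eq hz₀.2 hz₀1 hF h1
    exact ⟨g * a, by rw [show g * a * z₀ * (g * a)⁻¹ = g * (a * z₀ * a⁻¹) * g⁻¹ by group, ha]; group⟩

/-- Each involution lies in exactly one conjugate of each radical. -/
theorem invol_unique {z : G} (hz : orderOf z = 2) :
    ∃ g : G, z ∈ CfsgLib.CIT.cj g E ⊓ CfsgLib.CIT.cj g F ∧
      (∀ h : G, z ∈ CfsgLib.CIT.cj h E → CfsgLib.CIT.cj h E = CfsgLib.CIT.cj g E) ∧
      (∀ h : G, z ∈ CfsgLib.CIT.cj h F → CfsgLib.CIT.cj h F = CfsgLib.CIT.cj g F) := by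
  obtain ⟨z₀, hz₀, hz₀1⟩ := p.exists_central hT
  obtain ⟨g, rfl⟩ := p.invol_conj_to hT hz₀ hz₀1 hz
  have hgen : ∀ (X Y : Subgroup G) (h : G), Pair X Y U 4 → z₀ ∈ X ⊓ Y →
      g * z₀ * g⁻¹ ∈ CfsgLib.CIT.cj h X → CfsgLib.CIT.cj h X = CfsgLib.CIT.cj g X := by
    intro X Y h pX hzX hmem
    have hle : CfsgLib.CIT.cj (g⁻¹ * h) X ≤ U := by
      have hz₁ : z₀ ∈ CfsgLib.CIT.cj (g⁻¹ * h) X := by
        rw [← cj_mul, mem_cj, inv_inv]; exact hmem
      rw [← pX.centralizer_eq hT hzX hz₀1]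
      intro x hx
      obtain ⟨a, ha, rfl⟩ := hx
      obtain ⟨b, hb, hb'⟩ := hz₁
      refine mem_centralizer_singleton_iff.2 ?_
      rw [← hb', ← map_mul, ← map_mul, pX.offE.sp.comm a ha b hb]
    rcases pX.cj_cases hle with h1 | h1
    · have h2 := congrArg (CfsgLib.CIT.cj g) h1
      rwa [cj_mul, mul_inv_cancel_left] at h2
    · exact absurd h1 (pX.not_conj hT _)
  exact ⟨g, ⟨conj_mem_cj.2 hz₀.1, conj_mem_cj.2 hz₀.2⟩, fun h => hgen E F h p hz₀,
    fun h => hgen F E h p.symm ⟨hz₀.2, hz₀.1⟩⟩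

omit p hT in
/-- Incidence of a point and a line. -/
def Inc (E F P L : Subgroup G) : Prop := ∃ g : G, CfsgLib.CIT.cj g E = P ∧ CfsgLib.CIT.cj g F = L

omit p hT in
theorem inc_cj {P L : Subgroup G} (h : Inc E F P L) (x : G) :
    Inc E F (CfsgLib.CIT.cj x P) (CfsgLib.CIT.cj x L) := by
  obtain ⟨g, hP, hL⟩ := h
  exact ⟨x * g, by rw [← cj_mul, hP], by rw [← cj_mul, hL]⟩

omit p hT in
theorem inc_symm {P L : Subgroup G} (h : Inc E F P L) : Inc F E L P := by
  obtain ⟨g, hP, hL⟩ := h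
  exact ⟨g, hL, hP⟩

/-- An involution normalizing a point has its line through the point. -/
theorem fix_point {z : G} (hz : orderOf z = 2) {P : Subgroup G} (hP : ∃ g, CfsgLib.CIT.cj g E = P)
    (hzN : z ∈ normalizer (P : Set G)) : ∀ h : G, z ∈ CfsgLib.CIT.cj h F → Inc E F P (CfsgLib.CIT.cj h F) := by
  intro h hzh
  obtain ⟨g, rfl⟩ := hP
  obtain ⟨W, hW, hzW⟩ := exists_syl (Q := zpowers z)
    (IsPGroup.of_card (p := 2) (n := 1) (by rw [Nat.card_zpowers, hz, pow_one])) (zpowers_le.2 hzN)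
  have hUg : IsSyl N[CfsgLib.CIT.cj g E] (CfsgLib.CIT.cj g U) := by
    have h1 := isSyl_cj p.sylE g
    rwa [cj_normalizer] at h1
  obtain ⟨m, hm, rfl⟩ := hUg.exists_conj hW
  have hzU : (m * g)⁻¹ * z * (m * g) ∈ U := by
    have h1 := hzW (mem_zpowers z)
    rwa [cj_mul, mem_cj] at h1
  have hP' : CfsgLib.CIT.cj (m * g) E = CfsgLib.CIT.cj g E := by rw [← cj_mul, cj_eq_self_iff.2 hm]
  have h2 : (m * g)⁻¹ * z * (m * g) * ((m * g)⁻¹ * z * (m * g)) = 1 := by
    rw [show (m * g)⁻¹ * z * (m * g) * ((m * g)⁻¹ * z * (m * g)) = (m * g)⁻¹ * (z * z) * (m * g) by group,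
      CfsgLib.Invol.invol_mul_self hz]
    group
  obtain ⟨g₁, hg₁, hu1, hu2⟩ := p.invol_unique hT hz
  rw [hu2 h hzh]
  rcases p.sq_one_mem hzU h2 with hE | hF
  · refine ⟨g₁, ?_, rfl⟩
    rw [← hP']
    exact (hu1 (m * g) (mem_cj.2 hE)).symm
  · exact ⟨m * g, hP', hu2 (m * g) (mem_cj.2 hF)⟩

omit p hT in
theorem le_normalizer_of_inc (p : Pair E F U 4) {P L : Subgroup G} (h : Inc E F P L) :
    L ≤ normalizer (P : Set G) ∧ P ≤ normalizer (L : Set G) := by
  obtain ⟨g, rfl, rfl⟩ := h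
  exact ⟨(cj_mono (p.leF.trans p.sylE.1)).trans (cj_normalizer g E).le,
    (cj_mono (p.leE.trans p.sylF.1)).trans (cj_normalizer g F).le⟩

theorem card_lines : {L : Subgroup G | Inc E F E L}.ncard = 5 := by
  classical
  rw [← Nat.card_coe_set_eq]
  refine Eq.trans ?_ p.offE.card_syl
  refine Nat.card_congr (Equiv.ofBijective (fun L => (⟨L.1 ⊔ E, ?_⟩ : {W : Subgroup G // IsSyl N[E] W})) ⟨?_, ?_⟩)
  · obtain ⟨g, hg, hgL⟩ := L.2
    rw [← hgL]
    conv => enter [2, 2]; rw [← hg]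
    rw [sup_comm, CfsgLib.CIT.cj, CfsgLib.CIT.cj, ← Subgroup.map_sup, p.sup_eq]
    exact p.offE.sp.move p.sylE (cj_eq_self_iff.1 hg)
  · intro L L' h
    obtain ⟨g, hg, hgL⟩ := L.2
    obtain ⟨g', hg', hgL'⟩ := L'.2
    have hW : ∀ (g : G) (L : Subgroup G), CfsgLib.CIT.cj g E = E → CfsgLib.CIT.cj g F = L →
        L ⊔ E = CfsgLib.CIT.cj g U := fun g L hg hgL => by
      rw [← hgL]
      conv_lhs => arg 2; rw [← hg]
      rw [sup_comm, CfsgLib.CIT.cj, CfsgLib.CIT.cj, ← Subgroup.map_sup, p.sup_eq]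
      rfl
    have h' : L.1 ⊔ E = L'.1 ⊔ E := congrArg Subtype.val h
    rw [hW g _ hg hgL, hW g' _ hg' hgL'] at h'
    have hcU : CfsgLib.CIT.cj (g⁻¹ * g') U = U := by rw [← cj_mul, ← h', cj_mul, inv_mul_cancel, cj_one]
    have hF := cj_eq_self_iff.2 (p.mem_normalizerF (cj_eq_self_iff.1 hcU)
      ((N[E]).mul_mem ((N[E]).inv_mem (cj_eq_self_iff.1 hg)) (cj_eq_self_iff.1 hg')))
    refine Subtype.ext ?_
    rw [← hgL, ← hgL']
    conv_lhs => rw [← hF, cj_mul, mul_inv_cancel_left]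
  · rintro ⟨W, hW⟩
    obtain ⟨g, hg, rfl⟩ := p.sylE.exists_conj hW
    refine ⟨⟨CfsgLib.CIT.cj g F, g, cj_eq_self_iff.2 hg, rfl⟩, Subtype.ext ?_⟩
    show CfsgLib.CIT.cj g F ⊔ E = CfsgLib.CIT.cj g U
    conv_lhs => arg 2; rw [← cj_eq_self_iff.2 hg]
    rw [sup_comm, CfsgLib.CIT.cj, CfsgLib.CIT.cj, ← Subgroup.map_sup, p.sup_eq]
    rfl

theorem card_lines_at {P : Subgroup G} (hP : ∃ g, CfsgLib.CIT.cj g E = P) :
    {L : Subgroup G | Inc E F P L}.ncard = 5 := by
  obtain ⟨g, rfl⟩ := hP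
  have h : {L : Subgroup G | Inc E F (CfsgLib.CIT.cj g E) L} =
      CfsgLib.CIT.cj g '' {L : Subgroup G | Inc E F E L} := by
    ext L
    refine ⟨fun hL => ⟨CfsgLib.CIT.cj g⁻¹ L, ?_, by rw [cj_mul, mul_inv_cancel, cj_one]⟩, ?_⟩
    · have := inc_cj hL g⁻¹
      rwa [cj_mul, inv_mul_cancel, cj_one] at this
    · rintro ⟨L, hL, rfl⟩
      exact inc_cj hL g
  rw [h, Set.ncard_image_of_injective _ fun X Y e => ?_, p.card_lines hT]
  have := congrArg (CfsgLib.CIT.cj g⁻¹) e
  simpa [cj_mul, cj_one] using this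

/-- Two points lie on at most one line. -/
theorem line_unique {P Q L L' : Subgroup G} (hne : P ≠ Q) (h1 : Inc E F P L) (h2 : Inc E F Q L)
    (h3 : Inc E F P L') (h4 : Inc E F Q L') : L = L' := by
  by_contra hLL
  obtain ⟨g, hgP, hgL⟩ := h1
  obtain ⟨g', hgP', hgL'⟩ := h3
  have hinvol : ∀ x ∈ P, x ≠ 1 → orderOf x = 2 := fun x hx hx1 => by
    rw [← hgP] at hx
    obtain ⟨e, he, rfl⟩ := hx
    exact orderOf_eq_prime (by rw [pow_two, ← map_mul, p.offE.sp.sq e he, map_one]) hx1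
  have hLne : ∀ z ∈ P ⊓ L, z ∈ P ⊓ L' → z = 1 := fun z hz hz' => by
    by_contra hz1
    obtain ⟨g₁, -, -, hu⟩ := p.invol_unique hT (hinvol z hz.1 hz1)
    have e1 := hu g (by rw [hgL]; exact hz.2)
    have e2 := hu g' (by rw [hgL']; exact hz'.2)
    rw [hgL] at e1
    rw [hgL'] at e2
    exact hLL (e1.trans e2.symm)
  have hcard : ∀ (g : G) (L : Subgroup G), CfsgLib.CIT.cj g E = P → CfsgLib.CIT.cj g F = L →
      Nat.card (P ⊓ L : Subgroup G) = 4 := by
    rintro g L rfl rfl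
    rw [CfsgLib.CIT.cj, CfsgLib.CIT.cj, ← Subgroup.map_inf _ _ _ (MulAut.conj g).injective]
    exact (card_cj g (E ⊓ F)).trans p.card_inf
  have hPQ : P ≤ normalizer (Q : Set G) := by
    have hle : (P ⊓ L) ⊔ (P ⊓ L') = P := by
      refine eq_of_le_of_card_ge (sup_le inf_le_left inf_le_left) ?_
      have h := CfsgLib.Fusion.card_mul_le_sup_inf (P ⊓ L) (P ⊓ L')
      rw [hcard g L hgP hgL, hcard g' L' hgP' hgL', show (P ⊓ L) ⊓ (P ⊓ L') = ⊥ from
        (eq_bot_iff_forall _).2 fun z hz => hLne z hz.1 hz.2, Subgroup.card_bot, mul_one] at h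
      rw [← hgP, card_cj, p.offE.card, hgP]
      exact h
    rw [← hle]
    exact sup_le (inf_le_right.trans (p.le_normalizer_of_inc h2).1)
      (inf_le_right.trans (p.le_normalizer_of_inc h4).1)
  obtain ⟨k, hk, -⟩ := h2
  have hdis : P ⊓ Q = ⊥ := (eq_bot_iff_forall _).2 fun z hz => by
    by_contra hz1
    obtain ⟨g₁, -, hu, -⟩ := p.invol_unique hT (hinvol z hz.1 hz1)
    have e1 := hu g (by rw [hgP]; exact hz.1)
    have e2 := hu k (by rw [hk]; exact hz.2)
    rw [hgP] at e1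
    rw [hk] at e2
    exact hne (e1.trans e2.symm)
  haveI : Fact (Nat.Prime 2) := ⟨Nat.prime_two⟩
  have hp : IsPGroup 2 P := by rw [← hgP]; exact isPGroup_cj p.offE.sp.rad.two
  have hq : IsPGroup 2 Q := by rw [← hk]; exact isPGroup_cj p.offE.sp.rad.two
  have hsup : IsPGroup 2 (Q ⊔ P : Subgroup G) := hq.to_sup_of_normal_left' hp hPQ
  obtain ⟨S, hS, hleS⟩ := exists_syl_top hsup
  obtain ⟨m, -, rfl⟩ := hT.exists_conj hS
  have h := CfsgLib.Fusion.card_mul_le_sup_inf Q P
  rw [inf_comm, hdis, Subgroup.card_bot, mul_one] at h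
  have h' := h.trans (card_le_of_le hleS)
  rw [card_cj, (p.offE.syl U p.sylE).1] at h'
  have hQc : Nat.card Q = 16 := by rw [← hk, card_cj, p.offE.card]
  have hPc : Nat.card P = 16 := by rw [← hgP, card_cj, p.offE.card]
  rw [hQc, hPc] at h'
  omega

omit p hT in
/-- Elements of order three and five in the normalizer of an offending radical do not commute. -/
theorem not_commute_three_five (d : Off E 4) {x y : G} (hx : x ∈ normalizer (E : Set G))
    (hy : y ∈ normalizer (E : Set G)) (hxo : orderOf x = 3) (hyo : orderOf y = 5) : x * y ≠ y * x := by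
  classical
  intro hxy
  haveI := Fact.mk Nat.prime_three
  haveI := Fact.mk (show Nat.Prime 5 by norm_num)
  set Y := {W : Subgroup G // IsSyl N[E] W}
  haveI := Fintype.ofFinite Y
  let act : N[E] →* Equiv.Perm Y :=
    { toFun := fun g =>
        { toFun := fun W => ⟨CfsgLib.CIT.cj (g : G) W.1, d.sp.move W.2 g.2⟩
          invFun := fun W => ⟨CfsgLib.CIT.cj (g : G)⁻¹ W.1, d.sp.move W.2 ((N[E]).inv_mem g.2)⟩
          left_inv := fun W => Subtype.ext (by simp [cj_mul, cj_one])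
          right_inv := fun W => Subtype.ext (by simp [cj_mul, cj_one]) }
      map_one' := Equiv.ext fun W => Subtype.ext (by simp [cj_one])
      map_mul' := fun g h => Equiv.ext fun W => Subtype.ext (by simp [cj_mul]) }
  have hY : Fintype.card Y = 5 := by rw [← Nat.card_eq_fintype_card, d.card_syl]
  set a := act ⟨x, hx⟩
  set b := act ⟨y, hy⟩
  have ha3 : a ^ 3 = 1 := by
    rw [← map_pow, show (⟨x, hx⟩ : N[E]) ^ 3 = 1 from Subtype.ext (by
      rw [Subgroup.coe_pow, Subgroup.coe_one]; exact hxo ▸ pow_orderOf_eq_one x), map_one]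
  have hb5 : b ^ 5 = 1 := by
    rw [← map_pow, show (⟨y, hy⟩ : N[E]) ^ 5 = 1 from Subtype.ext (by
      rw [Subgroup.coe_pow, Subgroup.coe_one]; exact hyo ▸ pow_orderOf_eq_one y), map_one]
  have hab : a * b = b * a := by
    rw [← map_mul, ← map_mul]
    exact congrArg act (Subtype.ext hxy)
  -- `y` fixes no Sylow subgroup
  have hbfix : ∀ W, b W ≠ W := by
    intro W hW
    obtain ⟨V, hV, hVW⟩ : ∃ V, b V = V ∧ V ≠ W := by
      by_contra hno
      push Not at hno
      have h1 : Fintype.card {V // b V = V} % 5 = Fintype.card Y % 5 := by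
        have hfix := Equiv.Perm.card_fixedPoints_modEq (p := 5) (n := 1) (f := (⇑b : Function.End Y)) (by
          rw [pow_one]
          exact (Equiv.Perm.coe_pow b 5).symm.trans (by rw [hb5]; rfl))
        refine Eq.trans ?_ hfix.symm
        rw [← Nat.card_eq_fintype_card, ← Nat.card_eq_fintype_card]
        rfl
      rw [hY, show Fintype.card {V // b V = V} = 1 from
        Fintype.card_eq_one_iff.2 ⟨⟨W, hW⟩, fun V => Subtype.ext (hno V.1 V.2)⟩] at h1
      omega
    have hmem : y ∈ Off.stabPair (E := E) W.1 V.1 :=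
      Off.mem_stabPair.2 ⟨hy, congrArg Subtype.val hW, congrArg Subtype.val hV⟩
    have hdvd := Subgroup.orderOf_dvd_natCard _ hmem
    rw [hyo, d.card_stabPair W.2 V.2 (fun e => hVW (Subtype.ext e)), d.card] at hdvd
    omega
  -- hence the fixed points of `x` are everything
  obtain ⟨W, hW⟩ : ∃ W, a W = W := by
    by_contra hno
    push Not at hno
    have h1 : Fintype.card {V // a V = V} % 3 = Fintype.card Y % 3 := by
      have hfix := Equiv.Perm.card_fixedPoints_modEq (p := 3) (n := 1) (f := (⇑a : Function.End Y)) (by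
        rw [pow_one]
        exact (Equiv.Perm.coe_pow a 3).symm.trans (by rw [ha3]; rfl))
      refine Eq.trans ?_ hfix.symm
      rw [← Nat.card_eq_fintype_card, ← Nat.card_eq_fintype_card]
      rfl
    rw [hY, show Fintype.card {V // a V = V} = 0 from
      Fintype.card_eq_zero_iff.2 ⟨fun V => hno V.1 V.2⟩] at h1
    omega
  set W' := b W
  have hW' : a W' = W' := by
    show a (b W) = b W
    rw [← Equiv.Perm.mul_apply, hab, Equiv.Perm.mul_apply, hW]
  set W'' := b W'
  have hW'' : a W'' = W'' := by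
    show a (b W') = b W'
    rw [← Equiv.Perm.mul_apply, hab, Equiv.Perm.mul_apply, hW']
  have h1 : W' ≠ W := hbfix W
  have h2 : W'' ≠ W' := hbfix W'
  have h3 : W'' ≠ W := by
    intro h3
    refine hbfix W ?_
    have h4 : (b ^ 4) W = W := by
      rw [show (4 : ℕ) = 2 + 2 from rfl, pow_add, Equiv.Perm.mul_apply, pow_two, Equiv.Perm.mul_apply]
      show b (b (b (b W))) = W
      rw [show b (b W) = W from h3, show b (b W) = W from h3]
    calc b W = b ((b ^ 4) W) := by rw [h4]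
      _ = (b ^ 5) W := by rw [← Equiv.Perm.mul_apply, ← pow_succ']
      _ = W := by rw [hb5]; rfl
  obtain ⟨u, hu⟩ := d.sp.trans d.card d.card_syl d.hW W.2 W'.2 W''.2 (fun e => h1 (Subtype.ext e))
    (fun e => h3 (Subtype.ext e))
  rcases hu with ⟨huW, huE, hcj⟩ | ⟨e, -⟩
  swap
  · exact h2 (Subtype.ext e.symm)
  -- `x` commutes with `u` modulo `E`
  have hxW : CfsgLib.CIT.cj x W.1 = W.1 := congrArg Subtype.val hW
  have hxW' : CfsgLib.CIT.cj x W'.1 = W'.1 := congrArg Subtype.val hW'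
  have hxW'' : CfsgLib.CIT.cj x W''.1 = W''.1 := congrArg Subtype.val hW''
  have hxu : x * u * x⁻¹ ∈ W.1 := by
    have h := (conj_mem_cj (g := x)).2 huW
    rwa [hxW] at h
  have hdiff : u⁻¹ * (x * u * x⁻¹) ∈ E := by
    refine d.sp.semireg W.2 W'.2 (fun e => h1 (Subtype.ext e)) (W.1.mul_mem (W.1.inv_mem huW) hxu) ?_
    have hxi : CfsgLib.CIT.cj x⁻¹ W'.1 = W'.1 := cj_eq_self_iff.2
      (Subgroup.inv_mem _ (cj_eq_self_iff.1 hxW'))
    rw [← cj_mul, ← cj_mul, ← cj_mul, hxi, hcj, hxW'', ← hcj, cj_mul, inv_mul_cancel, cj_one]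
  obtain ⟨v, hv, hvu⟩ : ∃ v ∈ E, u * v ≠ v * u := by
    by_contra hall
    push Not at hall
    exact huE (d.sp.rad.centralizer_le d.sp.cit (mem_centralizer_iff.2 fun e he => (hall e he).symm))
  have hrel := d.comm_relation W.2 hx hxW huW hv
  have huN : u ∈ N[E] := W.2.1 huW
  set c := v * (u * v * u⁻¹) with hc
  have hlhs : v * ((x * u * x⁻¹) * v * (x * u * x⁻¹)⁻¹) = c := by
    rw [hc, show x * u * x⁻¹ = u * (u⁻¹ * (x * u * x⁻¹)) by group]
    congr 1
    set e := u⁻¹ * (x * u * x⁻¹) with he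
    calc u * e * v * (u * e)⁻¹ = u * (e * v * e⁻¹) * u⁻¹ := by group
      _ = u * v * u⁻¹ := by rw [d.sp.cen v hv e hdiff, mul_inv_cancel_right]
  rw [hlhs] at hrel
  have hcE : c ∈ E := E.mul_mem hv (normalizer_conj_mem huN hv)
  have hc1 : c ≠ 1 := fun h0 => hvu (by
    have h6 := eq_inv_of_mul_eq_one_right (hc.symm.trans h0)
    rw [inv_eq_of_mul_eq_one_right (d.sp.sq v hv)] at h6
    exact mul_inv_eq_iff_eq_mul.1 h6)
  have hcomm : x * x * c = c * (x * x) := (mul_inv_eq_iff_eq_mul.1 hrel.symm)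
  have hxx := d.sp.cit.comm_two d.sp.rad.two hcE hc1 (y := x * x)
    (by rw [← pow_two]; exact (hxo ▸ (by decide) : Odd (orderOf x)).of_dvd_nat (orderOf_pow_dvd 2)) hcomm
  have : orderOf x ∣ 2 := orderOf_dvd_of_pow_eq_one (by rw [pow_two]; exact hxx)
  rw [hxo] at this
  norm_num at this

/-- Involutions moving the point to a given collinear point. -/
theorem near_le (hO : NoCore G) {Q L : Subgroup G} (hQ : Q ≠ E) (hEL : Inc E F E L) (hQL : Inc E F Q L) :
    {u : G | orderOf u = 2 ∧ CfsgLib.CIT.cj u E = Q}.ncard ≤ 12 := by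
  classical
  haveI : Fact (Nat.Prime 2) := ⟨Nat.prime_two⟩
  obtain ⟨g, hgE, hgL⟩ := hEL
  obtain ⟨g', hgQ, hgL'⟩ := hQL
  have hLE : L ≤ N[E] := (p.le_normalizer_of_inc ⟨g, hgE, hgL⟩).1
  have hLQ : L ≤ N[Q] := (p.le_normalizer_of_inc ⟨g', hgQ, hgL'⟩).1
  -- the data of the line
  obtain ⟨W, hW, hsupW⟩ : ∃ W, IsSyl N[L] W ∧ E ⊔ L = W := by
    refine ⟨CfsgLib.CIT.cj g U, ?_, ?_⟩
    · rw [← hgL]
      have h := isSyl_cj p.sylF g
      rwa [cj_normalizer] at h
    · rw [← hgE, ← hgL, CfsgLib.CIT.cj, CfsgLib.CIT.cj, ← Subgroup.map_sup, p.sup_eq]; rfl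
  obtain ⟨W', hW', hsupW'⟩ : ∃ W', IsSyl N[L] W' ∧ Q ⊔ L = W' := by
    refine ⟨CfsgLib.CIT.cj g' U, ?_, ?_⟩
    · rw [← hgL']
      have h := isSyl_cj p.sylF g'
      rwa [cj_normalizer] at h
    · rw [← hgQ, ← hgL', CfsgLib.CIT.cj, CfsgLib.CIT.cj, ← Subgroup.map_sup, p.sup_eq]; rfl
  have hne : W' ≠ W := by
    intro e
    have hQW : CfsgLib.CIT.cj (g⁻¹ * g') E ≤ U := by
      rw [← cj_mul, hgQ, cj_le_iff, inv_inv]
      refine le_sup_left.trans ((hsupW'.trans e).trans hsupW.symm).le |>.trans ?_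
      rw [← hgE, ← hgL, CfsgLib.CIT.cj, CfsgLib.CIT.cj, ← Subgroup.map_sup, p.sup_eq]
      exact le_rfl
    rcases p.cj_cases hQW with h | h
    · exact hQ (by
        have h2 := congrArg (CfsgLib.CIT.cj g) h
        rwa [cj_mul, mul_inv_cancel_left, hgQ, hgE] at h2)
    · exact p.not_conj hT _ h
  have hLcard : Nat.card L = 16 := by rw [← hgL, card_cj, p.offF.card]
  set S := {u : G | orderOf u = 2 ∧ CfsgLib.CIT.cj u E = Q}
  rcases S.eq_empty_or_nonempty with hS0 | ⟨u₀, hu₀⟩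
  · rw [hS0, Set.ncard_empty]; norm_num
  -- every element of `S` swaps the two points and fixes the line
  have hswap : ∀ u ∈ S, CfsgLib.CIT.cj u Q = E ∧ CfsgLib.CIT.cj u L = L := by
    rintro u ⟨hu, huE⟩
    have huQ : CfsgLib.CIT.cj u Q = E := by
      rw [← huE, cj_mul, CfsgLib.Invol.invol_mul_self hu, cj_one]
    refine ⟨huQ, (p.line_unique hT hQ.symm ⟨g, hgE, hgL⟩ ⟨g', hgQ, hgL'⟩ ?_ ?_).symm⟩
    · have h := inc_cj (⟨g', hgQ, hgL'⟩ : Inc E F Q L) u
      rwa [huQ] at h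
    · have h := inc_cj (⟨g, hgE, hgL⟩ : Inc E F E L) u
      rwa [huE] at h
  obtain ⟨hu₀Q, hu₀L⟩ := hswap u₀ hu₀
  have hdL : Off L 4 := by
    rw [← hgL]; exact p.offF.cj hO g
  have hstab : ∀ u ∈ S, u * u₀ ∈ Off.stabPair (E := L) W W' := by
    intro u hu
    obtain ⟨huQ, huL⟩ := hswap u hu
    have e1 : CfsgLib.CIT.cj (u * u₀) E = E := by rw [← cj_mul, hu₀.2, huQ]
    have e2 : CfsgLib.CIT.cj (u * u₀) Q = Q := by rw [← cj_mul, hu₀Q, hu.2]
    have e3 : CfsgLib.CIT.cj (u * u₀) L = L := by rw [← cj_mul, hu₀L, huL]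
    refine Off.mem_stabPair.2 ⟨cj_eq_self_iff.1 e3, ?_, ?_⟩
    · rw [← hsupW, CfsgLib.CIT.cj, Subgroup.map_sup]
      exact congrArg₂ (· ⊔ ·) e1 e3
    · rw [← hsupW', CfsgLib.CIT.cj, Subgroup.map_sup]
      exact congrArg₂ (· ⊔ ·) e2 e3
  set K := Off.stabPair (E := L) W W'
  have hK : Nat.card K = 48 := by rw [hdL.card_stabPair hW hW' hne, hLcard]
  have hLK : L ≤ K := fun l hl => Off.mem_stabPair.2 ⟨le_normalizer hl,
    cj_eq_self_iff.2 (le_normalizer (hsupW ▸ le_sup_right (a := E) hl)),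
    cj_eq_self_iff.2 (le_normalizer (hsupW' ▸ le_sup_right (a := Q) hl))⟩
  have hC : Nat.card (K ⧸ L.subgroupOf K) = 3 := by
    have h := Subgroup.card_eq_card_quotient_mul_card_subgroup (L.subgroupOf K)
    rw [hK, Nat.card_congr (subgroupOfEquivOfLe hLK).toEquiv, hLcard] at h
    omega
  haveI : Fintype S := Fintype.ofFinite _
  haveI : Fintype (K ⧸ L.subgroupOf K) := Fintype.ofFinite _
  let f : S → K ⧸ L.subgroupOf K := fun u =>
    QuotientGroup.mk ⟨(u : G) * u₀, hstab u u.2⟩⁻¹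
  have hfib : ∀ c, (Finset.univ.filter fun u => f u = c).card ≤ 4 := by
    intro c
    rcases (Finset.univ.filter fun u => f u = c).eq_empty_or_nonempty with h0 | ⟨v, hv⟩
    · rw [h0]; simp
    rw [Finset.mem_filter] at hv
    obtain ⟨⟨hvo, hvE⟩, hvv⟩ := (⟨v.2, hv.2⟩ : (v : G) ∈ S ∧ f v = c)
    -- the fixed points of `v` on the line
    have hvL : (v : G) ∈ N[L] := cj_eq_self_iff.1 (hswap _ v.2).2
    obtain ⟨V, hV, hvV⟩ := exists_syl (Q := zpowers (v : G))
      (IsPGroup.of_card (p := 2) (n := 1) (by rw [Nat.card_zpowers, hvo, pow_one])) (zpowers_le.2 hvL)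
    have hvnL : (v : G) ∉ L := fun h => hQ (hvE.symm.trans (cj_eq_self_iff.2 (hLE h)))
    have hfix : Nat.card (fixOne L (v : G)) = 4 := by
      rw [(hdL.syl V hV).2.2 _ (hvV (mem_zpowers _)) hvnL]
      exact (hdL.syl V hV).2.1
    have hl : ∀ u ∈ Finset.univ.filter (fun u => f u = c), (u : G) * (v : G) ∈ fixOne L (v : G) := by
      intro u hu
      rw [Finset.mem_filter] at hu
      have h1 := QuotientGroup.eq.1 (hu.2.trans hv.2.symm)
      rw [mem_subgroupOf] at h1
      simp only [inv_inv, Subgroup.coe_mul, Subgroup.coe_inv] at h1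
      rw [show (u : G) * u₀ * ((v : G) * u₀)⁻¹ = u * (v : G)⁻¹ by group, CfsgLib.Invol.invol_inv hvo] at h1
      refine mem_fixOne.2 ⟨h1, ?_⟩
      have h2 : ((u : G) * v) * ((u : G) * v) = 1 := hdL.sp.sq _ h1
      have h3 := CfsgLib.Invol.invol_mul_self hvo
      have h4 := CfsgLib.Invol.invol_mul_self u.2.1
      calc (v : G) * (u * v) = (u * u) * (v * (u * v)) := by rw [h4, one_mul]
        _ = (u : G) * ((u * v) * (u * v)) := by group
        _ = u * v * v := by rw [h2, mul_one, mul_assoc, h3, mul_one]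
    rw [← hfix, ← Fintype.card_coe, ← Nat.card_eq_fintype_card]
    exact Nat.card_le_card_of_injective (fun u => (⟨((u.1 : S) : G) * v, hl u.1 u.2⟩ : fixOne L (v : G)))
      fun a b e => Subtype.ext (Subtype.ext (mul_right_cancel (congrArg Subtype.val e)))
  have htot := Finset.card_le_mul_card_image_of_maps_to (f := f) (s := Finset.univ) (t := Finset.univ)
    (fun a _ => Finset.mem_univ _) 4 fun b _ => hfib b
  rw [Finset.card_univ, Finset.card_univ, ← Nat.card_eq_fintype_card (α := K ⧸ L.subgroupOf K), hC] at htot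
  rw [← Nat.card_coe_set_eq, Nat.card_eq_fintype_card]
  exact htot

/-- Involutions moving the point to a non-collinear point. -/
theorem far_le {Q : Subgroup G} (hQ : ∃ g, CfsgLib.CIT.cj g E = Q)
    (hfar : ∀ L, Inc E F E L → ¬ Inc E F Q L) :
    {u : G | orderOf u = 2 ∧ CfsgLib.CIT.cj u E = Q}.ncard ≤ 5 := by
  classical
  set S := {u : G | orderOf u = 2 ∧ CfsgLib.CIT.cj u E = Q}
  rcases S.eq_empty_or_nonempty with hS0 | ⟨u₀, hu₀⟩
  · rw [hS0, Set.ncard_empty]; norm_num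
  set K := N[E] ⊓ N[Q] with hK
  have hnoinv : ∀ z ∈ K, orderOf z ≠ 2 := by
    intro z hz hzo
    obtain ⟨g₁, hg₁, -, -⟩ := p.invol_unique hT hzo
    exact hfar _ (p.fix_point hT hzo ⟨1, cj_one E⟩ hz.1 g₁ hg₁.2) (p.fix_point hT hzo hQ hz.2 g₁ hg₁.2)
  have hodd : Odd (Nat.card K) := by
    rw [← Nat.not_even_iff_odd]
    intro he
    haveI : Fact (Nat.Prime 2) := ⟨Nat.prime_two⟩
    obtain ⟨⟨z, hz⟩, hzo⟩ := exists_prime_orderOf_dvd_card' (G := K) 2 he.two_dvd
    rw [Subgroup.orderOf_mk] at hzo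
    exact hnoinv z hz hzo
  have hdvd : Nat.card K ∣ 15 := by
    have h1 := Subgroup.card_dvd_of_le (show K ≤ N[E] from inf_le_left)
    rw [p.offE.card_normalizer] at h1
    have hc2 : (Nat.card K).Coprime (2 ^ 6) := Nat.Coprime.pow_right _ (Nat.coprime_two_right.2 hodd)
    exact Nat.Coprime.dvd_of_dvd_mul_left hc2 (show Nat.card K ∣ 2 ^ 6 * 15 by norm_num at h1 ⊢; exact h1)
  have hmemK : ∀ u ∈ S, u * u₀ ∈ K := by
    rintro u ⟨hu, huE⟩
    have huQ : CfsgLib.CIT.cj u Q = E := by rw [← huE, cj_mul, CfsgLib.Invol.invol_mul_self hu, cj_one]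
    have hu₀Q : CfsgLib.CIT.cj u₀ Q = E := by
      rw [← hu₀.2, cj_mul, CfsgLib.Invol.invol_mul_self hu₀.1, cj_one]
    exact ⟨cj_eq_self_iff.1 (by rw [← cj_mul, hu₀.2, huQ]), cj_eq_self_iff.1 (by rw [← cj_mul, hu₀Q, huE])⟩
  let f : S → K := fun u => ⟨(u : G) * u₀, hmemK u u.2⟩
  have hinj : Function.Injective f := fun a b e =>
    Subtype.ext (mul_right_cancel (congrArg Subtype.val e))
  have hle : S.ncard ≤ Nat.card K := by
    rw [← Nat.card_coe_set_eq]; exact Nat.card_le_card_of_injective f hinj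
  have hmemdiv := Nat.mem_divisors.2 ⟨hdvd, by norm_num⟩
  rw [show Nat.divisors 15 = {1, 3, 5, 15} by decide] at hmemdiv
  simp only [Finset.mem_insert, Finset.mem_singleton] at hmemdiv
  rcases hmemdiv with h | h | h | h <;> try omega
  by_contra hbig
  -- an element of order three and one of order five
  haveI := Fact.mk Nat.prime_three
  haveI := Fact.mk (show Nat.Prime 5 by norm_num)
  haveI : Finite K := inferInstance
  obtain ⟨⟨x, hx⟩, hxo⟩ := exists_prime_orderOf_dvd_card' (G := K) 3 (by rw [h]; norm_num)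
  obtain ⟨⟨y, hy⟩, hyo⟩ := exists_prime_orderOf_dvd_card' (G := K) 5 (by rw [h]; norm_num)
  rw [Subgroup.orderOf_mk] at hxo hyo
  -- `⟨y⟩` is normal in a group of order fifteen
  have hY : (zpowers (⟨y, hy⟩ : K)).index = 3 := by
    have h1 := (zpowers (⟨y, hy⟩ : K)).card_mul_index
    rw [Nat.card_zpowers, Subgroup.orderOf_mk, hyo, h] at h1
    omega
  haveI hYn : (zpowers (⟨y, hy⟩ : K)).Normal := by
    refine Subgroup.normal_of_index_eq_minFac_card ?_
    rw [hY, h]
    norm_num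
  obtain ⟨i, hi⟩ := mem_zpowers_iff.1 (hYn.conj_mem _ (mem_zpowers (⟨y, hy⟩ : K)) ⟨x, hx⟩)
  have hi' : y ^ i = x * y * x⁻¹ := congrArg Subtype.val hi
  set n := (i % 5).toNat with hn
  have hyn : y ^ n = x * y * x⁻¹ := by
    rw [← hi', ← zpow_natCast, hn, Int.toNat_of_nonneg (Int.emod_nonneg i (by norm_num)),
      show (5 : ℤ) = ((orderOf y : ℕ) : ℤ) by rw [hyo]; rfl, zpow_mod_orderOf]
  have hn5 : n < 5 := by rw [hn]; omega
  have hiter : ∀ m : ℕ, x ^ m * y * (x ^ m)⁻¹ = y ^ (n ^ m) := by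
    intro m
    induction m with
    | zero => simp
    | succ m ih =>
      calc x ^ (m + 1) * y * (x ^ (m + 1))⁻¹ = x * (x ^ m * y * (x ^ m)⁻¹) * x⁻¹ := by group
        _ = (x * y * x⁻¹) ^ (n ^ m) := by rw [ih, conj_pow]
        _ = y ^ (n ^ (m + 1)) := by rw [← hyn, ← pow_mul, pow_succ']
  have h3 := hiter 3
  rw [show x ^ 3 = 1 by rw [← hxo]; exact pow_orderOf_eq_one x, one_mul, inv_one, mul_one] at h3
  have h3' : y ^ (n ^ 3 % 5) = y ^ 1 := by rw [← hyo, pow_mod_orderOf, pow_one]; exact h3.symm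
  have hn1 : n = 1 := by
    have h4 := pow_inj_mod.1 h3'
    rw [hyo] at h4
    interval_cases n <;> first | rfl | norm_num at h4
  rw [hn1, pow_one] at hyn
  exact not_commute_three_five p.offE hx.1 hy.1 hxo hyo (mul_inv_eq_iff_eq_mul.1 hyn.symm)

/-- Twenty one points, pairwise collinear. -/
theorem plane_facts (hO : NoCore G) :
    {P : Subgroup G | ∃ g, CfsgLib.CIT.cj g E = P}.ncard = 21 ∧ Nat.card G = 20160 ∧
      ∀ P Q : Subgroup G, (∃ g, CfsgLib.CIT.cj g E = P) → (∃ g, CfsgLib.CIT.cj g E = Q) → P ≠ Q →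
        ∃ L, Inc E F P L ∧ Inc E F Q L := by
  classical
  haveI := Fintype.ofFinite G
  set Pts := {P : Subgroup G | ∃ g, CfsgLib.CIT.cj g E = P}
  set n1 := Pts.ncard with hn1
  have hG : Nat.card G = 960 * n1 := by
    let f : G → Pts := fun g => ⟨CfsgLib.CIT.cj g E, g, rfl⟩
    have e : Nat.card G = Nat.card Pts * Nat.card N[E] := by
      refine le_antisymm ?_ ?_
      · have h0 := card_le_range_mul (A := (⊤ : Subgroup G)) (fun g => f g) (H := N[E])
          (fun a b h => cj_eq_self_iff.1 (by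
            have h' : CfsgLib.CIT.cj (a : G) E = CfsgLib.CIT.cj (b : G) E := congrArg Subtype.val h
            rw [← cj_mul, ← h', cj_mul, inv_mul_cancel, cj_one]))
        rw [Subgroup.card_top] at h0
        exact h0.trans (Nat.mul_le_mul_right _ (Nat.card_le_card_of_injective _ Subtype.val_injective))
      choose r hr using fun P : Pts => P.2
      rw [← Nat.card_prod]
      refine Nat.card_le_card_of_injective (fun q : Pts × N[E] => r q.1 * q.2) ?_
      rintro ⟨P, a⟩ ⟨P', a'⟩ h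
      have h' : r P * a = r P' * a' := h
      have hP : P = P' := Subtype.ext (by
        rw [← hr P, ← hr P']
        conv_lhs => rw [← cj_eq_self_iff.2 a.2, cj_mul, h', ← cj_mul, cj_eq_self_iff.2 a'.2])
      subst hP
      exact Prod.ext rfl (Subtype.ext (mul_left_cancel h'))
    rw [e, p.offE.card_normalizer, hn1, Nat.card_coe_set_eq]
    ring
  obtain ⟨z₀, hz₀, hz₀1⟩ := p.exists_central hT
  set I := {u : G | orderOf u = 2}
  have hI : 64 * I.ncard = Nat.card G := by
    have hz₀o : orderOf z₀ = 2 :=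
      orderOf_eq_prime (by rw [pow_two]; exact p.offE.sp.sq _ hz₀.1) hz₀1
    choose r hr using fun u : I => p.invol_conj_to hT hz₀ hz₀1 u.2
    have e1 : Nat.card G ≤ Nat.card I * Nat.card U := by
      suffices h0 : _ by
        have h1 := card_le_range_mul (A := (⊤ : Subgroup G))
          (fun g => (⟨(g : G) * z₀ * (g : G)⁻¹, CfsgLib.Invol.invol_conj hz₀o g⟩ : I)) (H := U) h0
        rw [Subgroup.card_top] at h1
        exact h1.trans (Nat.mul_le_mul_right _ (Nat.card_le_card_of_injective _ Subtype.val_injective))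
      intro a b h
      rw [← p.centralizer_eq hT hz₀ hz₀1, mem_centralizer_singleton_iff]
      have h' : (a : G) * z₀ * (a : G)⁻¹ = b * z₀ * (b : G)⁻¹ := congrArg Subtype.val h
      calc (a : G)⁻¹ * b * z₀ = (a : G)⁻¹ * (b * z₀ * (b : G)⁻¹) * b := by group
        _ = (a : G)⁻¹ * (a * z₀ * (a : G)⁻¹) * b := by rw [h']
        _ = z₀ * ((a : G)⁻¹ * b) := by group
    have e2 : Nat.card I * Nat.card U ≤ Nat.card G := by
      rw [← Nat.card_prod]
      refine Nat.card_le_card_of_injective (fun q : I × U => r q.1 * q.2) ?_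
      rintro ⟨u, a⟩ ⟨u', a'⟩ h
      have h' : r u * a = r u' * a' := h
      have hu : u = u' := Subtype.ext (by
        rw [← hr u, ← hr u']
        calc r u * z₀ * (r u)⁻¹ = r u * a * z₀ * (r u * a)⁻¹ := by
              rw [mul_assoc (r u) (a : G) z₀, p.comm_inf hz₀ a.2]; group
          _ = r u' * a' * z₀ * (r u' * a')⁻¹ := by rw [h']
          _ = r u' * z₀ * (r u')⁻¹ := by
              rw [mul_assoc (r u') (a' : G) z₀, p.comm_inf hz₀ a'.2]; group)
      subst hu
      exact Prod.ext rfl (Subtype.ext (mul_left_cancel h'))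
    have hU : Nat.card U = 64 := (p.offE.syl U p.sylE).1
    rw [hU] at e1 e2
    rw [← Nat.card_coe_set_eq]
    omega
  -- lines through `E`
  let lines : Finset (Subgroup G) := (Set.toFinite {L : Subgroup G | Inc E F E L}).toFinset
  have hlines : lines.card = 5 := by
    rw [← p.card_lines hT, Set.ncard_eq_toFinset_card]
  have hmemlines : ∀ L, L ∈ lines ↔ Inc E F E L := fun L => Set.Finite.mem_toFinset _
  let others : Subgroup G → Finset (Subgroup G) := fun L =>
    (Set.toFinite {Q : Subgroup G | Inc E F Q L ∧ Q ≠ E}).toFinset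
  have hmemo : ∀ L Q, Q ∈ others L ↔ Inc E F Q L ∧ Q ≠ E := fun L Q => Set.Finite.mem_toFinset _
  have hothers : ∀ L ∈ lines, (others L).card = 4 := by
    intro L hL
    rw [hmemlines] at hL
    obtain ⟨g, hgE, hgL⟩ := hL
    rw [← Set.ncard_eq_toFinset_card]
    have hset : {Q : Subgroup G | Inc E F Q L ∧ Q ≠ E} = {Q : Subgroup G | Inc F E L Q} \ {E} :=
      Set.ext fun Q => ⟨fun h => ⟨inc_symm h.1, h.2⟩, fun h => ⟨inc_symm h.1, h.2⟩⟩
    rw [hset, Set.ncard_diff_singleton_of_mem (show E ∈ {Q : Subgroup G | Inc F E L Q} from ⟨g, hgL, hgE⟩),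
      p.symm.card_lines_at hT ⟨g, hgL⟩]
  let near : Finset (Subgroup G) := lines.biUnion others
  have hnear : near.card = 20 := by
    rw [Finset.card_biUnion, Finset.sum_congr rfl hothers, Finset.sum_const, hlines, smul_eq_mul]
    intro L hL L' hL' hne
    refine Finset.disjoint_left.2 fun Q hQ hQ' => hne ?_
    rw [hmemo] at hQ hQ'
    exact p.line_unique hT hQ.2.symm ((hmemlines L).1 hL) hQ.1 ((hmemlines L').1 hL') hQ'.1
  let ptsF : Finset (Subgroup G) := (Set.toFinite Pts).toFinset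
  have hptsF : ptsF.card = n1 := by rw [hn1, Set.ncard_eq_toFinset_card]
  have hmemp : ∀ Q, Q ∈ ptsF ↔ ∃ g, CfsgLib.CIT.cj g E = Q := fun Q => Set.Finite.mem_toFinset _
  have hnearp : insert E near ⊆ ptsF := by
    intro Q hQ
    rw [hmemp]
    rcases Finset.mem_insert.1 hQ with rfl | hQ
    · exact ⟨1, cj_one _⟩
    · obtain ⟨L, -, hQL⟩ := Finset.mem_biUnion.1 hQ
      obtain ⟨g, hg, -⟩ := ((hmemo L Q).1 hQL).1
      exact ⟨g, hg⟩
  have hEnear : E ∉ near := fun h => by
    obtain ⟨L, -, hL⟩ := Finset.mem_biUnion.1 h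
    exact ((hmemo L E).1 hL).2 rfl
  have h21 : 21 ≤ n1 := by
    have := Finset.card_le_card hnearp
    rw [Finset.card_insert_of_notMem hEnear, hnear, hptsF] at this
    omega
  -- the fibres
  let IF : Finset G := Finset.univ.filter fun u => orderOf u = 2
  have hIF : IF.card = I.ncard := by
    rw [Set.ncard_eq_toFinset_card']
    refine congrArg Finset.card ?_
    ext u
    simp [IF, I]
  let fib : Subgroup G → Finset G := fun Q => IF.filter fun u => CfsgLib.CIT.cj u E = Q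
  have hfib : ∀ Q, (fib Q).card = {u : G | orderOf u = 2 ∧ CfsgLib.CIT.cj u E = Q}.ncard := fun Q => by
    rw [Set.ncard_eq_toFinset_card']
    refine congrArg Finset.card ?_
    ext u
    simp [fib, IF]
  have hfixE : (fib E).card ≤ 75 := by
    let piece : Subgroup G → Finset G := fun L =>
      (Finset.univ.filter fun u => u ∈ L) \ (Finset.univ.filter fun u => u ∈ E)
    have hpiece : ∀ L ∈ lines, (piece L).card ≤ 12 := by
      intro L hL
      obtain ⟨g, hgE, hgL⟩ := (hmemlines L).1 hL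
      rw [Finset.card_sdiff]
      have h1 : (Finset.univ.filter fun u => u ∈ L).card = 16 := by
        rw [← Fintype.card_subtype, ← Nat.card_eq_fintype_card]
        show Nat.card L = 16
        rw [← hgL, card_cj, p.offF.card]
      have h2 : ((Finset.univ.filter fun u => u ∈ E) ∩ (Finset.univ.filter fun u => u ∈ L)).card = 4 := by
        rw [← Finset.filter_and, ← Fintype.card_subtype, ← Nat.card_eq_fintype_card]
        show Nat.card (E ⊓ L : Subgroup G) = 4
        have h' : E ⊓ L = CfsgLib.CIT.cj g (E ⊓ F) := by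
          conv_lhs => rw [← hgE, ← hgL]
          exact (Subgroup.map_inf _ _ _ (MulAut.conj g).injective).symm
        rw [h', card_cj, p.card_inf]
      rw [h1, h2]
    have hsub : fib E ⊆ (Finset.univ.filter fun u => u ∈ E).erase 1 ∪ lines.biUnion piece := by
      intro u hu
      simp only [fib, IF, Finset.mem_filter, Finset.mem_univ, true_and] at hu
      by_cases huE : u ∈ E
      · refine Finset.mem_union_left _ (Finset.mem_erase.2 ⟨CfsgLib.Invol.invol_ne_one hu.1, ?_⟩)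
        simp [huE]
      · obtain ⟨g₁, hg₁, -, -⟩ := p.invol_unique hT hu.1
        have hinc := p.fix_point hT hu.1 ⟨1, cj_one E⟩ (cj_eq_self_iff.1 hu.2) g₁ hg₁.2
        refine Finset.mem_union_right _ (Finset.mem_biUnion.2 ⟨_, (hmemlines _).2 hinc, ?_⟩)
        simp only [piece, Finset.mem_sdiff, Finset.mem_filter, Finset.mem_univ, true_and]
        exact ⟨hg₁.2, huE⟩
    refine (Finset.card_le_card hsub).trans ((Finset.card_union_le _ _).trans ?_)
    have h1 : ((Finset.univ.filter fun u => u ∈ E).erase 1).card = 15 := by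
      rw [Finset.card_erase_of_mem (by simp), ← Fintype.card_subtype, ← Nat.card_eq_fintype_card]
      show Nat.card E - 1 = 15
      rw [p.offE.card]
    have h2 : (lines.biUnion piece).card ≤ 60 := by
      refine Finset.card_biUnion_le.trans ((Finset.sum_le_card_nsmul _ _ 12 hpiece).trans ?_)
      rw [hlines]; rfl
    omega
  have hsum : IF.card = ∑ Q ∈ ptsF, (fib Q).card :=
    Finset.card_eq_sum_card_fiberwise fun u hu => (hmemp _).2 ⟨u, rfl⟩
  have hbnd : IF.card ≤ 75 + 20 * 12 + (n1 - 21) * 5 := by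
    rw [hsum, ← Finset.sum_sdiff hnearp, Finset.sum_insert hEnear]
    have hfar : ∑ Q ∈ ptsF \ insert E near, (fib Q).card ≤ (n1 - 21) * 5 := by
      refine (Finset.sum_le_card_nsmul _ _ 5 fun Q hQ => ?_).trans ?_
      · rw [Finset.mem_sdiff, Finset.mem_insert, not_or] at hQ
        rw [hfib]
        refine p.far_le hT ((hmemp Q).1 hQ.1) fun L hL hQL => hQ.2.2 ?_
        exact Finset.mem_biUnion.2 ⟨L, (hmemlines L).2 hL, (hmemo L Q).2 ⟨hQL, hQ.2.1⟩⟩
      · rw [Finset.card_sdiff_of_subset hnearp, Finset.card_insert_of_notMem hEnear, hnear, hptsF, smul_eq_mul]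
    have hnr : ∑ Q ∈ near, (fib Q).card ≤ 20 * 12 := by
      refine (Finset.sum_le_card_nsmul _ _ 12 fun Q hQ => ?_).trans ?_
      · obtain ⟨L, hL, hQL⟩ := Finset.mem_biUnion.1 hQ
        rw [hfib]
        exact p.near_le hT hO ((hmemo L Q).1 hQL).2 ((hmemlines L).1 hL) ((hmemo L Q).1 hQL).1
      · rw [hnear, smul_eq_mul]
    omega
  have hn21 : n1 = 21 := by omega
  refine ⟨hn21, by rw [hG, hn21], fun P Q hP hQ hne => ?_⟩
  obtain ⟨g, rfl⟩ := hP
  obtain ⟨k, rfl⟩ := hQ
  set Q' := CfsgLib.CIT.cj (g⁻¹ * k) E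
  have hQ' : Q' ≠ E := fun e => hne (by
    have h2 := congrArg (CfsgLib.CIT.cj g) e
    rw [cj_mul, mul_inv_cancel_left] at h2
    exact h2.symm)
  have hall : insert E near = ptsF := Finset.eq_of_subset_of_card_le hnearp (by
    rw [Finset.card_insert_of_notMem hEnear, hnear, hptsF, hn21])
  have hmem : Q' ∈ insert E near := hall ▸ (hmemp Q').2 ⟨_, rfl⟩
  rcases Finset.mem_insert.1 hmem with h | h
  · exact absurd h hQ'
  obtain ⟨L, hL, hQL⟩ := Finset.mem_biUnion.1 h
  refine ⟨CfsgLib.CIT.cj g L, inc_cj ((hmemlines L).1 hL) g, ?_⟩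
  have h3 := inc_cj ((hmemo L Q').1 hQL).1 g
  rwa [cj_mul, mul_inv_cancel_left] at h3

open Cfsg in
/-- A simple group with such a pair is `PSL₃(4)`. -/
theorem iso_psl_three_four [IsSimpleGroup G] (hO : NoCore G) :
    ∃ (K : Type) (_ : Field K) (_ : Fintype K), Fintype.card K = 4 ∧
      Nonempty (G ≃* Matrix.ProjectiveSpecialLinearGroup (Fin 3) K) := by
  classical
  obtain ⟨h21, hG, hline⟩ := p.plane_facts hT hO
  haveI : Fact (Nat.Prime 2) := ⟨Nat.prime_two⟩
  letI : Fintype (GaloisField 2 2) := Fintype.ofFinite _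
  let K := GaloisField 2 2
  have hK : Fintype.card K = 4 := by
    rw [← Nat.card_eq_fintype_card, GaloisField.card 2 2 (by norm_num)]; norm_num
  refine ⟨K, inferInstance, inferInstance, hK, ?_⟩
  let Pts := {P : Subgroup G // ∃ g, CfsgLib.CIT.cj g E = P}
  haveI : Fintype Pts := Fintype.ofFinite _
  have hPts : Fintype.card Pts = 21 := by
    rw [← Nat.card_eq_fintype_card, ← h21, ← Nat.card_coe_set_eq]; rfl
  let φ : G →* Equiv.Perm Pts :=
    { toFun := fun x =>
        { toFun := fun P => ⟨CfsgLib.CIT.cj x P.1, by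
            obtain ⟨g, hg⟩ := P.2; exact ⟨x * g, by rw [← cj_mul, hg]⟩⟩
          invFun := fun P => ⟨CfsgLib.CIT.cj x⁻¹ P.1, by
            obtain ⟨g, hg⟩ := P.2; exact ⟨x⁻¹ * g, by rw [← cj_mul, hg]⟩⟩
          left_inv := fun P => Subtype.ext (by simp [cj_mul, cj_one])
          right_inv := fun P => Subtype.ext (by simp [cj_mul, cj_one]) }
      map_one' := Equiv.ext fun P => Subtype.ext (by simp [cj_one])
      map_mul' := fun x y => Equiv.ext fun P => Subtype.ext (by simp [cj_mul]) }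
  have hφ : Function.Injective φ := by
    rw [← MonoidHom.ker_eq_bot_iff]
    refine (φ.normal_ker.eq_bot_or_eq_top).resolve_right fun h => ?_
    have h1 : ∀ g : G, CfsgLib.CIT.cj g E = E := fun g => by
      have h2 := Equiv.ext_iff.1 (MonoidHom.mem_ker.1 (show g ∈ φ.ker by rw [h]; exact mem_top g))
        ⟨E, 1, cj_one E⟩
      exact congrArg Subtype.val h2
    have h2 : {P : Subgroup G | ∃ g, CfsgLib.CIT.cj g E = P} = {E} :=
      Set.ext fun P => ⟨fun ⟨g, hg⟩ => hg ▸ h1 g, fun hP => ⟨1, by rw [cj_one]; exact hP.symm⟩⟩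
    rw [h2, Set.ncard_singleton] at h21
    omega
  let blk : Subgroup G → Finset Pts := fun L => Finset.univ.filter fun P => Inc E F P.1 L
  let B : Set (Finset Pts) := blk '' {L : Subgroup G | ∃ g, CfsgLib.CIT.cj g F = L}
  have hB : IsSteinerSystem 2 5 B := by
    refine ⟨?_, fun s hs => ?_⟩
    · rintro _ ⟨L, hL, rfl⟩
      have e : (blk L).map (Function.Embedding.subtype _) =
          (Set.toFinite {P : Subgroup G | Inc F E L P}).toFinset := by
        ext P
        simp only [blk, Finset.mem_map, Finset.mem_filter, Finset.mem_univ, true_and,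
          Function.Embedding.coe_subtype, Set.Finite.mem_toFinset, Set.mem_setOf_eq]
        refine ⟨fun ⟨P', hP', e⟩ => e ▸ inc_symm hP', fun hP => ?_⟩
        obtain ⟨g, h1, h2⟩ := hP
        exact ⟨⟨P, g, h2⟩, ⟨g, h2, h1⟩, rfl⟩
      rw [← Finset.card_map (Function.Embedding.subtype _), e, ← Set.ncard_eq_toFinset_card]
      exact p.symm.card_lines_at hT hL
    · obtain ⟨P, Q, hne, rfl⟩ := Finset.card_eq_two.1 hs
      obtain ⟨L, hPL, hQL⟩ := hline P.1 Q.1 P.2 Q.2 fun e => hne (Subtype.ext e)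
      refine ⟨blk L, ⟨⟨L, by obtain ⟨g, -, h⟩ := hPL; exact ⟨g, h⟩, rfl⟩, ?_⟩, ?_⟩
      · intro X hX
        simp only [Finset.mem_insert, Finset.mem_singleton] at hX
        rcases hX with rfl | rfl <;> simp [blk, hPL, hQL]
      · rintro _ ⟨⟨L', -, rfl⟩, hsub⟩
        have h1 := hsub (Finset.mem_insert_self P {Q})
        have h2 := hsub (Finset.mem_insert_of_mem (Finset.mem_singleton_self Q))
        simp only [blk, Finset.mem_filter, Finset.mem_univ, true_and] at h1 h2
        rw [p.line_unique hT (fun e => hne (Subtype.ext e)) hPL hQL h1 h2]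
  have hmemB : ∀ x, φ x ∈ setSystemAut B := by
    intro x
    rw [CfsgLib.Spor.mem_setSystemAut]
    refine Set.eq_of_subset_of_ncard_le ?_
      (by rw [Set.ncard_image_of_injective _ (Finset.image_injective (Equiv.injective _))]) (Set.toFinite _)
    rintro _ ⟨_, ⟨L, ⟨g, hg⟩, rfl⟩, rfl⟩
    refine ⟨CfsgLib.CIT.cj x L, ⟨x * g, by rw [← cj_mul, hg]⟩, ?_⟩
    ext P
    simp only [blk, Finset.mem_filter, Finset.mem_univ, true_and, Finset.mem_image]
    constructor
    · intro hP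
      refine ⟨φ x⁻¹ P, ?_, by rw [← Equiv.Perm.mul_apply, ← map_mul, mul_inv_cancel, map_one]; rfl⟩
      have h := inc_cj hP x⁻¹
      rw [cj_mul, inv_mul_cancel, cj_one] at h
      exact h
    · rintro ⟨P', hP', rfl⟩
      exact inc_cj hP' x
  haveI : Fintype (ℙ K (Fin 3 → K)) := Fintype.ofFinite _
  obtain ⟨f1, hf1⟩ := CfsgLib.Spor.Plane.steiner21 hPts hB
  obtain ⟨f2, hf2⟩ := CfsgLib.Spor.Plane.steiner21 (CfsgLib.Spor.Plane.card_points K hK)
    (CfsgLib.Spor.Plane.projLines_steiner K hK)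
  let e : Pts ≃ ℙ K (Fin 3 → K) := f1.trans f2.symm
  have he : (fun b : Finset Pts => b.image e) '' B = CfsgLib.Spor.Plane.projLines K := by
    rw [← CfsgLib.Spor.image_trans hf2, ← hf1]
    simp only [B, Set.image_image]
    refine Set.image_congr' fun b => ?_
    simp [e, Finset.image_image]
  set A := setSystemAut (CfsgLib.Spor.Plane.projLines K)
  let φ₁ : G →* A := (CfsgLib.Spor.autEquiv e he).toMonoidHom.comp (φ.codRestrict _ hmemB)
  have h1 : Function.Injective φ₁ := (CfsgLib.Spor.autEquiv e he).injective.comp fun a b h =>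
    hφ (congrArg Subtype.val h)
  let φ₂ : Matrix.ProjectiveSpecialLinearGroup (Fin 3) K →* A :=
    (MulAction.toPermHom _ _).codRestrict _ (CfsgLib.Spor.Plane.psl_mem_aut K)
  have h2 : Function.Injective φ₂ := fun a b h => MulAction.toPerm_injective (congrArg Subtype.val h)
  haveI : IsSimpleGroup (Matrix.ProjectiveSpecialLinearGroup (Fin 3) K) := CfsgLib.Classical.psl_isSimple le_rfl
  have hA := CfsgLib.Spor.Plane.card_le21 (CfsgLib.Spor.Plane.card_points K hK)
    (CfsgLib.Spor.Plane.projLines_steiner K hK)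
  have c1 : Nat.card φ₁.range = 20160 := by
    rw [← Nat.card_congr (MonoidHom.ofInjective h1).toEquiv]; exact hG
  have c2 : Nat.card φ₂.range = 20160 := by
    rw [← Nat.card_congr (MonoidHom.ofInjective h2).toEquiv]
    exact CfsgLib.Spor.Plane.card_psl_three_four K hK
  have hidx : φ₁.range.index ≤ 6 := by
    have := Subgroup.index_mul_card φ₁.range
    rw [c1] at this
    have hA' : Nat.card A ≤ 120960 := hA
    omega
  let π := (MulAction.toPermHom A (A ⧸ φ₁.range)).comp φ₂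
  have hker : π.ker = ⊤ := by
    refine (π.normal_ker.eq_bot_or_eq_top).resolve_left fun hb => ?_
    have := Nat.card_le_card_of_injective π ((MonoidHom.ker_eq_bot_iff π).1 hb)
    rw [CfsgLib.Spor.Plane.card_psl_three_four K hK, Nat.card_perm] at this
    have h720 := Nat.factorial_le (show Nat.card (A ⧸ φ₁.range) ≤ 6 from hidx)
    rw [show (6 : ℕ).factorial = 720 from rfl] at h720
    omega
  have hle : φ₂.range ≤ φ₁.range := by
    rintro _ ⟨g, rfl⟩
    have hg : π g = 1 := MonoidHom.mem_ker.1 (by rw [hker]; exact mem_top g)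
    have := Equiv.ext_iff.1 hg (QuotientGroup.mk 1)
    simp only [π, MonoidHom.comp_apply, MulAction.toPermHom_apply, MulAction.toPerm_apply,
      Equiv.Perm.one_apply] at this
    rw [MulAction.Quotient.smul_mk, smul_eq_mul, mul_one, QuotientGroup.eq, mul_one] at this
    simpa using inv_mem this
  have heq : φ₂.range = φ₁.range := Subgroup.eq_of_le_of_card_ge hle (by rw [c1, c2])
  exact ⟨(MonoidHom.ofInjective h1).trans ((MulEquiv.subgroupCongr heq.symm).trans (MonoidHom.ofInjective h2).symm)⟩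

end Pair

end CfsgLib.CIT
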