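import Mathlib
import Cfsg.Agent.S2904

/-!
# Primitive prime divisors of `2ⁿ - 1`
-/

set_option autoImplicit false

namespace CfsgLib.CIT

/-- A primitive prime divisor of `2ⁿ - 1`. -/
def IsPrim (r n : ℕ) : Prop := r.Prime ∧ r ∣ 2 ^ n - 1 ∧ ∀ k, 0 < k → k < n → ¬ r ∣ 2 ^ k - 1

theorem exists_isPrim {n : ℕ} (hn : 1 < n) (h6 : n ≠ 6) (h2 : n ≠ 2) : ∃ r, IsPrim r n := by
  obtain ⟨r, h⟩ := Cfsg.Agent.S2904.result 2 n one_lt_two hn (fun h => h6 h.2) (fun h => h2 h.1)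
  exact ⟨r, h⟩

theorem IsPrim.dvd {r n k : ℕ} (h : IsPrim r n) (hn : 0 < n) (hk : r ∣ 2 ^ k - 1) : n ∣ k := by
  have hg : r ∣ 2 ^ Nat.gcd n k - 1 := by
    rw [← Nat.pow_sub_one_gcd_pow_sub_one]
    exact Nat.dvd_gcd h.2.1 hk
  rcases (Nat.le_of_dvd hn (Nat.gcd_dvd_left n k)).lt_or_eq with hlt | heq
  · exact absurd hg (h.2.2 _ (Nat.gcd_pos_of_pos_left _ hn) hlt)
  · exact heq ▸ Nat.gcd_dvd_right n k

theorem IsPrim.ne_two {r n : ℕ} (h : IsPrim r n) (hn : 0 < n) : r ≠ 2 := by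
  rintro rfl
  have h2 : 2 ∣ 2 ^ n := dvd_pow_self 2 hn.ne'
  have h1 := h.2.1
  have := Nat.one_le_two_pow (n := n)
  omega

theorem IsPrim.lt {r n : ℕ} (h : IsPrim r n) (hn : 0 < n) : n < r := by
  haveI := Fact.mk h.1
  have hr2 := h.ne_two hn
  have h2 : ¬ r ∣ 2 := fun hd => hr2 ((Nat.prime_dvd_prime_iff_eq h.1 Nat.prime_two).1 hd)
  have hm : r ∣ 2 ^ (r - 1) - 1 := by
    refine (Nat.modEq_iff_dvd' Nat.one_le_two_pow).1 ?_
    have := Nat.ModEq.pow_totient ((h.1.coprime_iff_not_dvd.2 h2).symm)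
    rw [Nat.totient_prime h.1] at this
    exact this.symm
  have h3 := Nat.le_of_dvd (by have := h.1.two_le; omega) (h.dvd hn hm)
  omega

/-- A primitive divisor with a small exponent bound is impossible. -/
theorem IsPrim.false_of_small {r n j : ℕ} (h : IsPrim r n) (hj : 1 ≤ j) (hjn : j < n)
    (hd : r ∣ 2 ^ j - 1) : False :=
  h.2.2 j hj hjn hd

theorem two_pow_le_of_dvd {j a b : ℕ} (hb : Odd b) (h : 2 ^ j ∣ 2 ^ a * b) : j ≤ a := by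
  have h1 : 2 ^ j ∣ 2 ^ a := ((Nat.coprime_two_left.2 hb).pow_left j).dvd_of_dvd_mul_right h
  exact (Nat.pow_dvd_pow_iff_le_right one_lt_two).1 h1

theorem two_pow_sq_sub_one (k : ℕ) : 2 ^ (2 * k) - 1 = (2 ^ k + 1) * (2 ^ k - 1) := by
  rw [mul_comm 2 k, pow_mul, ← one_pow 2, Nat.sq_sub_sq, one_pow]

end CfsgLib.CIT
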