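import Cfsg.Agent.Lib.CIT.Insoluble
import Cfsg.Agent.Lib.Coprime.FpfAction
import Cfsg.Agent.Lib.Char.ThreeChain

/-!
# Groups with the prime graph of a CIT group having an isolated vertex two and a coclique of size three
-/

set_option autoImplicit false
set_option linter.unusedSectionVars false
set_option linter.style.haveILetI false

namespace CfsgLib.CIT

open Subgroup

universe u v

variable {G : Type u} [Group G] [Finite G]

/-- In an insoluble CIT group of even order a normal 2-subgroup has even index. -/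
theorem IsCIT.even_index (hc : IsCIT G) (heven : Even (Nat.card G)) (hs : ¬ Group.IsSolvable G)
    (N : Subgroup G) [N.Normal] (hN : IsPGroup 2 N) : Even N.index := by
  haveI : Fact (Nat.Prime 2) := ⟨Nat.prime_two⟩
  by_contra ho
  rw [Nat.not_even_iff_odd] at ho
  obtain ⟨k, hk⟩ := IsPGroup.iff_card.1 hN
  obtain ⟨A, hA⟩ := exists_right_complement'_of_coprime (N := N)
    (by rw [hk]; exact (Nat.coprime_two_left.2 ho).pow_left k)
  have hAodd : Odd (Nat.card A) := hA.symm.index_eq_card ▸ ho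
  have hN1 : N ≠ ⊥ := fun e => by
    have h := card_mul_index N
    rw [e, card_bot, one_mul] at h
    rw [e, h] at ho
    exact Nat.not_odd_iff_even.2 heven ho
  have hAN : A ≤ normalizer (N : Set G) := by rw [normalizer_eq_top]; exact le_top
  have hfp : CfsgLib.Coprime.IsFpfOn A N := by
    intro a ha ha1
    rw [eq_bot_iff]
    rintro v ⟨hv, hva⟩
    exact mem_bot.2 (hc.fpf hN hv (hAodd.of_dvd_nat (orderOf_dvd_natCard _ ha)) ha1
      (mem_centralizer_singleton_iff.1 hva).symm)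
  haveI : IsZGroup A := ⟨fun p hp P => by
    haveI := Fact.mk hp
    rcases hfp.sylow_cyclic_or_quaternion hAN hN1 P with h | ⟨rfl, n, ⟨e⟩⟩
    · exact h
    · exfalso
      have h : Nat.card P ∣ Nat.card A := card_subgroup_dvd_card _
      rw [Nat.card_congr e.toEquiv, Nat.card_eq_fintype_card (α := QuaternionGroup (2 ^ n)),
        QuaternionGroup.card] at h
      exact absurd ((hAodd.of_dvd_nat h)) (Nat.not_odd_iff_even.2 (by simp [Nat.even_mul, show Even 4 from ⟨2, rfl⟩]))⟩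
  haveI : Group.IsNilpotent N := hN.isNilpotent
  haveI : Group.IsSolvable (G ⧸ N) := Group.isSolvable_of_surjective
    (f := (QuotientGroup.mk' N).comp A.subtype) fun q => by
      obtain ⟨g, rfl⟩ := QuotientGroup.mk'_surjective N q
      obtain ⟨n, hn, a, ha, rfl⟩ := mem_sup_of_normal_left.1 (hA.sup_eq_top.symm ▸ mem_top g)
      exact ⟨⟨a, ha⟩, by simp [(QuotientGroup.eq_one_iff n).2 hn]⟩
  exact hs (Group.isSolvable_of_ker_le_range N.subtype (QuotientGroup.mk' N)
    (by rw [QuotientGroup.ker_mk', range_subtype]))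

/-- The structure forced by the prime graph. -/
theorem of_prime_graph {M : Type v} [Group M] [Finite M]
    (hpr : ∀ r : ℕ, r.Prime → (r ∣ Nat.card M ↔ r ∣ Nat.card G))
    (hadj : ∀ r s : ℕ, r.Prime → s.Prime → r ≠ s →
      ((∃ x : M, orderOf x = r * s) ↔ (∃ y : G, orderOf y = r * s)))
    (h2 : 2 ∣ Nat.card M) (hiso : ∀ r : ℕ, r.Prime → r ≠ 2 → ∀ x : M, orderOf x ≠ 2 * r)
    {r₀ s₀ : ℕ} (hr₀ : r₀.Prime) (hs₀ : s₀.Prime) (hr2 : r₀ ≠ 2) (hs2 : s₀ ≠ 2) (hrs : r₀ ≠ s₀)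
    (hr₀d : r₀ ∣ Nat.card M) (hs₀d : s₀ ∣ Nat.card M) (hrs' : ∀ x : M, orderOf x ≠ r₀ * s₀) :
    IsCIT (G ⧸ Cfsg.pCore 2 G) ∧
      (∀ r : ℕ, r.Prime → r ≠ 2 → (r ∣ Nat.card (G ⧸ Cfsg.pCore 2 G) ↔ r ∣ Nat.card M)) ∧
      ∃ N : Subgroup (G ⧸ Cfsg.pCore 2 G), N.Normal ∧ IsSimpleGroup N ∧ ¬ IsMulCommutative N := by
  classical
  haveI : Fact (Nat.Prime 2) := ⟨Nat.prime_two⟩
  haveI := CfsgLib.Coprime.pCore_normal' (G := G) 2
  have hiso' : ∀ r : ℕ, r.Prime → r ≠ 2 → ¬ ∃ y : G, orderOf y = 2 * r := fun r hr hr' h => by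
    obtain ⟨x, hx⟩ := (hadj 2 r Nat.prime_two hr (Ne.symm hr')).2 h
    exact hiso r hr hr' x hx
  have hc : IsCIT G := by
    intro t y ht hy hcm
    by_contra hy1
    obtain ⟨r, hr, hrd⟩ := Nat.exists_prime_and_dvd (fun e => hy1 (orderOf_eq_one_iff.1 e))
    have hr' : r ≠ 2 := fun e => by
      subst e
      exact (Nat.not_even_iff_odd.2 hy) (even_iff_two_dvd.2 hrd)
    exact hiso' r hr hr' (CfsgLib.Char.ThreeChain.exists_order_mul (show Commute t y from hcm.symm)
      Nat.prime_two hr (Ne.symm hr') (ht ▸ dvd_rfl) hrd)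
  have hGeven : Even (Nat.card G) := even_iff_two_dvd.2 ((hpr 2 Nat.prime_two).1 h2)
  have hGs : ¬ Group.IsSolvable G := by
    intro hsol
    haveI := hsol
    refine CfsgLib.Char.ThreeChain.not_coclique_three (G := G) (ρ := {2, r₀, s₀}) ?_ ?_ ?_
    · rw [Finset.card_insert_of_notMem (by simp [Ne.symm hr2, Ne.symm hs2]),
        Finset.card_pair hrs]
    · simp only [Finset.mem_insert, Finset.mem_singleton]
      rintro s (rfl | rfl | rfl)
      · exact ⟨Nat.prime_two, (hpr 2 Nat.prime_two).1 h2⟩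
      · exact ⟨hr₀, (hpr _ hr₀).1 hr₀d⟩
      · exact ⟨hs₀, (hpr _ hs₀).1 hs₀d⟩
    · have key : ¬ ∃ y : G, orderOf y = r₀ * s₀ := fun h => by
        obtain ⟨x, hx⟩ := (hadj _ _ hr₀ hs₀ hrs).2 h
        exact hrs' x hx
      simp only [Finset.mem_insert, Finset.mem_singleton]
      rintro a (rfl | rfl | rfl) b (rfl | rfl | rfl) hab <;>
        first
          | exact absurd rfl hab
          | exact hiso' _ hr₀ hr2
          | exact hiso' _ hs₀ hs2
          | exact key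
          | (rw [mul_comm]; first | exact hiso' _ hr₀ hr2 | exact hiso' _ hs₀ hs2 | exact key)
  set O := Cfsg.pCore 2 G
  have hO : IsPGroup 2 O := CfsgLib.Coprime.pCore_isPGroup 2
  have hqc : IsCIT (G ⧸ O) := hc.quotient O hO
  have hcard : Nat.card G = Nat.card (G ⧸ O) * Nat.card O := card_eq_card_quotient_mul_card_subgroup O
  have hpq : ∀ r : ℕ, r.Prime → r ≠ 2 → (r ∣ Nat.card (G ⧸ O) ↔ r ∣ Nat.card M) := by
    intro r hr hr'
    rw [hpr r hr, hcard]
    refine ⟨fun h => h.mul_right _, fun h => (hr.dvd_mul.1 h).resolve_right fun h' => hr' ?_⟩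
    obtain ⟨k, hk⟩ := IsPGroup.iff_card.1 hO
    rw [hk] at h'
    exact (Nat.prime_dvd_prime_iff_eq hr Nat.prime_two).1 (hr.dvd_of_dvd_pow h')
  have hQeven : Even (Nat.card (G ⧸ O)) := by
    rw [← index_eq_card]
    exact hc.even_index hGeven hGs O hO
  have hQs : ¬ Group.IsSolvable (G ⧸ O) := by
    intro h
    haveI := h
    haveI : Group.IsNilpotent O := hO.isNilpotent
    exact hGs (Group.isSolvable_of_ker_le_range O.subtype (QuotientGroup.mk' O)
      (by rw [QuotientGroup.ker_mk', range_subtype]))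
  haveI : Nontrivial (G ⧸ O) := Finite.one_lt_card_iff_nontrivial.1 (by
    have := Nat.card_pos (α := G ⧸ O)
    obtain ⟨k, hk⟩ := hQeven
    omega)
  obtain ⟨N, hN, hS, hna, -⟩ := hqc.exists_simple_normal
    (fun W hW hWo => by haveI := hW; exact hqc.odd_normal_eq_bot hQeven hQs W hWo)
    (fun W hW hWp => by
      haveI := hW
      exact le_bot_iff.1 ((CfsgLib.Coprime.le_pCore hWp).trans_eq (CfsgLib.Coprime.pCore_quotient_eq_bot 2)))
  exact ⟨hqc, hpq, N, hN, hS, hna⟩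

/-- Transitivity of the normalizer of a Sylow 2-subgroup, from a model. -/
theorem IsCIT.eq_top_of_model (hc : IsCIT G) {N : Subgroup G} [N.Normal] {M : Type v} [Group M] [Finite M]
    (e : N ≃* M) {P D : Subgroup M} (hP : IsPGroup 2 P) (hidx : ¬ 2 ∣ P.index)
    (hD : D ≤ normalizer (P : Set M)) (hcard : Nat.card D + 1 = Nat.card (omZ P))
    (h8 : 8 ≤ Nat.card (omZ P)) (hDodd : Odd (Nat.card D)) : N = ⊤ := by
  haveI : Fact (Nat.Prime 2) := ⟨Nat.prime_two⟩
  let f : M →* G := N.subtype.comp e.symm.toMonoidHom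
  have hf : Function.Injective f := N.subtype_injective.comp e.symm.injective
  have hr : f.range = N := by
    rw [MonoidHom.range_comp, MonoidHom.range_eq_top.2 e.symm.surjective, ← MonoidHom.range_eq_map,
      range_subtype]
  have hle : ∀ X : Subgroup M, X.map f ≤ N := fun X => (map_le_range f X).trans hr.le
  have hS : IsSyl N (P.map f) := by
    refine ⟨hle P, hP.map f, fun V hPV hVN hV => ?_⟩
    have h1 : V.comap f = P := (hP.toSylow hidx).is_maximal' (hV.comap_of_injective f hf)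
      (map_le_iff_le_comap.1 hPV)
    rw [← h1, map_comap_eq_self (hr.symm ▸ hVN)]
  have ho : omZ (P.map f) = (omZ P).map f := map_omZ f hf P
  refine hc.eq_top_of_transitive hS (D := D.map f) (hle D) ?_ ?_ ?_ ?_
  · rintro _ ⟨d, hd, rfl⟩
    exact le_normalizer_map f ⟨d, hD hd, rfl⟩
  · rwa [ho, card_map_of_injective hf, card_map_of_injective hf]
  · rwa [ho, card_map_of_injective hf]
  · rwa [card_map_of_injective hf]

/-- A prime outside `N` divides `2ʲ - 1` for an elementary abelian 2-section order `2ʲ` of `N`. -/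
theorem IsCIT.exists_two_pow (hc : IsCIT G) {N : Subgroup G} [N.Normal] (h2 : 2 ∣ Nat.card N) {r : ℕ}
    (hr : r.Prime) (hr2 : r ≠ 2) (hrG : r ∣ Nat.card G) (hrN : ¬ r ∣ Nat.card N) :
    ∃ j : ℕ, 1 ≤ j ∧ r ∣ 2 ^ j - 1 ∧ 2 ^ j ∣ Nat.card N ∧
      ((∃ g ∈ N, orderOf g = 4) → 2 ^ (j + 1) ∣ Nat.card N) := by
  haveI : Fact (Nat.Prime 2) := ⟨Nat.prime_two⟩
  obtain ⟨⟨t, ht⟩, hto⟩ := exists_prime_orderOf_dvd_card' (G := N) 2 h2
  replace hto : orderOf t = 2 := (orderOf_coe ⟨t, ht⟩).trans hto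
  obtain ⟨P, hP, htP⟩ := exists_syl (H := N) (isPGroup_zpowers_invol hto) (zpowers_le.2 ht)
  have hPn : Nontrivial P := ⟨⟨⟨t, htP (mem_zpowers t)⟩, 1, fun e => by
    have e' : t = 1 := congrArg Subtype.val e
    rw [e', orderOf_one] at hto
    norm_num at hto⟩⟩
  obtain ⟨j, hj⟩ := IsPGroup.iff_card.1 (isPGroup_omZ hP.2.1)
  have hj1 : 1 ≤ j := by
    haveI := hP.2.1.center_nontrivial
    obtain ⟨i, hi⟩ := IsPGroup.iff_card.1 (hP.2.1.to_subgroup (center P))
    have h1 : 1 < Nat.card (center P) := Finite.one_lt_card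
    obtain ⟨⟨z, hz⟩, hzo⟩ := exists_prime_orderOf_dvd_card' (G := center P) 2 (by
      rw [hi]
      exact dvd_pow_self 2 fun e => by rw [hi, e, pow_zero] at h1; omega)
    rw [← orderOf_coe, ← orderOf_coe] at hzo
    have hz2 : ((z : P) : G) ∈ omZ P := ⟨z.2, CfsgLib.Invol.invol_mul_self hzo,
      fun y hy => congrArg Subtype.val (mem_center_iff.1 hz ⟨y, hy⟩)⟩
    have h2' : 2 ∣ Nat.card (omZ P) := hzo ▸ orderOf_dvd_natCard _ hz2
    rcases j with _ | j
    · rw [hj, pow_zero] at h2'; norm_num at h2'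
    · omega
  have hd : r ∣ Nat.card (omZ P) - 1 := hc.dvd_omZ_sub_one hP hr hr2 hrG hrN
  refine ⟨j, hj1, hj ▸ hd, hj ▸ (card_dvd_of_le ((omZ_le P).trans hP.1)), ?_⟩
  rintro ⟨g, hg, hgo⟩
  obtain ⟨U, hU, hgU⟩ := exists_syl (H := N) (Q := zpowers g)
    (IsPGroup.of_card (n := 2) (by rw [Nat.card_zpowers, hgo]; norm_num)) (zpowers_le.2 hg)
  obtain ⟨c, hcc⟩ := IsPGroup.iff_card.1 hP.2.1
  have hne : omZ P ≠ P := by
    intro e
    obtain ⟨x, hx, hUx⟩ := hP.exists_conj hU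
    have h1 : g ∈ cj x P := hUx.symm ▸ hgU (mem_zpowers g)
    rw [mem_cj, ← e] at h1
    have h3 : g * g = 1 := by
      have := h1.2.1
      calc g * g = x * ((x⁻¹ * g * x) * (x⁻¹ * g * x)) * x⁻¹ := by group
        _ = 1 := by rw [this, mul_one, mul_inv_cancel]
    have h4 : orderOf g ∣ 2 := orderOf_dvd_of_pow_eq_one (by rw [sq, h3])
    rw [hgo] at h4
    norm_num at h4
  have hlt : Nat.card (omZ P) < Nat.card P := by
    rcases (Nat.le_of_dvd Nat.card_pos (card_dvd_of_le (omZ_le P))).lt_or_eq with h | h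
    · exact h
    · exact absurd (eq_of_le_of_card_ge (omZ_le P) h.ge) hne
  rw [hj, hcc, Nat.pow_lt_pow_iff_right (by norm_num)] at hlt
  exact (pow_dvd_pow 2 hlt).trans (hcc ▸ card_dvd_of_le hP.1)

end CfsgLib.CIT
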