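import Cfsg.Agent.Lib.CIT.PrimeGraph
import Cfsg.Agent.Lib.Lie.Suz.Tori
import Cfsg.Agent.Lib.Lie.Suz.Twisted

/-!
# The Suzuki model
-/

set_option autoImplicit false
set_option linter.unusedSectionVars false
set_option linter.style.haveILetI false

namespace CfsgLib.CIT

open Subgroup
open CfsgLib.Lie

universe u v

theorem IsCIT.eq_top_of_sz {G : Type u} [Group G] [Finite G] (hc : IsCIT G) {N : Subgroup G} [N.Normal]
    {F : Type v} [Field F] [Fintype F] {m : ℕ} (hm : 1 ≤ m) (hF : Fintype.card F = 2 ^ (2 * m + 1))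
    (e : N ≃* Cfsg.Sz F m) : N = ⊤ := by
  classical
  have hS := Suz.isSuzField hF
  have hq8 : 8 ≤ Fintype.card F := hF ▸ (show (8 : ℕ) = 2 ^ 3 by norm_num) ▸
    Nat.pow_le_pow_right two_pos (show 3 ≤ 2 * m + 1 by omega)
  have hev : 2 ∣ Fintype.card F := Suz.two_dvd_q hF
  have hcZ : Nat.card (omZ (Suz.U hF : Subgroup (Cfsg.Sz F m))) = Fintype.card F := by
    rw [← Nat.card_eq_fintype_card]
    refine (Nat.card_eq_of_bijective
      (fun b : F => (⟨Suz.TS hF 0 b, Suz.TS_mem_U hF _ _, ?_, ?_⟩ : omZ (Suz.U hF : Subgroup (Cfsg.Sz F m))))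
      ⟨?_, ?_⟩).symm
    · refine Subtype.ext ?_
      show Suz.T m 0 b * Suz.T m 0 b = 1
      rw [Suz.T_sq hS, Suz.th_zero hS, zero_mul, Suz.T_zero]
    · rintro x ⟨a, c, hx⟩
      refine Subtype.ext ?_
      show x.1 * Suz.T m 0 b = Suz.T m 0 b * x.1
      rw [hx, Suz.T_zero_comm hS]
    · intro a b h
      have h' := Suz.TS_injective hF (a₁ := (0, a)) (a₂ := (0, b)) (congrArg Subtype.val h)
      exact (Prod.ext_iff.1 h').2
    · rintro ⟨x, ⟨a, c, hx⟩, h2, -⟩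
      have h2' : (Suz.T m a c * Suz.T m a c : Matrix.SpecialLinearGroup (Fin 4) F) = 1 := by
        rw [← hx]; exact congrArg Subtype.val h2
      rw [Suz.T_sq hS, ← Suz.T_zero (F := F) (m := m)] at h2'
      have h3 := Suz.TS_injective hF (a₁ := (0, Suz.th m a * a)) (a₂ := (0, 0)) (Subtype.ext h2')
      have ha : a = 0 := by
        rcases mul_eq_zero.1 (Prod.ext_iff.1 h3).2 with h | h
        · exact Suz.th_eq_zero hS h
        · exact h
      subst ha
      exact ⟨c, Subtype.ext (Subtype.ext hx.symm)⟩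
  have hcD : Nat.card (Suz.HSub hF : Subgroup (Cfsg.Sz F m)) = Fintype.card F - 1 := by
    rw [← Fintype.card_units, ← Nat.card_eq_fintype_card]
    refine (Nat.card_eq_of_bijective (fun k : Fˣ => (⟨Suz.HS hF k, k, rfl⟩ : Suz.HSub hF))
      ⟨fun a b h => Suz.HS_injective hF (congrArg Subtype.val h), ?_⟩).symm
    rintro ⟨_, k, rfl⟩
    exact ⟨k, rfl⟩
  refine hc.eq_top_of_model e (P := Suz.U hF) (D := Suz.HSub hF) (Suz.U_isPGroup hF)
    (Suz.U_index_not_dvd hm hF) ?_ ?_ ?_ ?_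
  · rintro _ ⟨k, rfl⟩
    refine mem_normalizer_iff.2 fun x => ⟨?_, ?_⟩
    · rintro ⟨a, b, hx⟩
      obtain rfl : x = Suz.TS hF a b := Subtype.ext hx
      rw [Suz.H_conj_T hF]
      exact Suz.TS_mem_U hF _ _
    · rintro ⟨a, b, hx⟩
      have h1 : Suz.HS hF k * x * (Suz.HS hF k)⁻¹ = Suz.TS hF a b := Subtype.ext hx
      have hi : (Suz.HS hF k : Cfsg.Sz F m)⁻¹ = Suz.HS hF k⁻¹ := Subtype.ext (Suz.H_inv k).symm
      have h2 : x = Suz.HS hF k⁻¹ * Suz.TS hF a b * (Suz.HS hF k⁻¹)⁻¹ := by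
        rw [← h1, ← hi]; group
      rw [h2, Suz.H_conj_T hF]
      exact Suz.TS_mem_U hF _ _
  · rw [hcZ, hcD]; omega
  · rw [hcZ]; exact hq8
  · rw [hcD, Nat.odd_iff]; omega

/-- The centralizer of an element of odd prime order in a Suzuki group. -/
theorem sz_centralizer_dvd {F : Type v} [Field F] [Fintype F] {m : ℕ} (hm : 1 ≤ m)
    (hF : Fintype.card F = 2 ^ (2 * m + 1)) {y : Cfsg.Sz F m} {r : ℕ} (hr : r.Prime) (hr2 : r ≠ 2)
    (hy : orderOf y = r) :
    Nat.card (centralizer ({y} : Set (Cfsg.Sz F m))) ∣ Fintype.card F ^ 2 + 1 ∨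
      Nat.card (centralizer ({y} : Set (Cfsg.Sz F m))) ∣ Fintype.card F - 1 := by
  classical
  haveI := Fact.mk hr
  by_cases hd : r ∣ Fintype.card F ^ 2 + 1
  · exact Or.inl (Suz.torus_card_dvd hm hF
      (Suz.free_centralizer hm hF (Suz.prime_free hm hF hr hy hd)))
  right
  have hp : IsPGroup r (zpowers y) := IsPGroup.of_card (n := 1) (by rw [Nat.card_zpowers, hy, pow_one])
  obtain ⟨c, hc⟩ := (Suz.odd_pgroup_cases hm hF hr2 hp).resolve_left hd
  obtain ⟨h, ⟨k, rfl⟩, he⟩ := hc (mem_zpowers y)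
  have hy1 : y ≠ 1 := fun e => by rw [e, orderOf_one] at hy; exact hr.ne_one hy.symm
  set A : Cfsg.suzukiOvoid F m := ⟨_, Suz.ovoid_inf⟩
  set B : Cfsg.suzukiOvoid F m := ⟨_, Suz.ovoid_zero⟩
  have hab : c • A ≠ c • B := fun h =>
    Suz.inf_ne_zero (congrArg Subtype.val (MulAction.injective c h))
  have hst := (Suz.mem_stab_pair hm hF (g := Suz.HS hF k)).2 ⟨k, rfl⟩
  have he' : c * Suz.HS hF k * c⁻¹ = y := he
  have hfix : ∀ p : Cfsg.suzukiOvoid F m, Suz.HS hF k • p = p → y • (c • p) = c • p := fun p hp => by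
    rw [← mul_smul, ← he', inv_mul_cancel_right, mul_smul, hp]
  obtain ⟨c', hc'⟩ := Suz.centralizer_two_fixed hm hF hy1 hab
    (hfix A (Subtype.ext (MulAction.mem_stabilizer_iff.1 (mem_inf.1 hst).1)))
    (hfix B (Subtype.ext (MulAction.mem_stabilizer_iff.1 (mem_inf.1 hst).2)))
  refine (card_dvd_of_le hc').trans (((Suz.HSub hF).card_map_dvd _).trans ?_)
  rw [← Fintype.card_units, ← Nat.card_eq_fintype_card]
  exact card_dvd_of_surjective
    ({ toFun := fun k => ⟨Suz.HS hF k, k, rfl⟩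
       map_one' := Subtype.ext (Subtype.ext Suz.H_one)
       map_mul' := fun a b => Subtype.ext (Subtype.ext (Suz.H_mul a b)) } :
      Fˣ →* ↥(Suz.HSub hF : Subgroup (Cfsg.Sz F m)))
    (by rintro ⟨_, k, rfl⟩; exact ⟨k, rfl⟩)

/-- Suzuki groups over isomorphic fields. -/
theorem sz_congr {F : Type u} {L : Type v} [Field F] [Field L] (σ : F ≃+* L) (k : ℕ) :
    Nonempty (Cfsg.Lie.Sz F k ≃* Cfsg.Lie.Sz L k) := by
  let Φ : GL (Fin 4) F ≃* GL (Fin 4) L := Units.mapEquiv σ.mapMatrix.toMulEquiv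
  have hval : ∀ (g : GL (Fin 4) F) (i j : Fin 4),
      ((Φ g : GL (Fin 4) L) : Matrix (Fin 4) (Fin 4) L) i j = σ ((g : Matrix (Fin 4) (Fin 4) F) i j) :=
    fun g i j => rfl
  have halt : ∀ u v : Fin 4 → F,
      Cfsg.Lie.altForm4 (fun i => σ (u i)) (fun i => σ (v i)) = σ (Cfsg.Lie.altForm4 u v) := fun u v => by
    simp [Cfsg.Lie.altForm4]
  have hmv : ∀ (g : GL (Fin 4) F) (u : Fin 4 → F),
      ((Φ g : GL (Fin 4) L) : Matrix (Fin 4) (Fin 4) L).mulVec (fun i => σ (u i)) =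
        fun i => σ ((g : Matrix (Fin 4) (Fin 4) F).mulVec u i) := fun g u => by
    funext i
    simp [Matrix.mulVec, dotProduct, hval]
  have hSp : ∀ g : GL (Fin 4) F, Φ g ∈ Cfsg.Lie.Sp4 L ↔ g ∈ Cfsg.Lie.Sp4 F := fun g => by
    rw [Suz.mem_Sp4_iff, Suz.mem_Sp4_iff]
    constructor
    · intro h u v
      have h1 := h (fun i => σ (u i)) (fun i => σ (v i))
      rw [hmv, hmv, halt, halt] at h1
      exact σ.injective h1
    · intro h u v
      obtain ⟨u, rfl⟩ : ∃ u' : Fin 4 → F, (fun i => σ (u' i)) = u :=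
        ⟨fun i => σ.symm (u i), funext fun i => σ.apply_symm_apply _⟩
      obtain ⟨v, rfl⟩ : ∃ v' : Fin 4 → F, (fun i => σ (v' i)) = v :=
        ⟨fun i => σ.symm (v i), funext fun i => σ.apply_symm_apply _⟩
      rw [hmv, hmv, halt, halt, h]
  have hst : ∀ g : GL (Fin 4) F,
      (Cfsg.Lie.star4 ((Φ g : GL (Fin 4) L) : Matrix (Fin 4) (Fin 4) L) =
          ((Φ g : GL (Fin 4) L) : Matrix (Fin 4) (Fin 4) L).map (fun x => x ^ k)) ↔
        Cfsg.Lie.star4 (g : Matrix (Fin 4) (Fin 4) F) = (g : Matrix (Fin 4) (Fin 4) F).map (fun x => x ^ k) :=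
      fun g => by
    rw [← Matrix.ext_iff, ← Matrix.ext_iff]
    refine forall_congr' fun i => forall_congr' fun j => ?_
    simp only [Cfsg.Lie.star4, Matrix.of_apply, Matrix.map_apply, hval, ← map_mul, ← map_sub, ← map_pow]
    exact σ.injective.eq_iff
  have key : (Cfsg.Lie.Sz F k).map Φ.toMonoidHom = Cfsg.Lie.Sz L k := by
    unfold Cfsg.Lie.Sz
    rw [MonoidHom.map_closure]
    congr 1
    ext x
    obtain ⟨g, rfl⟩ := Φ.surjective x
    simp only [MulEquiv.coe_toMonoidHom, Set.mem_setOf_eq]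
    rw [Φ.injective.mem_set_image]
    exact and_congr (hSp g).symm (hst g).symm
  exact ⟨(Φ.subgroupMap _).trans (MulEquiv.subgroupCongr key)⟩

end CfsgLib.CIT
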