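import Cfsg.Agent.Lib.CIT.PslModel
import Cfsg.Agent.Lib.CIT.SzModel
import Cfsg.Agent.Lib.CIT.PrimDiv
import Cfsg.Agent.Lib.Classical.PSL2Spectrum
import Cfsg.Agent.Lib.Spor.PlaneFour.M21
import Cfsg.Agent.Lib.Lie.Suz.Twisted

/-!
# Groups with the prime graph of `PSL₂(2ᵐ)` or of a Suzuki group
-/

set_option autoImplicit false
set_option linter.unusedSectionVars false
set_option linter.style.haveILetI false

namespace CfsgLib.CIT

open Subgroup

universe u v

/-- Orders of `PSL₂` in characteristic two. -/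
theorem card_psl_two_pow {K : Type v} [Field K] [Fintype K] {k : ℕ} (hk : 1 ≤ k)
    (hK : Fintype.card K = 2 ^ k) :
    Nat.card (Matrix.ProjectiveSpecialLinearGroup (Fin 2) K) = 2 ^ k * (2 ^ (2 * k) - 1) := by
  have h := CfsgLib.Classical.card_psl2 (F := K)
  have h2 : 2 ∣ 2 ^ k := dvd_pow_self 2 (by omega)
  have h1 := Nat.one_le_two_pow (n := k)
  have hg : Nat.gcd 2 (2 ^ k - 1) = 1 := by
    rw [Nat.gcd_rec, show (2 ^ k - 1) % 2 = 1 by omega]; rfl
  rw [hK, hg, one_mul] at h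
  rw [h, two_pow_sq_sub_one]
  ring

theorem odd_dvd_card_psl {K : Type v} [Field K] [Fintype K] {k : ℕ} (hk : 1 ≤ k)
    (hK : Fintype.card K = 2 ^ k) {r : ℕ} (hr : r.Prime) (hr2 : r ≠ 2) :
    r ∣ Nat.card (Matrix.ProjectiveSpecialLinearGroup (Fin 2) K) ↔ r ∣ 2 ^ (2 * k) - 1 := by
  rw [card_psl_two_pow hk hK]
  refine ⟨fun h => (hr.dvd_mul.1 h).resolve_left fun h' => hr2 ?_, fun h => h.mul_left _⟩
  exact (Nat.prime_dvd_prime_iff_eq hr Nat.prime_two).1 (hr.dvd_of_dvd_pow h')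

variable {G : Type u} [Group G] [Finite G]

/-- Small models are excluded by a large primitive divisor. -/
theorem small_false (hc : IsCIT G) {N : Subgroup G} [N.Normal] (h2 : 2 ∣ Nat.card N) {a b : ℕ}
    (hN : Nat.card N ∣ 2 ^ a * b) (hb : Odd b) {r n : ℕ} (hr : IsPrim r n) (han : a < n)
    (hb' : ∀ p : ℕ, p.Prime → p ∣ b → p ≤ n) (hrG : r ∣ Nat.card G) : False := by
  have hn : 0 < n := by omega
  have hr2 := hr.ne_two hn
  have hrN : ¬ r ∣ Nat.card N := fun h => by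
    rcases hr.1.dvd_mul.1 (h.trans hN) with h' | h'
    · exact hr2 ((Nat.prime_dvd_prime_iff_eq hr.1 Nat.prime_two).1 (hr.1.dvd_of_dvd_pow h'))
    · have := hb' r hr.1 h'
      have := hr.lt hn
      omega
  obtain ⟨j, hj, hjr, hjN, -⟩ := hc.exists_two_pow h2 hr.1 hr2 hrG hrN
  have := two_pow_le_of_dvd hb (hjN.trans hN)
  exact hr.false_of_small hj (by omega) hjr

theorem prime_le_of_dvd_list {p n : ℕ} (hp : p.Prime) {l : List ℕ} (hl : ∀ x ∈ l, x ≤ n ∧ 1 ≤ x)
    (h : p ∣ l.prod) : p ≤ n := by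
  obtain ⟨x, hx, hpx⟩ := (Prime.dvd_prod_iff hp.prime).1 h
  exact le_trans (Nat.le_of_dvd (hl x hx).2 hpx) (hl x hx).1

/-- The model `PSL₂(p)`, `p + 1` or `p - 1` a power of two, is excluded. -/
theorem prime_case_false (hc : IsCIT G) {N : Subgroup G} [N.Normal] (h2N : 2 ∣ Nat.card N) {K : Type}
    [Field K] [Fintype K] (hp : (Fintype.card K).Prime) {k : ℕ}
    (hk : Fintype.card K = 2 ^ k + 1 ∨ Fintype.card K + 1 = 2 ^ k)
    (e : N ≃* Matrix.ProjectiveSpecialLinearGroup (Fin 2) K) {m : ℕ} (hm : 4 ≤ m)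
    (hG : ∀ r : ℕ, r.Prime → r ≠ 2 → (r ∣ Nat.card G ↔ r ∣ 2 ^ (2 * m) - 1)) : False := by
  set p := Fintype.card K with hpK
  have hcard := CfsgLib.Classical.card_psl2 (F := K)
  rw [← Nat.card_congr e.toEquiv, ← hpK] at hcard
  obtain ⟨r, hr⟩ := exists_isPrim (n := 2 * m) (by omega) (by omega) (by omega)
  have hr2 := hr.ne_two (by omega)
  have hrG : r ∣ Nat.card G := (hG r hr.1 hr2).2 hr.2.1
  rcases le_or_gt p 5 with hsmall | hbig
  · refine small_false hc h2N (a := 3) (b := 15) ?_ (by decide) hr (by omega) ?_ hrG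
    · refine (Dvd.intro_left _ hcard).trans ?_
      have := hp.two_le
      interval_cases p <;> first | decide | (norm_num at hp ⊢)
    · intro q hq hd
      exact prime_le_of_dvd_list hq (l := [3, 5])
        (fun x hx => by fin_cases hx <;> omega) (by simpa using hd)
  have hodd : p % 2 = 1 := Nat.odd_iff.1 (hp.odd_of_ne_two (by omega))
  have hg : Nat.gcd 2 (p - 1) = 2 := Nat.gcd_eq_left (by omega)
  rw [hg] at hcard
  have hk3 : 3 ≤ k := by
    by_contra hlt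
    have : 2 ^ k ≤ 2 ^ 2 := Nat.pow_le_pow_right two_pos (by omega)
    omega
  have hhalf : 2 ^ k = 2 * 2 ^ (k - 1) := by
    rw [← pow_succ', Nat.sub_add_cancel (by omega)]
  have h4 : 4 ≤ 2 ^ (k - 1) := le_trans (by norm_num) (Nat.pow_le_pow_right two_pos (show 2 ≤ k - 1 by omega))
  have heven : 2 ∣ 2 ^ (k - 1) := dvd_pow_self 2 (by omega)
  have hp2 : p ≠ 2 := by omega
  have hpN : p ∣ Nat.card N :=
    ((Nat.coprime_primes hp Nat.prime_two).2 hp2).dvd_of_dvd_mul_left (hcard ▸ dvd_mul_right _ _)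
  have hpM : p ∣ 2 ^ (2 * m) - 1 := (hG p hp hp2).1 (hpN.trans (card_subgroup_dvd_card N))
  rcases hk with hk | hk
  · -- Fermat
    have hcardN : Nat.card N = 2 ^ k * (p * (2 ^ (k - 1) + 1)) := by
      refine Nat.eq_of_mul_eq_mul_left two_pos (hcard.trans ?_)
      rw [show p - 1 = 2 ^ k by omega, show p + 1 = 2 * (2 ^ (k - 1) + 1) by omega]
      ring
    have hbodd : Odd (p * (2 ^ (k - 1) + 1)) := (Nat.odd_iff.2 hodd).mul (Nat.odd_iff.2 (by omega))
    have hkm : k ∣ m := by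
      have h1 : p ∣ 2 ^ (2 * k) - 1 := by rw [two_pow_sq_sub_one, ← hk]; exact dvd_mul_right _ _
      have h2 : p ∣ 2 ^ Nat.gcd (2 * k) (2 * m) - 1 := by
        rw [← Nat.pow_sub_one_gcd_pow_sub_one]; exact Nat.dvd_gcd h1 hpM
      rw [Nat.gcd_mul_left] at h2
      have hgd := Nat.gcd_dvd_left k m
      rcases (Nat.le_of_dvd (by omega) hgd).lt_or_eq with hlt | heq
      · exfalso
        have h2g : 2 * Nat.gcd k m ≤ k := by
          obtain ⟨c, hc'⟩ := hgd
          have : 1 < c := by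
            by_contra hc1
            interval_cases c <;> omega
          nlinarith
        have := Nat.le_of_dvd (by
          have : 1 ≤ Nat.gcd k m := Nat.gcd_pos_of_pos_left _ (by omega)
          have : 2 ^ 1 ≤ 2 ^ (2 * Nat.gcd k m) := Nat.pow_le_pow_right two_pos (by omega)
          omega) h2
        have : 2 ^ (2 * Nat.gcd k m) ≤ 2 ^ k := Nat.pow_le_pow_right two_pos h2g
        omega
      · exact heq ▸ Nat.gcd_dvd_right k m
    have hkle : k ≤ m := Nat.le_of_dvd (by omega) hkm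
    have hkeq : k = m := by
      by_cases hrN : r ∣ Nat.card N
      · rw [hcardN] at hrN
        rcases hr.1.dvd_mul.1 hrN with h | h
        · exact absurd ((Nat.prime_dvd_prime_iff_eq hr.1 Nat.prime_two).1 (hr.1.dvd_of_dvd_pow h)) hr2
        rcases hr.1.dvd_mul.1 h with h | h
        · have h1 : r ∣ 2 ^ (2 * k) - 1 := by
            rw [two_pow_sq_sub_one, ← hk]; exact h.mul_right _
          have := Nat.le_of_dvd (by omega) (hr.dvd (by omega) h1)
          omega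
        · have h1 : r ∣ 2 ^ (2 * (k - 1)) - 1 := by
            rw [two_pow_sq_sub_one]; exact h.mul_right _
          have := Nat.le_of_dvd (by omega) (hr.dvd (by omega) h1)
          omega
      · obtain ⟨j, hj, hjr, hjN, -⟩ := hc.exists_two_pow h2N hr.1 hr2 hrG hrN
        have := two_pow_le_of_dvd hbodd (hcardN ▸ hjN)
        exact (hr.false_of_small hj (by omega) hjr).elim
    subst hkeq
    have hk6 : k ≠ 6 := by
      rintro rfl
      rw [hk] at hp
      norm_num at hp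
    obtain ⟨s, hs⟩ := exists_isPrim (n := k) (by omega) hk6 (by omega)
    have hs2 := hs.ne_two (by omega)
    have hsG : s ∣ Nat.card G := (hG s hs.1 hs2).2 (by rw [two_pow_sq_sub_one]; exact hs.2.1.mul_left _)
    by_cases hsN : s ∣ Nat.card N
    · rw [hcardN] at hsN
      rcases hs.1.dvd_mul.1 hsN with h | h
      · exact hs2 ((Nat.prime_dvd_prime_iff_eq hs.1 Nat.prime_two).1 (hs.1.dvd_of_dvd_pow h))
      rcases hs.1.dvd_mul.1 h with h | h
      · have h1 := (Nat.prime_dvd_prime_iff_eq hs.1 hp).1 h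
        have h2 := Nat.le_of_dvd (by omega) hs.2.1
        omega
      · have h1 : s ∣ 2 ^ (2 * (k - 1)) - 1 := by
          rw [two_pow_sq_sub_one]; exact h.mul_right _
        have hd := hs.dvd (by omega) h1
        have : k ∣ 2 * k - 2 * (k - 1) := Nat.dvd_sub (dvd_mul_left k 2) hd
        rw [show 2 * k - 2 * (k - 1) = 2 by omega] at this
        have := Nat.le_of_dvd (by omega) this
        omega
    · obtain ⟨j, hj, hjr, hjN, hjfour⟩ := hc.exists_two_pow h2N hs.1 hs2 hsG hsN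
      have h4g : ∃ g ∈ N, orderOf g = 4 := by
        obtain ⟨A, hA⟩ := CfsgLib.Classical.PSL2Spectrum.exists_order_sub_one (F := K)
        have ho := CfsgLib.Classical.PSL2Spectrum.orderOf_π_half (A := A) (k := 2 ^ (k - 1)) hodd
          (by rw [hA, ← hpK]; omega)
        set x := CfsgLib.PSL2Two.π A with hx
        have hd4 : 4 ∣ orderOf x := by
          rw [ho]
          exact (show (4 : ℕ) = 2 ^ 2 by norm_num) ▸ pow_dvd_pow 2 (show 2 ≤ k - 1 by omega)
        refine ⟨((e.symm (x ^ (orderOf x / 4)) : N) : G), SetLike.coe_mem _, ?_⟩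
        rw [orderOf_coe, MulEquiv.orderOf_eq, orderOf_pow_orderOf_div (orderOf_pos x).ne' hd4]
      have := two_pow_le_of_dvd hbodd (hcardN ▸ hjfour h4g)
      exact hs.false_of_small hj (by omega) hjr
  · -- Mersenne
    have hcardN : Nat.card N = 2 ^ k * (p * (2 ^ (k - 1) - 1)) := by
      refine Nat.eq_of_mul_eq_mul_left two_pos (hcard.trans ?_)
      rw [hk, show p - 1 = 2 * (2 ^ (k - 1) - 1) by omega]
      ring
    have hbodd : Odd (p * (2 ^ (k - 1) - 1)) := (Nat.odd_iff.2 hodd).mul (Nat.odd_iff.2 (by omega))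
    have hp1 : p = 2 ^ k - 1 := by omega
    have hkm : k ∣ 2 * m := by
      have h2 : p ∣ 2 ^ Nat.gcd k (2 * m) - 1 := by
        rw [← Nat.pow_sub_one_gcd_pow_sub_one]; exact Nat.dvd_gcd (hp1 ▸ dvd_rfl) hpM
      have hgd := Nat.gcd_dvd_left k (2 * m)
      rcases (Nat.le_of_dvd (by omega) hgd).lt_or_eq with hlt | heq
      · exfalso
        have h1 : 1 ≤ Nat.gcd k (2 * m) := Nat.gcd_pos_of_pos_left _ (by omega)
        have h3 : 2 ^ 1 ≤ 2 ^ Nat.gcd k (2 * m) := Nat.pow_le_pow_right two_pos h1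
        have := Nat.le_of_dvd (by omega) h2
        have : 2 ^ Nat.gcd k (2 * m) < 2 ^ k := Nat.pow_lt_pow_right one_lt_two hlt
        omega
      · exact heq ▸ Nat.gcd_dvd_right k (2 * m)
    have hkle : k ≤ 2 * m := Nat.le_of_dvd (by omega) hkm
    have hkne : k ≠ 2 * m := by
      intro h
      rw [hp1, h, two_pow_sq_sub_one] at hp
      have h16 : 2 ^ 4 ≤ 2 ^ m := Nat.pow_le_pow_right two_pos hm
      rcases (Nat.prime_mul_iff.1 hp) with h' | h' <;> omega
    by_cases hrN : r ∣ Nat.card N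
    · rw [hcardN] at hrN
      rcases hr.1.dvd_mul.1 hrN with h | h
      · exact hr2 ((Nat.prime_dvd_prime_iff_eq hr.1 Nat.prime_two).1 (hr.1.dvd_of_dvd_pow h))
      rcases hr.1.dvd_mul.1 h with h | h
      · have := Nat.le_of_dvd (by omega) (hr.dvd (by omega) (hp1 ▸ h))
        omega
      · have := Nat.le_of_dvd (by omega) (hr.dvd (by omega) h)
        omega
    · obtain ⟨j, hj, hjr, hjN, -⟩ := hc.exists_two_pow h2N hr.1 hr2 hrG hrN
      have := two_pow_le_of_dvd hbodd (hcardN ▸ hjN)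
      exact hr.false_of_small hj (by omega) hjr

/-- Groups with the prime graph of `PSL₂(2ᵐ)`. -/
theorem psl_even_prime_graph {F : Type v} [Field F] [Fintype F] {m : ℕ} (hm : 4 ≤ m)
    (hF : Fintype.card F = 2 ^ m)
    (hpr : ∀ r : ℕ, r.Prime → (r ∣ Nat.card (Matrix.ProjectiveSpecialLinearGroup (Fin 2) F) ↔ r ∣ Nat.card G))
    (hadj : ∀ r s : ℕ, r.Prime → s.Prime → r ≠ s →
      ((∃ x : Matrix.ProjectiveSpecialLinearGroup (Fin 2) F, orderOf x = r * s) ↔
        (∃ y : G, orderOf y = r * s))) :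
    Nonempty (G ⧸ Cfsg.pCore 2 G ≃* Matrix.ProjectiveSpecialLinearGroup (Fin 2) F) := by
  classical
  haveI := CfsgLib.Coprime.pCore_normal' (G := G) 2
  haveI : Fact (Nat.Prime 2) := ⟨Nat.prime_two⟩
  haveI : CharP F 2 := charP_of_card_eq_prime_pow (f := m) hF
  have h16 : 16 ≤ 2 ^ m := le_trans (by norm_num) (Nat.pow_le_pow_right two_pos hm)
  have hev : 2 ∣ 2 ^ m := dvd_pow_self 2 (by omega)
  have hg : Nat.gcd 2 (2 ^ m - 1) = 1 := by
    rw [Nat.gcd_rec, show (2 ^ m - 1) % 2 = 1 by omega]; rfl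
  have hspec : ∀ (x : Matrix.ProjectiveSpecialLinearGroup (Fin 2) F),
      orderOf x ∣ 2 ∨ orderOf x ∣ 2 ^ m - 1 ∨ orderOf x ∣ 2 ^ m + 1 := fun x => by
    have h := (CfsgLib.Classical.PSL2Spectrum.mem_range_orderOf (F := F) 2 (by omega) (orderOf x)).1 ⟨x, rfl⟩
    rwa [hF, hg, Nat.div_one, Nat.div_one] at h
  have hiso : ∀ r : ℕ, r.Prime → r ≠ 2 → ∀ x : Matrix.ProjectiveSpecialLinearGroup (Fin 2) F,
      orderOf x ≠ 2 * r := by
    intro r hr hr2 x hx
    rcases hspec x with h | h | h <;> rw [hx] at h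
    · have := Nat.le_of_dvd (by norm_num) h
      have := hr.two_le
      omega
    · have := (dvd_mul_right 2 r).trans h; omega
    · have := (dvd_mul_right 2 r).trans h; omega
  obtain ⟨r₀, hr₀, hr₀d⟩ := Nat.exists_prime_and_dvd (show 2 ^ m - 1 ≠ 1 by omega)
  obtain ⟨s₀, hs₀, hs₀d⟩ := Nat.exists_prime_and_dvd (show 2 ^ m + 1 ≠ 1 by omega)
  have hr₀2 : r₀ ≠ 2 := by rintro rfl; omega
  have hs₀2 : s₀ ≠ 2 := by rintro rfl; omega
  have hno : ∀ p : ℕ, p.Prime → p ∣ 2 ^ m - 1 → p ∣ 2 ^ m + 1 → False := fun p hp h1 h2 => by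
    have h3 := Nat.dvd_sub h2 h1
    rw [show 2 ^ m + 1 - (2 ^ m - 1) = 2 by omega] at h3
    have h4 := (Nat.prime_dvd_prime_iff_eq hp Nat.prime_two).1 h3
    subst h4
    omega
  have hrs : r₀ ≠ s₀ := fun h => hno r₀ hr₀ hr₀d (h ▸ hs₀d)
  have hodd := fun r => odd_dvd_card_psl (K := F) (r := r) (show 1 ≤ m by omega) hF
  have h2M : 2 ∣ Nat.card (Matrix.ProjectiveSpecialLinearGroup (Fin 2) F) := by
    rw [card_psl_two_pow (by omega) hF]; exact hev.mul_right _
  obtain ⟨hc, hQ, N, hN, hS, hna⟩ := of_prime_graph hpr hadj h2M hiso hr₀ hs₀ hr₀2 hs₀2 hrs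
    ((hodd _ hr₀ hr₀2).2 (by rw [two_pow_sq_sub_one]; exact hr₀d.mul_left _))
    ((hodd _ hs₀ hs₀2).2 (by rw [two_pow_sq_sub_one]; exact hs₀d.mul_right _))
    (fun x hx => by
      rcases hspec x with h | h | h <;> rw [hx] at h
      · have := Nat.le_of_dvd (by norm_num) h
        have := hr₀.two_le
        have := hs₀.two_le
        nlinarith
      · exact hno s₀ hs₀ ((dvd_mul_left _ _).trans h) hs₀d
      · exact hno r₀ hr₀ hr₀d ((dvd_mul_right _ _).trans h))
  haveI := hN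
  have hG' : ∀ r : ℕ, r.Prime → r ≠ 2 →
      (r ∣ Nat.card (G ⧸ Cfsg.pCore 2 G) ↔ r ∣ 2 ^ (2 * m) - 1) :=
    fun r hr hr2 => (hQ r hr hr2).trans (hodd r hr hr2)
  haveI := hS
  have h2N : 2 ∣ Nat.card N := two_dvd_card_of_simple hna
  obtain ⟨r, hr⟩ := exists_isPrim (n := 2 * m) (by omega) (by omega) (by omega)
  have hr2 := hr.ne_two (by omega)
  have hrG : r ∣ Nat.card (G ⧸ Cfsg.pCore 2 G) := (hG' r hr.1 hr2).2 hr.2.1
  rcases simple_cases hna (hc.subgroup N) with ⟨K, iK, iK', hK, ⟨e⟩⟩ | ⟨K, iK, iK', hK, ⟨e⟩⟩ |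
    ⟨K, iK, iK', m', hm', hK, ⟨e⟩⟩
  · rcases hK with h9 | ⟨k, hk, hK⟩ | ⟨hp, k, hk⟩
    · refine (small_false hc h2N (a := 3) (b := 45) ?_ (by decide) hr (by omega) ?_ hrG).elim
      · have h := CfsgLib.Classical.card_psl2 (F := K)
        rw [← Nat.card_congr e.toEquiv, h9] at h
        norm_num at h
        exact dvd_of_eq (by omega)
      · intro q hq hd
        exact prime_le_of_dvd_list hq (l := [3, 3, 5]) (fun x hx => by fin_cases hx <;> omega)
          (by simpa using hd)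
    · rcases (show k = 2 ∨ 3 ≤ k by omega) with rfl | hk3
      · refine (small_false hc h2N (a := 2) (b := 15) ?_ (by decide) hr (by omega) ?_ hrG).elim
        · rw [Nat.card_congr e.toEquiv, card_psl_two_pow (by norm_num) hK]; norm_num
        · intro q hq hd
          exact prime_le_of_dvd_list hq (l := [3, 5]) (fun x hx => by fin_cases hx <;> omega)
            (by simpa using hd)
      have htop := hc.eq_top_of_psl_even hk3 hK e
      have hcard : Nat.card (G ⧸ Cfsg.pCore 2 G) = Nat.card N := by rw [htop, card_top]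
      have hK' := fun p => odd_dvd_card_psl (K := K) (r := p) (show 1 ≤ k by omega) hK
      have e1 : ∀ p : ℕ, p.Prime → p ≠ 2 → (p ∣ 2 ^ (2 * k) - 1 ↔ p ∣ 2 ^ (2 * m) - 1) := fun p hp hp2 => by
        rw [← hK' p hp hp2, ← hG' p hp hp2, hcard, Nat.card_congr e.toEquiv]
      have d1 : 2 * m ∣ 2 * k := hr.dvd (by omega) ((e1 r hr.1 hr2).2 hr.2.1)
      have hmk : m ≤ k := by have := Nat.le_of_dvd (by omega) d1; omega
      obtain ⟨s, hs⟩ := exists_isPrim (n := 2 * k) (by omega) (by omega) (by omega)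
      have hs2 := hs.ne_two (by omega)
      have d2 : 2 * k ∣ 2 * m := hs.dvd (by omega) ((e1 s hs.1 hs2).1 hs.2.1)
      have hkm : k = m := by have := Nat.le_of_dvd (by omega) d2; omega
      obtain ⟨e'⟩ := psl_congr (FiniteField.ringEquivOfCardEq (K := K) (K' := F) (by rw [hK, hF, hkm]))
      exact ⟨((Subgroup.topEquiv.symm.trans (MulEquiv.subgroupCongr htop.symm)).trans e).trans e'⟩
    · exact (prime_case_false hc h2N hp hk e hm hG').elim
  · haveI : Fintype (Projectivization K (Fin 3 → K)) := Fintype.ofFinite _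
    refine (small_false hc h2N (a := 6) (b := 315) ?_ (by decide) hr (by omega) ?_ hrG).elim
    · rw [Nat.card_congr e.toEquiv, CfsgLib.Spor.Plane.card_psl_three_four K hK]; norm_num
    · intro q hq hd
      exact prime_le_of_dvd_list hq (l := [3, 3, 5, 7]) (fun x hx => by fin_cases hx <;> omega)
        (by simpa using hd)
  · exfalso
    obtain ⟨e'⟩ := CfsgLib.Lie.Suz.exists_twEquiv (F := K) hm' hK
    have htop := hc.eq_top_of_sz hm' hK (e.trans e'.symm)
    have h3 : 3 ∣ Nat.card (G ⧸ Cfsg.pCore 2 G) := by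
      refine (hG' 3 Nat.prime_three (by norm_num)).2 ?_
      have := Nat.sub_dvd_pow_sub_pow 4 1 m
      rw [one_pow, ← show 2 ^ (2 * m) = 4 ^ m by rw [pow_mul]; norm_num] at this
      simpa using this
    refine CfsgLib.Lie.Suz.three_not_dvd hm' hK ?_
    rw [show Nat.card (G ⧸ Cfsg.pCore 2 G) = Nat.card N by rw [htop, card_top],
      Nat.card_congr (e.trans e'.symm).toEquiv] at h3
    exact h3

/-- Groups with the prime graph of a Suzuki group. -/
theorem suzuki_prime_graph {F : Type v} [Field F] [Fintype F] {m : ℕ} (hm : 1 ≤ m)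
    (hF : Fintype.card F = 2 ^ (2 * m + 1))
    (hpr : ∀ r : ℕ, r.Prime → (r ∣ Nat.card (Cfsg.Lie.Sz F (2 ^ (m + 1))) ↔ r ∣ Nat.card G))
    (hadj : ∀ r s : ℕ, r.Prime → s.Prime → r ≠ s →
      ((∃ x : Cfsg.Lie.Sz F (2 ^ (m + 1)), orderOf x = r * s) ↔ (∃ y : G, orderOf y = r * s))) :
    Nonempty (G ⧸ Cfsg.pCore 2 G ≃* Cfsg.Lie.Sz F (2 ^ (m + 1))) := by
  classical
  haveI := CfsgLib.Coprime.pCore_normal' (G := G) 2
  haveI : Fact (Nat.Prime 2) := ⟨Nat.prime_two⟩
  obtain ⟨t⟩ := CfsgLib.Lie.Suz.exists_twEquiv (F := F) hm hF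
  haveI : Finite (Cfsg.Lie.Sz F (2 ^ (m + 1))) := Finite.of_equiv _ t.toEquiv
  set q := Fintype.card F with hq
  have hq8 : 8 ≤ q := hF ▸ (show (8 : ℕ) = 2 ^ 3 by norm_num) ▸
    Nat.pow_le_pow_right two_pos (show 3 ≤ 2 * m + 1 by omega)
  have hev : 2 ∣ q := CfsgLib.Lie.Suz.two_dvd_q hF
  have hev2 : 2 ∣ q ^ 2 := hev.trans (dvd_pow_self q two_ne_zero)
  have hq2 : q ≤ q ^ 2 := by nlinarith
  have hM : Nat.card (Cfsg.Lie.Sz F (2 ^ (m + 1))) = q ^ 2 * (q ^ 2 + 1) * (q - 1) := by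
    rw [← Nat.card_congr t.toEquiv, CfsgLib.Lie.Suz.card_Sz hm hF]
  have hodd : ∀ r : ℕ, r.Prime → r ≠ 2 →
      (r ∣ Nat.card (Cfsg.Lie.Sz F (2 ^ (m + 1))) ↔ r ∣ (q ^ 2 + 1) * (q - 1)) := by
    intro r hr hr2
    rw [hM, mul_assoc]
    refine ⟨fun h => (hr.dvd_mul.1 h).resolve_left fun h' => hr2 ?_, fun h => h.mul_left _⟩
    rw [hF] at h'
    exact (Nat.prime_dvd_prime_iff_eq hr Nat.prime_two).1 (hr.dvd_of_dvd_pow (hr.dvd_of_dvd_pow h'))
  have hcop : ∀ p : ℕ, p.Prime → p ∣ q ^ 2 + 1 → p ∣ q - 1 → False := fun p hp h1 h2 => by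
    have h3 : p ∣ (q + 1) * (q - 1) := h2.mul_left _
    rw [← Nat.sq_sub_sq, one_pow] at h3
    have h4 := Nat.dvd_sub h1 h3
    rw [show q ^ 2 + 1 - (q ^ 2 - 1) = 2 by omega] at h4
    have h5 := (Nat.prime_dvd_prime_iff_eq hp Nat.prime_two).1 h4
    subst h5
    omega
  have hcent : ∀ {r s : ℕ}, r.Prime → r ≠ 2 → s.Prime → r ≠ s →
      ∀ x : Cfsg.Lie.Sz F (2 ^ (m + 1)), orderOf x = s * r →
        (s ∣ q ^ 2 + 1 ∧ r ∣ q ^ 2 + 1) ∨ (s ∣ q - 1 ∧ r ∣ q - 1) := by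
    intro r s hr hr2 hs hne x hx
    have hx' : orderOf (t.symm x) = s * r := by rw [MulEquiv.orderOf_eq, hx]
    set y := (t.symm x) ^ s with hy
    have hyo : orderOf y = r := by
      rw [hy, orderOf_pow, hx', Nat.gcd_eq_right (dvd_mul_right s r), Nat.mul_div_cancel_left r hs.pos]
    have hmem : t.symm x ∈ centralizer ({y} : Set (Cfsg.Sz F m)) :=
      mem_centralizer_singleton_iff.2 (Commute.self_pow (t.symm x) s).eq
    have hd : s * r ∣ Nat.card (centralizer ({y} : Set (Cfsg.Sz F m))) := hx' ▸ orderOf_dvd_natCard _ hmem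
    rcases sz_centralizer_dvd hm hF hr hr2 hyo with h | h
    · exact Or.inl ⟨(dvd_mul_right _ _).trans (hd.trans h), (dvd_mul_left _ _).trans (hd.trans h)⟩
    · exact Or.inr ⟨(dvd_mul_right _ _).trans (hd.trans h), (dvd_mul_left _ _).trans (hd.trans h)⟩
  have hiso : ∀ r : ℕ, r.Prime → r ≠ 2 → ∀ x : Cfsg.Lie.Sz F (2 ^ (m + 1)), orderOf x ≠ 2 * r := by
    intro r hr hr2 x hx
    rcases hcent hr hr2 Nat.prime_two hr2 x hx with ⟨h, -⟩ | ⟨h, -⟩ <;> omega
  obtain ⟨r₀, hr₀, hr₀d⟩ := Nat.exists_prime_and_dvd (show q - 1 ≠ 1 by omega)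
  obtain ⟨s₀, hs₀, hs₀d⟩ := Nat.exists_prime_and_dvd (show q ^ 2 + 1 ≠ 1 by omega)
  have hr₀2 : r₀ ≠ 2 := by rintro rfl; omega
  have hs₀2 : s₀ ≠ 2 := by rintro rfl; omega
  have hrs : r₀ ≠ s₀ := fun h => hcop s₀ hs₀ hs₀d (h ▸ hr₀d)
  obtain ⟨hc, hQ, N, hN, hS, hna⟩ := of_prime_graph hpr hadj
    (by rw [hM, mul_assoc]; exact hev2.mul_right _) hiso hr₀ hs₀ hr₀2 hs₀2 hrs
    ((hodd _ hr₀ hr₀2).2 (hr₀d.mul_left _)) ((hodd _ hs₀ hs₀2).2 (hs₀d.mul_right _))
    (fun x hx => by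
      rcases hcent hs₀ hs₀2 hr₀ hrs.symm x hx with ⟨h, -⟩ | ⟨-, h⟩
      · exact hcop r₀ hr₀ h hr₀d
      · exact hcop s₀ hs₀ hs₀d h)
  haveI := hN
  haveI := hS
  have h3 : ¬ 3 ∣ Nat.card (G ⧸ Cfsg.pCore 2 G) := fun h => by
    have h' := (hQ 3 Nat.prime_three (by norm_num)).1 h
    rw [← Nat.card_congr t.toEquiv] at h'
    exact CfsgLib.Lie.Suz.three_not_dvd hm hF h'
  rcases simple_cases hna (hc.subgroup N) with ⟨K, iK, iK', hK, ⟨e⟩⟩ | ⟨K, iK, iK', hK, ⟨e⟩⟩ |
    ⟨K, iK, iK', m', hm', hK, ⟨e⟩⟩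
  · refine absurd ?_ h3
    refine dvd_trans ?_ (card_subgroup_dvd_card N)
    rw [Nat.card_congr e.toEquiv]
    have h := CfsgLib.Classical.card_psl2 (F := K)
    have h3d : 3 ∣ Fintype.card K * ((Fintype.card K - 1) * (Fintype.card K + 1)) := by
      rcases (show Fintype.card K % 3 = 0 ∨ Fintype.card K % 3 = 1 ∨ Fintype.card K % 3 = 2 by omega) with
        h' | h' | h'
      · exact (Nat.dvd_of_mod_eq_zero h').mul_right _
      · exact ((show 3 ∣ Fintype.card K - 1 by omega).mul_right _).mul_left _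
      · exact ((show 3 ∣ Fintype.card K + 1 by omega).mul_left _).mul_left _
    rw [← h] at h3d
    refine (Nat.prime_three.dvd_mul.1 h3d).resolve_left fun h' => ?_
    have := Nat.le_of_dvd (by norm_num) (h'.trans (Nat.gcd_dvd_left _ _))
    omega
  · haveI : Fintype (Projectivization K (Fin 3 → K)) := Fintype.ofFinite _
    refine absurd ?_ h3
    refine dvd_trans ?_ (card_subgroup_dvd_card N)
    rw [Nat.card_congr e.toEquiv, CfsgLib.Spor.Plane.card_psl_three_four K hK]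
    norm_num
  · obtain ⟨t'⟩ := CfsgLib.Lie.Suz.exists_twEquiv (F := K) hm' hK
    have htop := hc.eq_top_of_sz hm' hK (e.trans t'.symm)
    set q' := Fintype.card K with hq'
    have hQcard : Nat.card (G ⧸ Cfsg.pCore 2 G) = q' ^ 2 * (q' ^ 2 + 1) * (q' - 1) := by
      rw [show Nat.card (G ⧸ Cfsg.pCore 2 G) = Nat.card N by rw [htop, card_top],
        Nat.card_congr (e.trans t'.symm).toEquiv, CfsgLib.Lie.Suz.card_Sz hm' hK]
    have h4 : ∀ a : ℕ, (2 ^ a) ^ 2 + 1 ∣ 2 ^ (4 * a) - 1 ∧ 2 ^ a - 1 ∣ 2 ^ (4 * a) - 1 ∧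
        2 ^ (4 * a) - 1 = ((2 ^ a) ^ 2 + 1) * (2 ^ (2 * a) - 1) := fun a => by
      have e1 : 2 ^ (4 * a) - 1 = ((2 ^ a) ^ 2 + 1) * (2 ^ (2 * a) - 1) := by
        rw [show 4 * a = 2 * (2 * a) by ring, two_pow_sq_sub_one, mul_comm 2 a, pow_mul 2 a 2]
      refine ⟨e1 ▸ dvd_mul_right _ _, ?_, e1⟩
      rw [e1, two_pow_sq_sub_one a]
      exact (dvd_mul_left _ _).mul_left _
    have key : ∀ a b : ℕ, 3 ≤ a → ∀ r, IsPrim r (4 * a) →
        (r ∣ ((2 ^ a) ^ 2 + 1) * (2 ^ a - 1) → r ∣ ((2 ^ b) ^ 2 + 1) * (2 ^ b - 1)) → a ∣ b := by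
      intro a b ha r hr himp
      have hra : r ∣ (2 ^ a) ^ 2 + 1 := by
        have h := hr.2.1
        rw [(h4 a).2.2] at h
        exact (hr.1.dvd_mul.1 h).resolve_right (hr.2.2 _ (by omega) (by omega))
      have h' : r ∣ 2 ^ (4 * b) - 1 := by
        rcases hr.1.dvd_mul.1 (himp (hra.mul_right _)) with h | h
        · exact h.trans (h4 b).1
        · exact h.trans (h4 b).2.1
      exact Nat.dvd_of_mul_dvd_mul_left (by norm_num : 0 < 4) (hr.dvd (by omega) h')
    set n := 2 * m + 1 with hn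
    set n' := 2 * m' + 1 with hn'
    have hiff : ∀ r : ℕ, r.Prime → r ≠ 2 →
        (r ∣ (q' ^ 2 + 1) * (q' - 1) ↔ r ∣ (q ^ 2 + 1) * (q - 1)) := by
      intro r hr hr2
      rw [← hodd r hr hr2, ← hQ r hr hr2, hQcard, mul_assoc]
      refine ⟨fun h => h.mul_left _, fun h => (hr.dvd_mul.1 h).resolve_left fun h' => hr2 ?_⟩
      rw [hK] at h'
      exact (Nat.prime_dvd_prime_iff_eq hr Nat.prime_two).1 (hr.dvd_of_dvd_pow (hr.dvd_of_dvd_pow h'))
    obtain ⟨r, hr⟩ := exists_isPrim (n := 4 * n) (by omega) (by omega) (by omega)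
    obtain ⟨s, hs⟩ := exists_isPrim (n := 4 * n') (by omega) (by omega) (by omega)
    have d1 : n ∣ n' := key n n' (by omega) r hr fun h => by
      have h' : r ∣ (q ^ 2 + 1) * (q - 1) := by rwa [hF]
      have h'' := (hiff r hr.1 (hr.ne_two (by omega))).2 h'
      rwa [hK] at h''
    have d2 : n' ∣ n := key n' n (by omega) s hs fun h => by
      have h' : s ∣ (q' ^ 2 + 1) * (q' - 1) := by rwa [hK]
      have h'' := (hiff s hs.1 (hs.ne_two (by omega))).1 h'
      rwa [hF] at h''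
    have hmm : m' = m := by
      have := Nat.dvd_antisymm d1 d2
      omega
    subst hmm
    obtain ⟨e'⟩ := sz_congr (FiniteField.ringEquivOfCardEq (K := K) (K' := F) (by rw [← hq', ← hq, hK, hF])) (2 ^ (m' + 1))
    exact ⟨((Subgroup.topEquiv.symm.trans (MulEquiv.subgroupCongr htop.symm)).trans e).trans e'⟩

end CfsgLib.CIT
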