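import Cfsg.Agent.Lib.CIT.PrimeGraph
import Cfsg.Agent.Lib.Classical.ProjLine

/-!
# The two-dimensional model in characteristic two, and change of field
-/

set_option autoImplicit false
set_option linter.unusedSectionVars false
set_option linter.style.haveILetI false

namespace CfsgLib.CIT

open Subgroup Matrix

universe u v

/-- Upper unitriangular matrices. -/
def upMat {K : Type*} [Field K] (b : K) : Matrix.SpecialLinearGroup (Fin 2) K :=
  ⟨!![1, b; 0, 1], by simp [Matrix.det_fin_two_of]⟩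

/-- Diagonal matrices. -/
def diagMat {K : Type*} [Field K] (t : Kˣ) : Matrix.SpecialLinearGroup (Fin 2) K :=
  ⟨!![(t : K), 0; 0, ((t⁻¹ : Kˣ) : K)], by simp [Matrix.det_fin_two_of]⟩

theorem upMat_coe {K : Type*} [Field K] (b : K) :
    ((upMat b : Matrix.SpecialLinearGroup (Fin 2) K) : Matrix (Fin 2) (Fin 2) K) = !![1, b; 0, 1] := rfl

theorem diagMat_coe {K : Type*} [Field K] (t : Kˣ) :
    ((diagMat t : Matrix.SpecialLinearGroup (Fin 2) K) : Matrix (Fin 2) (Fin 2) K) =
      !![(t : K), 0; 0, ((t⁻¹ : Kˣ) : K)] := rfl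

/-- Upper unitriangular matrices, as a homomorphism. -/
def upHom (K : Type*) [Field K] : Multiplicative K →* Matrix.SpecialLinearGroup (Fin 2) K :=
  MonoidHom.mk' (fun b => upMat b.toAdd) fun a b => by
    apply Subtype.ext
    rw [Matrix.SpecialLinearGroup.coe_mul, upMat_coe, upMat_coe, upMat_coe]
    simp [Matrix.mul_fin_two, add_comm]

/-- Diagonal matrices, as a homomorphism. -/
def diagHom (K : Type*) [Field K] : Kˣ →* Matrix.SpecialLinearGroup (Fin 2) K :=
  MonoidHom.mk' diagMat fun a b => by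
    apply Subtype.ext
    rw [Matrix.SpecialLinearGroup.coe_mul, diagMat_coe, diagMat_coe, diagMat_coe]
    simp [Matrix.mul_fin_two, mul_comm]

variable {K : Type*} [Field K]

theorem upHom_apply (b : Multiplicative K) : upHom K b = upMat b.toAdd := rfl

theorem diagHom_apply (t : Kˣ) : diagHom K t = diagMat t := rfl

theorem upHom_injective : Function.Injective (upHom K) := fun a b h => by
  have h1 : (upMat a.toAdd).1 0 1 = (upMat b.toAdd).1 0 1 := congrFun (congrFun (congrArg Subtype.val h) 0) 1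
  simpa [upMat] using h1

theorem diagHom_injective : Function.Injective (diagHom K) := fun a b h => by
  have h1 : (diagMat a).1 0 0 = (diagMat b).1 0 0 := congrFun (congrFun (congrArg Subtype.val h) 0) 0
  exact Units.ext (by simpa [diagMat] using h1)

theorem diag_conj_up (t : Kˣ) (b : Multiplicative K) :
    diagHom K t * upHom K b * (diagHom K t)⁻¹ = upHom K (Multiplicative.ofAdd ((t : K) * t * b.toAdd)) := by
  rw [mul_inv_eq_iff_eq_mul]
  apply Subtype.ext
  rw [Matrix.SpecialLinearGroup.coe_mul, Matrix.SpecialLinearGroup.coe_mul, upHom_apply, upHom_apply,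
    diagHom_apply, upMat_coe, upMat_coe, diagMat_coe, toAdd_ofAdd]
  simp [Matrix.mul_fin_two]
  field_simp

theorem IsCIT.eq_top_of_psl_even {G : Type u} [Group G] [Finite G] (hc : IsCIT G) {N : Subgroup G} [N.Normal]
    {L : Type} [Field L] [Fintype L] {n : ℕ} (hn : 3 ≤ n) (hL : Fintype.card L = 2 ^ n)
    (e : N ≃* Matrix.ProjectiveSpecialLinearGroup (Fin 2) L) : N = ⊤ := by
  haveI : Fact (Nat.Prime 2) := ⟨Nat.prime_two⟩
  haveI : CharP L 2 := charP_of_card_eq_prime_pow (f := n) hL
  obtain ⟨e'⟩ := sl_two_equiv_psl (K := L)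
  set P := (upHom L).range with hP
  set D := (diagHom L).range with hD
  have hq8 : 8 ≤ Fintype.card L := hL ▸ Nat.pow_le_pow_right two_pos hn
  have hPc : Nat.card P = 2 ^ n := by
    rw [hP, ← Nat.card_congr (MonoidHom.ofInjective upHom_injective).toEquiv, Nat.card_congr Multiplicative.toAdd,
      Nat.card_eq_fintype_card, hL]
  have hDc : Nat.card D = 2 ^ n - 1 := by
    rw [hD, ← Nat.card_congr (MonoidHom.ofInjective diagHom_injective).toEquiv, Nat.card_units,
      Nat.card_eq_fintype_card, hL]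
  have hidx : ¬ 2 ∣ P.index := by
    have h := card_mul_index P
    rw [hPc, CfsgLib.Classical.card_sl2, hL] at h
    have hpos : 0 < 2 ^ n := Nat.two_pow_pos n
    have h' : P.index = (2 ^ n - 1) * (2 ^ n + 1) :=
      Nat.eq_of_mul_eq_mul_left hpos (by rw [h])
    rw [h']
    have h2 : 2 ∣ 2 ^ n := dvd_pow_self 2 (by omega)
    intro hd
    rcases Nat.prime_two.dvd_mul.1 hd with hd | hd <;> omega
  have hom : omZ P = P := by
    refine le_antisymm (omZ_le P) ?_
    rintro _ ⟨b, rfl⟩
    refine ⟨⟨b, rfl⟩, ?_, ?_⟩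
    · rw [← map_mul, show b * b = 1 from Multiplicative.toAdd.injective (by simp [CharTwo.add_self_eq_zero]),
        map_one]
    · rintro _ ⟨c, rfl⟩
      rw [← map_mul, ← map_mul, mul_comm]
  refine hc.eq_top_of_model (e.trans e'.symm) (P := P) (D := D) ?_ hidx ?_ ?_ ?_ ?_
  · exact IsPGroup.of_card (n := n) hPc
  · rintro _ ⟨t, rfl⟩
    refine mem_normalizer_iff.2 fun x => ⟨?_, ?_⟩
    · rintro ⟨b, rfl⟩
      exact ⟨_, (diag_conj_up t b).symm⟩
    · rintro ⟨b, hb⟩
      refine ⟨Multiplicative.ofAdd (((t⁻¹ : Lˣ) : L) * (t⁻¹ : Lˣ) * b.toAdd), ?_⟩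
      rw [← diag_conj_up, map_inv, hb]
      group
  · rw [hom, hPc, hDc]
    have := Nat.one_le_two_pow (n := n)
    omega
  · rw [hom, hPc]; omega
  · rw [hDc]
    have h2 : 2 ∣ 2 ^ n := dvd_pow_self 2 (by omega)
    have := Nat.one_le_two_pow (n := n)
    rw [Nat.odd_iff]
    omega

/-- `PSL₂` over isomorphic fields. -/
theorem psl_congr {F : Type u} {L : Type v} [Field F] [Field L] (σ : F ≃+* L) :
    Nonempty (Matrix.ProjectiveSpecialLinearGroup (Fin 2) F ≃* Matrix.ProjectiveSpecialLinearGroup (Fin 2) L) := by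
  let ψ : Matrix.SpecialLinearGroup (Fin 2) F ≃* Matrix.SpecialLinearGroup (Fin 2) L :=
    MulEquiv.ofBijective (Matrix.SpecialLinearGroup.map σ.toRingHom)
      ⟨fun A B h => by
        ext i j
        exact σ.injective (congrFun (congrFun (congrArg Subtype.val h) i) j),
      fun B => ⟨Matrix.SpecialLinearGroup.map σ.symm.toRingHom B, by
        ext i j
        simp⟩⟩
  refine ⟨QuotientGroup.congr _ _ ψ ?_⟩
  ext x
  rw [Subgroup.mem_map]
  constructor
  · rintro ⟨y, hy, rfl⟩
    rw [mem_center_iff] at hy ⊢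
    intro g
    obtain ⟨g, rfl⟩ := ψ.surjective g
    show ψ g * ψ y = ψ y * ψ g
    rw [← map_mul, hy, map_mul]
  · intro hx
    obtain ⟨y, rfl⟩ := ψ.surjective x
    refine ⟨y, mem_center_iff.2 fun g => ψ.injective ?_, rfl⟩
    rw [map_mul, map_mul]
    exact mem_center_iff.1 hx _

end CfsgLib.CIT
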