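import Cfsg.Agent.Lib.CIT.Offender

/-!
# CIT groups with nontrivial `O₂` have Sylow 2-subgroups TI modulo `O₂`
-/

set_option autoImplicit false
set_option linter.unusedSectionVars false
set_option linter.style.haveILetI false

open scoped commutatorElement

namespace CfsgLib.CIT

open Subgroup

universe u

variable {G : Type u} [Group G] [Finite G]

local notation "N[" X "]" => normalizer ((X : Subgroup G) : Set G)

theorem cj_normalizer (g : G) (H : Subgroup G) : cj g N[H] = N[cj g H] := by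
  ext x
  rw [mem_cj, ← cj_eq_self_iff, ← cj_eq_self_iff, cj_mul]
  refine ⟨fun h => ?_, fun h => ?_⟩
  · calc cj (x * g) H = cj (g * (g⁻¹ * x * g)) H := by rw [show g * (g⁻¹ * x * g) = x * g by group]
      _ = cj g H := by rw [← cj_mul, h]
  · calc cj (g⁻¹ * x * g) H = cj g⁻¹ (cj (x * g) H) := by
          rw [cj_mul, show g⁻¹ * (x * g) = g⁻¹ * x * g by group]
      _ = H := by rw [h, cj_mul, inv_mul_cancel, cj_one]

theorem IsRad.cj {E : Subgroup G} (h : IsRad E) (g : G) : IsRad (CfsgLib.CIT.cj g E) := by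
  refine ⟨isPGroup_cj h.two, fun e => h.ne ?_, le_antisymm ?_ (le_pc le_normalizer (isPGroup_cj h.two) le_rfl),
    fun U hU => ?_⟩
  · have h1 := congrArg (CfsgLib.CIT.cj g⁻¹) e
    rwa [cj_mul, inv_mul_cancel, cj_one, CfsgLib.CIT.cj, Subgroup.map_bot] at h1
  · intro x hx
    rw [mem_cj]
    have h1 : CfsgLib.CIT.cj g⁻¹ (Cfsg.pCoreOf 2 N[CfsgLib.CIT.cj g E]) ≤ Cfsg.pCoreOf 2 N[E] := by
      refine le_pc ?_ (isPGroup_cj (isPGroup_pc _)) ?_
      · rw [cj_le_iff, inv_inv, cj_normalizer]; exact CfsgLib.CIT.pc_le _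
      · intro y hy
        rw [← cj_normalizer, mem_cj, inv_inv]
        refine le_normalizer_pc _ ?_
        rw [← cj_normalizer, mem_cj, show g⁻¹ * (g * y * g⁻¹) * g = y by group]
        exact hy
    exact h.core.le (h1 (by rw [mem_cj, show g⁻¹⁻¹ * (g⁻¹ * x * g) * g⁻¹ = x by group]; exact hx))
  · have hU' : IsSyl N[E] (CfsgLib.CIT.cj g⁻¹ U) := by
      have h1 := isSyl_cj hU g⁻¹
      rwa [cj_normalizer, cj_mul, inv_mul_cancel, cj_one] at h1
    obtain ⟨V, hV, hne⟩ := h.two_syl _ hU'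
    refine ⟨CfsgLib.CIT.cj g V, ?_, fun e => hne (by rw [← e, cj_mul, inv_mul_cancel, cj_one])⟩
    have h1 := isSyl_cj hV g
    rwa [cj_normalizer] at h1

namespace Off

variable {E : Subgroup G} {q : ℕ} (d : Off E q)
include d

theorem isMulCommutative : IsMulCommutative E :=
  isMulCommutative_iff.2 fun x y => Subtype.ext (d.sp.comm x x.2 y y.2)

theorem jAb_eq {U : Subgroup G} (hU : IsSyl (normalizer (E : Set G)) U) : jAb U = U := by
  refine le_antisymm (jAb_le U) ?_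
  obtain ⟨A, hA, -, hAc, hUA⟩ := d.offender U hU
  have hEm : IsMaxAb U E :=
    ⟨d.sp.le_syl hU, d.isMulCommutative, fun B hB hB' => (hA.2.2 B hB hB').trans_eq (by rw [hAc, d.card])⟩
  exact hUA.le.trans (sup_le (le_jAb hA) (le_jAb hEm))

theorem not_jAb_le {U : Subgroup G} (hU : IsSyl (normalizer (E : Set G)) U) : ¬ jAb U ≤ E := by
  rw [d.jAb_eq hU]
  exact fun h => d.sp.rad.syl_ne hU (le_antisymm h (d.sp.le_syl hU))

/-- A normal subgroup of a Sylow subgroup meets `E`. -/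
theorem inf_ne_bot {U X : Subgroup G} (hU : IsSyl (normalizer (E : Set G)) U) (hXU : X ≤ U)
    (hn : U ≤ normalizer (X : Set G)) (hX : X ≠ ⊥) : E ⊓ X ≠ ⊥ := by
  haveI : Fact (Nat.Prime 2) := ⟨Nat.prime_two⟩
  haveI := hU.2.1.isNilpotent
  haveI : (X.subgroupOf U).Normal := (normal_subgroupOf_iff_le_normalizer hXU).2 hn
  have hz := CfsgLib.Coprime.nilpotent_inf_center_ne_bot (X.subgroupOf U) fun h => hX (by
    rw [← map_subgroupOf_eq_of_le hXU, h, Subgroup.map_bot])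
  obtain ⟨⟨⟨z, hzU⟩, hzX, hzc⟩, hz1⟩ := ne_bot_iff_exists_ne_one.1 hz
  refine ne_bot_iff_exists_ne_one.2 ⟨⟨z, d.sp.rad.centralizer_le d.sp.cit (mem_centralizer_iff.2 fun e he => ?_),
    hzX⟩, fun e => hz1 (Subtype.ext (Subtype.ext (congrArg (fun w : (E ⊓ X : Subgroup G) => (w : G)) e)))⟩
  exact congrArg Subtype.val (mem_center_iff.1 hzc ⟨e, d.sp.le_syl hU he⟩)

end Off

/-- Distinct offending radicals never share a Sylow subgroup only if the Sylow 2-subgroups are TI. -/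
theorem ti_of_unique (hc : IsCIT G) (hQ : ProperTI G) (hO : NoCore G)
    (huniq : ∀ (E E' U : Subgroup G) (q q' : ℕ), Off E q → Off E' q' → IsSyl N[E] U → E' ≤ U →
      U ≤ N[E'] → E = E')
    {T T' : Subgroup G} (hT : IsSyl ⊤ T) (hT' : IsSyl ⊤ T') (h : T ⊓ T' ≠ ⊥) : T = T' := by
  classical
  have hti : ∀ E : Subgroup G, IsRad E → IsTIMod N[E] := fun E hE =>
    hQ _ (hO E hE.two hE.ne) (fun e => hE.ne (hE.core.symm.trans e))
  -- Sylow subgroups of an offending normalizer are Sylow subgroups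
  have htop : ∀ (E U T : Subgroup G) (q : ℕ), Off E q → IsSyl N[E] U → IsSyl ⊤ T → U ≤ T → T = U := by
    intro E U T q hE hU hT hUT
    refine (eq_of_inf_normalizer_le hT.2.1 hUT fun x hx => ?_).symm
    rw [← hU.inf_eq hUT hT.2.1]
    refine ⟨hx.1, cj_eq_self_iff.1 ?_⟩
    have hxU : cj x U = U := cj_eq_self_iff.2 hx.2
    have hrad := hE.sp.rad.cj x
    have hUx : IsSyl N[cj x E] U := by
      have h1 := isSyl_cj hU x
      rwa [cj_normalizer, hxU] at h1
    obtain ⟨q', hE'⟩ := off_of_radical hc hrad (hti _ hrad) hUx (fun hle => hE.not_jAb_le hU (by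
      rw [← hxU, ← cj_jAb] at hle
      have := cj_mono (g := x⁻¹) hle
      rwa [cj_mul, cj_mul, inv_mul_cancel, cj_one, cj_one] at this))
    exact (huniq E _ U q q' hE hE' hU (hrad.le_normalizer_syl hUx) hUx.1).symm
  -- the key
  let key : Subgroup G → Subgroup G := fun T =>
    if h : ∃ E, (∃ q, Off E q) ∧ IsSyl N[E] T then h.choose else jAb T
  let f : Subgroup G → Subgroup G := fun E => if ∃ q, Off E q then E else jAb E
  have hkey1 : ∀ E T : Subgroup G, (∃ q, Off E q) → IsSyl N[E] T → key T = E := by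
    intro E T hE hET
    have hex : ∃ E, (∃ q, Off E q) ∧ IsSyl N[E] T := ⟨E, hE, hET⟩
    show (if h : ∃ E, (∃ q, Off E q) ∧ IsSyl N[E] T then h.choose else jAb T) = E
    rw [dif_pos hex]
    obtain ⟨⟨q', hE'⟩, hT'⟩ := hex.choose_spec
    obtain ⟨q, hE⟩ := hE
    exact huniq _ E T q' q hE' hE hT' (hE.sp.le_syl hET) hET.1
  have hkey2 : ∀ T : Subgroup G, (¬ ∃ E, (∃ q, Off E q) ∧ IsSyl N[E] T) → key T = jAb T :=
    fun T h => dif_neg h
  refine ti_of_key hc hO (key := key) (f := f) (fun E U T hE hU hT hUT => ?_) (fun T hT => ?_)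
    (fun g T hT => ?_) hT hT' h
  · by_cases hoff : ∃ q, Off E q
    · obtain ⟨q, hE'⟩ := hoff
      have hTU := htop E U T q hE' hU hT hUT
      rw [hkey1 E T ⟨q, hE'⟩ (hTU ▸ hU)]
      exact (if_pos (⟨q, hE'⟩ : ∃ q, Off E q)).symm
    · have hJ : jAb U ≤ E := by
        by_contra hJ
        exact hoff (off_of_radical hc hE (hti E hE) hU hJ)
      obtain ⟨hTU, hJT⟩ := push hQ hO hE hU hJ hT hUT
      rw [hkey2 T ?_, hJT]
      · exact (if_neg hoff).symm
      · rintro ⟨E', ⟨q', hE'⟩, hT'⟩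
        have h1 : jAb T ≤ E := by rw [hTU]; exact hJ
        rw [hE'.jAb_eq hT', hTU] at h1
        exact hE.syl_ne hU (le_antisymm h1 (hE.le_normalizer_syl hU))
  · by_cases hex : ∃ E, (∃ q, Off E q) ∧ IsSyl N[E] T
    · obtain ⟨E, ⟨q, hE⟩, hET⟩ := hex
      rw [hkey1 E T ⟨q, hE⟩ hET]
      exact ⟨hE.sp.le_syl hET, hE.sp.rad.ne, hET.1⟩
    · rw [hkey2 T hex]
      refine ⟨jAb_le T, jAb_ne_bot fun e => ?_, le_normalizer.trans (normalizer_le_normalizer_jAb T)⟩
      haveI : Fact (Nat.Prime 2) := ⟨Nat.prime_two⟩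
      obtain ⟨S, hS, -⟩ := exists_syl_top (hT'.2.1)
      obtain ⟨g, -, hg⟩ := hT.exists_conj hT'
      rw [e, CfsgLib.CIT.cj, Subgroup.map_bot] at hg
      exact h (le_bot_iff.1 (inf_le_right.trans hg.ge))
  · have hconj : ∀ (g : G) (E T : Subgroup G), (∃ q, Off E q) → IsSyl N[E] T →
        ∃ q, Off (cj g E) q ∧ IsSyl N[cj g E] (cj g T) := by
      intro g E T hE hET
      obtain ⟨q, hE⟩ := hE
      have hrad := hE.sp.rad.cj g
      have hTg : IsSyl N[cj g E] (cj g T) := by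
        have h1 := isSyl_cj hET g
        rwa [cj_normalizer] at h1
      obtain ⟨q', hE'⟩ := off_of_radical hc hrad (hti _ hrad) hTg (fun hle => hE.not_jAb_le hET (by
        rw [← cj_jAb] at hle
        have := cj_mono (g := g⁻¹) hle
        rwa [cj_mul, cj_mul, inv_mul_cancel, cj_one, cj_one] at this))
      exact ⟨q', hE', hTg⟩
    by_cases hex : ∃ E, (∃ q, Off E q) ∧ IsSyl N[E] T
    · obtain ⟨E, hE, hET⟩ := hex
      obtain ⟨q, hE', hT'⟩ := hconj g E T hE hET
      rw [hkey1 E T hE hET, hkey1 _ _ ⟨q, hE'⟩ hT']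
    · rw [hkey2 T hex, hkey2 (cj g T) ?_, cj_jAb]
      rintro ⟨E, hE, hET⟩
      obtain ⟨q, hE', hT'⟩ := hconj g⁻¹ E _ hE hET
      rw [cj_mul, inv_mul_cancel, cj_one] at hT'
      exact hex ⟨_, ⟨q, hE'⟩, hT'⟩

/-- The core of the whole group. -/
theorem pc_top : Cfsg.pCoreOf 2 (⊤ : Subgroup G) = Cfsg.pCore 2 G := by
  haveI : Fact (Nat.Prime 2) := ⟨Nat.prime_two⟩
  haveI := CfsgLib.Coprime.pCore_normal' (G := G) 2
  haveI : (Cfsg.pCoreOf 2 (⊤ : Subgroup G)).Normal :=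
    normalizer_eq_top_iff.1 (eq_top_iff.2 (le_normalizer_pc ⊤))
  exact le_antisymm (CfsgLib.Coprime.le_pCore (isPGroup_pc _))
    (le_pc le_top (CfsgLib.Coprime.pCore_isPGroup 2) (normalizer_eq_top_iff.2 inferInstance).ge)

theorem noCore_of_pCore (h : Cfsg.pCore 2 G = ⊥) : NoCore G := fun X hX hne e => by
  haveI : X.Normal := normalizer_eq_top_iff.1 e
  exact hne (le_bot_iff.1 (h ▸ CfsgLib.Coprime.le_pCore hX))

/-- Restriction to a subgroup. -/
theorem isTIMod_of_top {H : Subgroup G} (h : IsTIMod (⊤ : Subgroup H)) : IsTIMod H := by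
  intro U U' hU hU' hne x hx
  have key : ∀ U : Subgroup G, IsSyl H U → IsSyl (⊤ : Subgroup H) (U.subgroupOf H) := fun U hU =>
    ⟨le_top, hU.2.1.comap_subtype, fun V hle _ hV => by
      have h1 : V.map H.subtype = U := hU.2.2 _ (by
        rw [← map_subgroupOf_eq_of_le hU.1]; exact map_mono hle) (map_subtype_le _) (hV.map _)
      rw [← h1]
      exact (comap_map_eq_self_of_injective H.subtype_injective V).symm⟩
  have h1 := h _ _ (key U hU) (key U' hU') (fun e => hne (by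
    rw [← map_subgroupOf_eq_of_le hU.1, e, map_subgroupOf_eq_of_le hU'.1]))
    (show (⟨x, hU.1 hx.1⟩ : H) ∈ U.subgroupOf H ⊓ U'.subgroupOf H from ⟨hx.1, hx.2⟩)
  rw [pc_top] at h1
  exact ⟨_, h1, rfl⟩

/-- Two offending radicals of `G / D` sharing a nontrivial element are equal. -/
theorem off_unique_quotient (hc : IsCIT G) (D : Subgroup G) [D.Normal] (hD : D = Cfsg.pCore 2 G)
    (hD1 : D ≠ ⊥) {E E' : Subgroup (G ⧸ D)} {q q' : ℕ} (hE : Off E q) (hE' : Off E' q')
    (h : E ⊓ E' ≠ ⊥) : E = E' := by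
  classical
  haveI : Fact (Nat.Prime 2) := ⟨Nat.prime_two⟩
  have hDp : IsPGroup 2 D := hD ▸ CfsgLib.Coprime.pCore_isPGroup 2
  let W : Subgroup G :=
    { carrier := {x | x ∈ D ∧ (∀ d ∈ D, d * x = x * d) ∧ x * x = 1}
      one_mem' := ⟨D.one_mem, fun d _ => by rw [mul_one, one_mul], mul_one 1⟩
      mul_mem' := fun {x y} hx hy => ⟨D.mul_mem hx.1 hy.1,
        fun d hd => by rw [← mul_assoc, hx.2.1 d hd, mul_assoc, hy.2.1 d hd, mul_assoc],
        by
          calc x * y * (x * y) = x * (y * x) * y := by group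
            _ = x * (x * y) * y := by rw [hx.2.1 y hy.1]
            _ = (x * x) * (y * y) := by group
            _ = 1 := by rw [hx.2.2, hy.2.2, one_mul]⟩
      inv_mem' := fun {x} hx => ⟨D.inv_mem hx.1,
        fun d hd => ((show Commute d x from hx.2.1 d hd).inv_right).eq,
        by rw [← mul_inv_rev, hx.2.2, inv_one]⟩ }
  have hWD : W ≤ D := fun x hx => hx.1
  have hWsq : ∀ x ∈ W, x * x = 1 := fun x hx => hx.2.2
  have hWc : ∀ x ∈ W, ∀ y ∈ W, x * y = y * x := fun x hx y hy => hy.2.1 x hx.1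
  have hWn : ∀ g : G, ∀ x ∈ W, g * x * g⁻¹ ∈ W := fun g x hx =>
    ⟨Subgroup.Normal.conj_mem inferInstance x hx.1 g, fun d hd => by
      have hd' : g⁻¹ * d * g ∈ D := by simpa using Subgroup.Normal.conj_mem (H := D) inferInstance d hd g⁻¹
      calc d * (g * x * g⁻¹) = g * ((g⁻¹ * d * g) * x) * g⁻¹ := by group
        _ = g * (x * (g⁻¹ * d * g)) * g⁻¹ := by rw [hx.2.1 _ hd']
        _ = g * x * g⁻¹ * d := by group,
      by rw [show g * x * g⁻¹ * (g * x * g⁻¹) = g * (x * x) * g⁻¹ by group, hx.2.2, mul_one, mul_inv_cancel]⟩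
  have hW1 : W ≠ ⊥ := by
    haveI : Nontrivial D := (nontrivial_iff_ne_bot D).2 hD1
    haveI := hDp.center_nontrivial
    obtain ⟨⟨z, hz⟩, hz1⟩ := exists_ne (1 : center D)
    obtain ⟨k, hk⟩ := orderOf_two_pow hDp z.2
    have h2 : 2 ∣ orderOf (z : G) := by
      rw [hk]
      refine dvd_pow_self 2 fun e => hz1 (Subtype.ext (Subtype.ext (orderOf_eq_one_iff.1 ?_)))
      rw [hk, e, pow_zero]
    have ho := orderOf_pow_orderOf_div (orderOf_pos (z : G)).ne' h2
    intro hb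
    refine CfsgLib.Invol.invol_ne_one ho (mem_bot.1 (hb ▸ ?_))
    exact (⟨D.pow_mem z.2 _, fun d hd => ((show Commute d (z : G) from
      congrArg Subtype.val (mem_center_iff.1 hz ⟨d, hd⟩)).pow_right _).eq,
      CfsgLib.Invol.invol_mul_self ho⟩ : _ ∈ W)
  haveI hWnormal : W.Normal := ⟨fun x hx g => hWn g x hx⟩
  have hCW : centralizer (W : Set G) ≤ D := by
    rw [hD]
    exact CfsgLib.Coprime.le_pCore (hc.isPGroup_centralizer (hDp.to_le hWD) hW1)
  set π := QuotientGroup.mk' D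
  have hcore : Cfsg.pCore 2 (G ⧸ D) = ⊥ := by subst hD; exact CfsgLib.Coprime.pCore_quotient_eq_bot 2
  -- facts about one offender
  have main : ∀ (E : Subgroup (G ⧸ D)) (q : ℕ), Off E q →
      (∀ w ∈ W, ∀ e : G, π e ∈ E → ∀ e' : G, π e' ∈ E → e' * (w * (e * w * e⁻¹)) = w * (e * w * e⁻¹) * e') ∧
      (∀ e : G, π e ∈ E → π e ≠ 1 → ∀ w ∈ W, e * w = w * e → ∀ e' : G, π e' ∈ E → e' * w = w * e') := by
    intro E q hE
    obtain ⟨U, hU, -⟩ := exists_syl hE.sp.rad.two (le_normalizer : E ≤ _)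
    obtain ⟨a, ha, haE⟩ := SetLike.not_le_iff_exists.1
      (fun hle => hE.sp.rad.syl_ne hU (le_antisymm hle (hE.sp.le_syl hU)))
    obtain ⟨rq, hrN, hr3, hr1, -⟩ := hE.sp.exists_three hE.card hE.card_syl
      (fun W hW => ⟨by rw [(hE.syl W hW).1, hE.card], (hE.syl W hW).2.1, (hE.syl W hW).2.2⟩) hU ha haE
    obtain ⟨r₀, rfl⟩ := QuotientGroup.mk'_surjective D rq
    haveI : Fact (Nat.Prime 3) := ⟨Nat.prime_three⟩
    obtain ⟨r, hro, her⟩ := exists_odd_preimage π (x := r₀) (by rw [orderOf_eq_prime hr3 hr1]; decide)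
    rw [show QuotientGroup.mk' D r₀ = π r₀ from rfl, ← her] at hrN hr3 hr1
    have hr3' : r ^ 3 = 1 := by
      refine eq_one_of_two_of_odd hDp ((QuotientGroup.eq_one_iff (N := D) _).1 ?_)
        (hro.of_dvd_nat (orderOf_pow_dvd 3))
      show π (r ^ 3) = 1
      rw [map_pow, hr3]
    have hr1' : r ≠ 1 := fun e => hr1 (by rw [e, map_one])
    set Eh := E.comap π with hEh
    have hEhp : IsPGroup 2 Eh := hE.sp.rad.two.comap_of_ker_isPGroup π
      (by rw [QuotientGroup.ker_mk']; exact hDp)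
    have hrn : r ∈ normalizer (Eh : Set G) := mem_normalizer_iff.2 fun x => by
      simp only [hEh, mem_comap, map_mul, map_inv]
      exact mem_normalizer_iff.1 hrN (π x)
    have hDE : D ≤ Eh := fun x hx => by
      rw [hEh, mem_comap, show π x = 1 from (QuotientGroup.eq_one_iff x).2 hx]; exact one_mem _
    have hinvw : ∀ w ∈ W, ∀ e : G, w * (e * w * e⁻¹) = ⁅w, e⁆ := fun w hw e => by
      have hi : w⁻¹ = w := inv_eq_of_mul_eq_one_right (hWsq w hw)
      rw [commutatorElement_def, hi]; group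
    have h1 : ∀ w ∈ W, ∀ e : G, π e ∈ E → ∀ e' : G, π e' ∈ E →
        e' * (w * (e * w * e⁻¹)) = w * (e * w * e⁻¹) * e' := fun w hw e he e' he' => by
      rw [hinvw w hw e]
      exact (hc.commute_commutator hEhp hr3' hr1' hrn (hDE (hWD hw)) he he').symm.eq
    refine ⟨h1, fun e he he1 w hw hew e' he' => ?_⟩
    -- an involution in the coset inverting an odd element
    have heD : e ∉ D := fun hd => he1 ((QuotientGroup.eq_one_iff e).2 hd)
    have he2 : e * e ∈ D := (QuotientGroup.eq_one_iff _).1 (show π (e * e) = 1 by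
      rw [map_mul]; exact hE.sp.sq _ he)
    have ho : orderOf (π e) = 2 := orderOf_eq_prime (by rw [pow_two]; exact hE.sp.sq _ he) he1
    obtain ⟨xq, hx1, hx2, hx3⟩ := CfsgLib.Invol.exists_odd_inverted_of_notMem_pCore ho
      (by rw [hcore]; exact fun hh => he1 (mem_bot.1 hh))
    obtain ⟨x₀, rfl⟩ := QuotientGroup.mk'_surjective D xq
    obtain ⟨x, hxo, hex⟩ := exists_odd_preimage π (x := x₀) hx2
    rw [show QuotientGroup.mk' D x₀ = π x₀ from rfl, ← hex] at hx1 hx3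
    obtain ⟨s, hs1, hs2, hs3⟩ := hc.exists_lift_inverting hDp hxo (fun e0 => hx1 (by rw [e0, map_one]))
      heD he2 ((QuotientGroup.eq_one_iff _).1 (show π _ = 1 by
        rw [map_mul, map_mul, map_mul, map_inv, hx3, inv_mul_cancel]))
    have hfixeq : ∀ v ∈ W, (s * v = v * s ↔ e * v = v * e) := fun v hv => by
      have hd : s * e⁻¹ * v = v * (s * e⁻¹) := hv.2.1 _ hs1
      constructor
      · intro hh
        calc e * v = (s * e⁻¹)⁻¹ * (s * v) := by group
          _ = (s * e⁻¹)⁻¹ * v * s := by rw [hh]; group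
          _ = v * (s * e⁻¹)⁻¹ * s := by rw [((show Commute (s * e⁻¹) v from hd).inv_left).eq]
          _ = v * e := by group
      · intro hh
        calc s * v = s * e⁻¹ * (e * v) := by group
          _ = (s * e⁻¹ * v) * e := by rw [hh]; group
          _ = v * s := by rw [hd]; group
    set C := W ⊓ centralizer ({s} : Set G)
    have hmemC : ∀ v, v ∈ C ↔ v ∈ W ∧ s * v = v * s := fun v =>
      ⟨fun hv => ⟨hv.1, (mem_centralizer_singleton_iff.1 hv.2).symm⟩,
        fun hv => ⟨hv.1, mem_centralizer_singleton_iff.2 hv.2.symm⟩⟩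
    have hsi : s⁻¹ = s := CfsgLib.Invol.invol_inv hs2
    let f : W → C := fun v => ⟨(v : G) * (s * v * s⁻¹), (hmemC _).2 ⟨W.mul_mem v.2 (hWn s v v.2), by
      have hss : s * (s * v * s⁻¹) * s⁻¹ = (v : G) := by
        calc s * (s * v * s⁻¹) * s⁻¹ = (s * s) * v * (s * s)⁻¹ := by group
          _ = v := by rw [CfsgLib.Invol.invol_mul_self hs2]; group
      calc s * ((v : G) * (s * v * s⁻¹)) = (s * v * s⁻¹) * (s * (s * v * s⁻¹) * s⁻¹) * s := by group
        _ = (s * v * s⁻¹) * v * s := by rw [hss]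
        _ = (v : G) * (s * v * s⁻¹) * s := by rw [hWc _ (hWn s v v.2) _ v.2]⟩⟩
    have hker : ∀ v v' : W, f v = f v' → (v : G)⁻¹ * v' ∈ C := fun v v' hvv => by
      have e' : (v : G) * (s * v * s⁻¹) = v' * (s * v' * s⁻¹) := congrArg Subtype.val hvv
      refine (hmemC _).2 ⟨W.mul_mem (W.inv_mem v.2) v'.2, ?_⟩
      have ei : ∀ z : W, (z : G)⁻¹ = z := fun z => inv_eq_of_mul_eq_one_right (hWsq _ z.2)
      have hxy : (v : G)⁻¹ * v' = s * v * s⁻¹ * (s * v' * s⁻¹)⁻¹ := by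
        rw [eq_mul_inv_iff_mul_eq, mul_assoc, inv_mul_eq_iff_eq_mul, e']
      calc s * ((v : G)⁻¹ * v') = s * (v * (v' : G)⁻¹) * s⁻¹ * s := by rw [ei v, ei v']; group
        _ = (s * v * s⁻¹ * (s * v' * s⁻¹)⁻¹) * s := by group
        _ = (v : G)⁻¹ * v' * s := by rw [hxy]
    -- disjointness from a conjugate
    have hCC : C ⊓ CfsgLib.CIT.cj x C = ⊥ := (eq_bot_iff_forall _).2 fun v hv => by
      obtain ⟨hv1, v0, hv0, hve⟩ := hv
      have hve' : x * v0 * x⁻¹ = v := hve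
      have a1 := ((hmemC _).1 hv1).2
      have a2 : (x * s * x⁻¹) * v = v * (x * s * x⁻¹) := by
        calc (x * s * x⁻¹) * v = x * (s * v0) * x⁻¹ := by rw [← hve']; group
          _ = x * (v0 * s) * x⁻¹ := by rw [((hmemC _).1 hv0).2]
          _ = v * (x * s * x⁻¹) := by rw [← hve']; group
      have a3 : s * (x * s * x⁻¹) = x⁻¹ * x⁻¹ := by
        calc s * (x * s * x⁻¹) = (s * x * s⁻¹) * (s * s) * x⁻¹ := by group
          _ = x⁻¹ * x⁻¹ := by rw [hs3, CfsgLib.Invol.invol_mul_self hs2, mul_one]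
      have hc3 : Commute (s * (x * s * x⁻¹)) v :=
        (show Commute s v from a1).mul_left (show Commute (x * s * x⁻¹) v from a2)
      rw [a3] at hc3
      refine hc.fpf hDp (hWD ((hmemC _).1 hv1).1) (y := x⁻¹ * x⁻¹) ?_ ?_ hc3.eq
      · rw [← pow_two]; exact ((orderOf_inv x).symm ▸ hxo).of_dvd_nat (orderOf_pow_dvd 2)
      · intro e0
        exact hx1 (by rw [show x = 1 from inv_eq_one.1 (CfsgLib.Invol.eq_one_of_odd_of_mul_self
          (by rwa [orderOf_inv]) e0), map_one])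
    have hb : Nat.card C * Nat.card C ≤ Nat.card W := by
      have h2 := CfsgLib.Fusion.card_mul_le_sup_inf C (CfsgLib.CIT.cj x C)
      rw [hCC, card_bot, mul_one, card_cj] at h2
      refine h2.trans (card_le_of_le (sup_le inf_le_left fun v hv => ?_))
      obtain ⟨v0, hv0, rfl⟩ := hv
      exact hWn x v0 hv0.1
    have hsurj : Function.Surjective f := by
      have h2 : Nat.card C ≤ Nat.card (Set.range f) :=
        Nat.le_of_mul_le_mul_right (hb.trans (card_le_range_mul f hker)) Nat.card_pos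
      rw [← Set.range_eq_univ]
      exact Set.eq_of_subset_of_ncard_le (Set.subset_univ _)
        (by rw [Set.ncard_univ, ← Nat.card_coe_set_eq]; exact h2) (Set.toFinite _)
    obtain ⟨v, hv⟩ := hsurj ⟨w, (hmemC w).2 ⟨hw, (hfixeq w hw).2 hew⟩⟩
    have hv' : (v : G) * (s * v * s⁻¹) = w := congrArg Subtype.val hv
    rw [← hv']
    refine h1 v v.2 s ?_ e' he'
    have : π s = π e := by
      rw [← mul_inv_eq_one, ← map_inv, ← map_mul]
      exact (QuotientGroup.eq_one_iff _).2 hs1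
    rwa [this]
  obtain ⟨a1, a2⟩ := main E q hE
  obtain ⟨b1, b2⟩ := main E' q' hE'
  obtain ⟨⟨zq, hz⟩, hz1⟩ := ne_bot_iff_exists_ne_one.1 h
  obtain ⟨z, rfl⟩ := QuotientGroup.mk'_surjective D zq
  have hz1' : π z ≠ 1 := fun e => hz1 (Subtype.ext e)
  -- the common fixed space
  have hC1 : ∀ w ∈ W, ∀ e : G, π e ∈ E → ∀ e' : G, π e' ∈ E' →
      e' * (w * (e * w * e⁻¹)) = w * (e * w * e⁻¹) * e' := fun w hw e he e' he' =>
    b2 z hz.2 hz1' _ (W.mul_mem hw (hWn e w hw)) (a1 w hw e he z hz.1) e' he'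
  have hC2 : ∀ w ∈ W, ∀ e : G, π e ∈ E → ∀ e' : G, π e' ∈ E' →
      e * (w * (e' * w * e'⁻¹)) = w * (e' * w * e'⁻¹) * e := fun w hw e he e' he' =>
    a2 z hz.1 hz1' _ (W.mul_mem hw (hWn e' w hw)) (b1 w hw e' he' z hz.2) e he
  have hcomm : ∀ e : G, π e ∈ E → ∀ e' : G, π e' ∈ E' → π e * π e' = π e' * π e := by
    intro e he e' he'
    rw [← map_mul, ← map_mul, ← mul_inv_eq_one, ← map_inv, ← map_mul]
    refine (QuotientGroup.eq_one_iff _).2 (hCW (mem_centralizer_iff.2 fun w hw => ?_))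
    have hk : ∀ v ∈ W, e * e' * v * (e * e')⁻¹ = e' * e * v * (e' * e)⁻¹ := fun v hv => by
      set c := v * (e * v * e⁻¹) with hcdef
      set c' := v * (e' * v * e'⁻¹) with hcdef'
      have e1 : e * v * e⁻¹ = v * c := by rw [hcdef, ← mul_assoc v v, hWsq v hv, one_mul]
      have e2 : e' * v * e'⁻¹ = v * c' := by rw [hcdef', ← mul_assoc v v, hWsq v hv, one_mul]
      have f1 : e' * c * e'⁻¹ = c := by rw [hC1 v hv e he e' he', mul_inv_cancel_right]
      have f2 : e * c' * e⁻¹ = c' := by rw [hC2 v hv e he e' he', mul_inv_cancel_right]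
      have hcm : c * c' = c' * c :=
        hWc _ (W.mul_mem hv (hWn e v hv)) _ (W.mul_mem hv (hWn e' v hv))
      calc e * e' * v * (e * e')⁻¹ = (e * v * e⁻¹) * (e * (v⁻¹ * (e' * v * e'⁻¹)) * e⁻¹) := by group
        _ = v * c * c' := by rw [e2, inv_mul_cancel_left, e1, f2]
        _ = v * c' * c := by rw [mul_assoc, hcm, ← mul_assoc]
        _ = (e' * v * e'⁻¹) * (e' * (v⁻¹ * (e * v * e⁻¹)) * e'⁻¹) := by
            rw [e1, inv_mul_cancel_left, e2, f1]
        _ = e' * e * v * (e' * e)⁻¹ := by group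
    have hk' := hk ((e' * e)⁻¹ * w * (e' * e)) (by simpa using hWn (e' * e)⁻¹ w hw)
    rw [show e' * e * ((e' * e)⁻¹ * w * (e' * e)) * (e' * e)⁻¹ = w by group] at hk'
    calc w * (e * e' * (e' * e)⁻¹)
        = (e * e' * ((e' * e)⁻¹ * w * (e' * e)) * (e * e')⁻¹) * (e * e' * (e' * e)⁻¹) := by rw [hk']
      _ = e * e' * (e' * e)⁻¹ * w := by group
  refine le_antisymm (fun x hx => ?_) fun x hx => ?_ <;> obtain ⟨e, rfl⟩ := QuotientGroup.mk'_surjective D x
  · refine hE'.sp.rad.centralizer_le hE'.sp.cit (mem_centralizer_iff.2 fun y hy => ?_)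
    obtain ⟨e', rfl⟩ := QuotientGroup.mk'_surjective D y
    exact (hcomm e hx e' hy).symm
  · refine hE.sp.rad.centralizer_le hE.sp.cit (mem_centralizer_iff.2 fun y hy => ?_)
    obtain ⟨e', rfl⟩ := QuotientGroup.mk'_surjective D y
    exact hcomm e' hy e hx

/-- A CIT group is TI modulo a nontrivial `O₂`, for every order. -/
theorem isTIMod_top : ∀ (n : ℕ) (G : Type u) [Group G] [Finite G], Nat.card G = n → IsCIT G →
    Cfsg.pCore 2 G ≠ ⊥ → IsTIMod (⊤ : Subgroup G) := by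
  intro n
  induction n using Nat.strong_induction_on with
  | _ n ih =>
  intro G _ _ hn hc hD1
  classical
  haveI : Fact (Nat.Prime 2) := ⟨Nat.prime_two⟩
  intro T T' hT hT' hne
  rw [pc_top]
  haveI := CfsgLib.Coprime.pCore_normal' (G := G) 2
  set D := Cfsg.pCore 2 G with hD
  have hDp : IsPGroup 2 D := CfsgLib.Coprime.pCore_isPGroup 2
  have hcard : Nat.card (G ⧸ D) < n := by
    have h1 := Subgroup.card_eq_card_quotient_mul_card_subgroup D
    have h2 : 1 < Nat.card D := (one_lt_card_iff_ne_bot D).2 hD1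
    have h3 : 0 < Nat.card (G ⧸ D) := Nat.card_pos
    rw [← hn, h1]
    exact lt_mul_of_one_lt_right h3 h2
  have hc' := hc.quotient D hDp
  have hQ : ProperTI (G ⧸ D) := fun H hH hHne => isTIMod_of_top
    (ih (Nat.card H) ((card_le_card_group H).trans_lt hcard) H rfl (hc'.subgroup H) fun e => hHne (by
      rw [Cfsg.pCoreOf, e, Subgroup.map_bot]))
  have hO : NoCore (G ⧸ D) := noCore_of_pCore (CfsgLib.Coprime.pCore_quotient_eq_bot 2)
  set π := QuotientGroup.mk' D
  have hmap : ∀ T : Subgroup G, IsSyl ⊤ T → IsSyl ⊤ (T.map π) ∧ (T.map π).comap π = T := by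
    intro T hT
    have hDT : D ≤ T := by rw [hD, ← pc_top]; exact hT.pc_le
    have hcm : (T.map π).comap π = T := by
      rw [comap_map_eq, QuotientGroup.ker_mk', sup_eq_left.2 hDT]
    refine ⟨⟨le_top, hT.2.1.map π, fun V hle _ hV => ?_⟩, hcm⟩
    have h1 : V.comap π = T := hT.2.2 _ (hcm.ge.trans (comap_mono hle)) le_top
      (hV.comap_of_ker_isPGroup π (by rw [QuotientGroup.ker_mk']; exact hDp))
    rw [← h1, map_comap_eq_self_of_surjective (QuotientGroup.mk'_surjective D)]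
  intro x hx
  by_contra hxD
  obtain ⟨hTq, hTc⟩ := hmap T hT
  obtain ⟨hTq', hTc'⟩ := hmap T' hT'
  refine hne ?_
  rw [← hTc, ← hTc', ti_of_unique hc' hQ hO ?_ hTq hTq' ?_]
  · intro E E' U q q' hE hE' hU hle hn'
    exact off_unique_quotient hc D hD hD1 hE hE' (hE.inf_ne_bot hU hle hn' hE'.sp.rad.ne)
  · exact fun e => hxD ((QuotientGroup.eq_one_iff x).1 (mem_bot.1
      (e ▸ (⟨⟨x, hx.1, rfl⟩, ⟨x, hx.2, rfl⟩⟩ : π x ∈ T.map π ⊓ T'.map π))))

/-- Proper subgroups of a CIT group with nontrivial core are TI modulo it. -/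
theorem properTI (hc : IsCIT G) : ProperTI G := fun H _ hHne => isTIMod_of_top
  (isTIMod_top (Nat.card H) H rfl (hc.subgroup H) fun e => hHne (by
    rw [Cfsg.pCoreOf, e, Subgroup.map_bot]))

end CfsgLib.CIT
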