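import Cfsg.Agent.Lib.CIT.Key
import Cfsg.Agent.Lib.Fusion.OffenderReplacement

/-!
# Offenders on an elementary abelian normal subgroup of a TI 2-local subgroup

If an abelian subgroup `A` of a Sylow 2-subgroup of `L = N(E)` satisfies
`|V : A ∩ V| ≤ |A : A ∩ E|`, the centralizers in `V` of the Sylow 2-subgroups of `L` form a spread:
`|V| = q²`, there are `q + 1` Sylow subgroups, and every Sylow subgroup has order `|E| q`.
-/

set_option autoImplicit false
set_option linter.unusedSectionVars false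
set_option linter.style.haveILetI false

namespace CfsgLib.CIT

open Subgroup
open scoped Pointwise

universe u

variable {G : Type u} [Group G] [Finite G]

local notation "N[" X "]" => normalizer ((X : Subgroup G) : Set G)

/-- The fixed points of one element. -/
abbrev fixOne (V : Subgroup G) (x : G) : Subgroup G := V ⊓ centralizer ({x} : Set G)

/-- The fixed points of a subgroup. -/
abbrev fixSub (V U : Subgroup G) : Subgroup G := V ⊓ centralizer (U : Set G)

theorem mem_fixOne {V : Subgroup G} {x v : G} : v ∈ fixOne V x ↔ v ∈ V ∧ x * v = v * x :=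
  ⟨fun h => ⟨h.1, (mem_centralizer_singleton_iff.1 h.2).symm⟩,
    fun h => ⟨h.1, mem_centralizer_singleton_iff.2 h.2.symm⟩⟩

theorem mem_fixSub {V U : Subgroup G} {v : G} :
    v ∈ fixSub V U ↔ v ∈ V ∧ ∀ x ∈ U, x * v = v * x :=
  ⟨fun h => ⟨h.1, fun x hx => mem_centralizer_iff.1 h.2 x hx⟩,
    fun h => ⟨h.1, mem_centralizer_iff.2 h.2⟩⟩

/-- An elementary abelian normal subgroup inside the centre of a radical. -/
structure Spread (E V : Subgroup G) : Prop where
  cit : IsCIT G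
  rad : IsRad E
  ti : IsTIMod N[E]
  le : V ≤ E
  ne : V ≠ ⊥
  comm : ∀ x ∈ V, ∀ y ∈ V, x * y = y * x
  sq : ∀ x ∈ V, x * x = 1
  norm : N[E] ≤ N[V]
  cen : ∀ x ∈ V, ∀ e ∈ E, e * x = x * e

theorem card_le_range_mul {A H : Subgroup G} {X : Type*} [Finite X] (f : A → X)
    (h : ∀ a b : A, f a = f b → (a : G)⁻¹ * b ∈ H) :
    Nat.card A ≤ Nat.card (Set.range f) * Nat.card H := by
  classical
  choose r hr using fun x : Set.range f => x.2
  rw [← Nat.card_prod]
  refine Nat.card_le_card_of_injective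
    (fun a => (⟨f a, a, rfl⟩, ⟨(r ⟨f a, a, rfl⟩ : G)⁻¹ * a, h _ _ (hr _)⟩) : A → Set.range f × H) ?_
  intro a b hab
  obtain ⟨h1, h2⟩ := Prod.ext_iff.1 hab
  have e : ((r ⟨f a, a, rfl⟩ : A) : G)⁻¹ * a = ((r ⟨f b, b, rfl⟩ : A) : G)⁻¹ * b := congrArg Subtype.val h2
  rw [show (⟨f a, a, rfl⟩ : Set.range f) = ⟨f b, b, rfl⟩ from h1] at e
  exact Subtype.ext (mul_left_cancel e)

/-- Pairwise disjoint subgroups of equal order inside `V`. -/
theorem card_mul_le_of_disjoint {V : Subgroup G} {ι : Type*} [Finite ι] (P : ι → Subgroup G) (r : ℕ)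
    (hle : ∀ i, P i ≤ V) (hr : ∀ i, Nat.card (P i) = r) (hd : ∀ i j, i ≠ j → P i ⊓ P j = ⊥) :
    Nat.card ι * (r - 1) ≤ Nat.card V - 1 := by
  classical
  haveI := Fintype.ofFinite ι
  haveI := Fintype.ofFinite G
  have hne : ∀ (H : Subgroup G), Nat.card {x : H // x ≠ 1} = Nat.card H - 1 := fun H => by
    rw [Nat.card_eq_fintype_card, Fintype.card_subtype_compl, Fintype.card_subtype_eq, Nat.card_eq_fintype_card]
  have hs : Nat.card (Σ i, {x : P i // x ≠ 1}) = Nat.card ι * (r - 1) := by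
    rw [Nat.card_sigma]
    simp only [hne, hr, Finset.sum_const, Finset.card_univ, smul_eq_mul, Nat.card_eq_fintype_card]
  rw [← hs, ← hne V]
  refine Nat.card_le_card_of_injective (fun x => (⟨⟨(x.2.1 : G), hle x.1 x.2.1.2⟩,
    fun e => x.2.2 (Subtype.ext (congrArg (fun y : V => (y : G)) e))⟩ : {x : V // x ≠ 1})) ?_
  rintro ⟨i, x⟩ ⟨j, y⟩ hxy
  have e : (x.1 : G) = y.1 := congrArg (fun z : {x : V // x ≠ 1} => (z.1 : G)) hxy
  by_cases hij : i = j
  · subst hij
    rw [Subtype.ext (Subtype.ext e)]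
  · exact absurd (Subtype.ext (mem_bot.1 (hd i j hij ▸ (⟨x.1.2, e ▸ y.1.2⟩ : (x.1 : G) ∈ P i ⊓ P j)))) x.2

namespace Spread

variable {E V : Subgroup G} (d : Spread E V)
include d

theorem le_syl {U : Subgroup G} (hU : IsSyl N[E] U) : E ≤ U := d.rad.le_normalizer_syl hU

theorem inf_le_core {U U' : Subgroup G} (hU : IsSyl N[E] U) (hU' : IsSyl N[E] U') (hne : U' ≠ U) :
    U ⊓ U' ≤ E :=
  (d.ti U U' hU hU' hne.symm).trans d.rad.core.le

theorem conj_mem {g v : G} (hg : g ∈ N[E]) (hv : v ∈ V) : g * v * g⁻¹ ∈ V :=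
  normalizer_conj_mem (d.norm hg) hv

/-- A common fixed point forces a common Sylow subgroup. -/
theorem fix_eq_one {U U' : Subgroup G} (hU : IsSyl N[E] U) (hU' : IsSyl N[E] U') (hne : U' ≠ U)
    {a a' v : G} (ha : a ∈ U) (haE : a ∉ E) (ha' : a' ∈ U') (ha'E : a' ∉ E)
    (hv : v ∈ fixOne V a) (hv' : v ∈ fixOne V a') : v = 1 := by
  by_contra h1
  obtain ⟨hvV, hav⟩ := mem_fixOne.1 hv
  obtain ⟨-, hav'⟩ := mem_fixOne.1 hv'
  set C := N[E] ⊓ centralizer ({v} : Set G)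
  have hC : IsPGroup 2 C :=
    (d.cit.isPGroup_centralizer_mem d.rad.two (d.le hvV) h1).to_le inf_le_right
  obtain ⟨W, hW, hCW⟩ := exists_syl hC (inf_le_left : C ≤ N[E])
  have haW : a ∈ W := hCW ⟨hU.1 ha, mem_centralizer_singleton_iff.2 hav⟩
  have ha'W : a' ∈ W := hCW ⟨hU'.1 ha', mem_centralizer_singleton_iff.2 hav'⟩
  by_cases hWU : W = U
  · exact ha'E (d.inf_le_core hU hU' hne ⟨hWU ▸ ha'W, ha'⟩)
  · exact haE (d.inf_le_core hU hW hWU ⟨ha, haW⟩)

theorem fixOne_conj (g a : G) (hg : g ∈ N[E]) : fixOne V (g * a * g⁻¹) = cj g (fixOne V a) := by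
  ext x
  rw [mem_cj, mem_fixOne, mem_fixOne]
  refine ⟨fun ⟨h1, h2⟩ => ⟨?_, ?_⟩, fun ⟨h1, h2⟩ => ⟨?_, ?_⟩⟩
  · simpa using d.conj_mem ((N[E]).inv_mem hg) h1
  · calc a * (g⁻¹ * x * g) = g⁻¹ * ((g * a * g⁻¹) * x) * g := by group
      _ = g⁻¹ * (x * (g * a * g⁻¹)) * g := by rw [h2]
      _ = g⁻¹ * x * g * a := by group
  · have := d.conj_mem hg h1
    rwa [show g * (g⁻¹ * x * g) * g⁻¹ = x by group] at this
  · calc g * a * g⁻¹ * x = g * (a * (g⁻¹ * x * g)) * g⁻¹ := by group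
      _ = g * ((g⁻¹ * x * g) * a) * g⁻¹ := by rw [h2]
      _ = x * (g * a * g⁻¹) := by group

theorem move {U : Subgroup G} (hU : IsSyl N[E] U) {g : G} (hg : g ∈ N[E]) : IsSyl N[E] (cj g U) := by
  have h := isSyl_cj hU g
  rwa [cj_eq_self_iff.2 (le_normalizer hg)] at h

/-- Only elements of `E` fix a second Sylow subgroup. -/
theorem semireg {U U' : Subgroup G} (hU : IsSyl N[E] U) (hU' : IsSyl N[E] U') (hne : U' ≠ U) {b : G}
    (hb : b ∈ U) (h : cj b U' = U') : b ∈ E := by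
  haveI : Fact (Nat.Prime 2) := ⟨Nat.prime_two⟩
  refine d.inf_le_core hU hU' hne ⟨hb, ?_⟩
  have hn : zpowers b ≤ N[U'] := zpowers_le.2 (cj_eq_self_iff.1 h)
  have h1 : IsPGroup 2 (U' ⊔ zpowers b : Subgroup G) :=
    hU'.2.1.to_sup_of_normal_left' (hU.2.1.to_le (zpowers_le.2 hb)) hn
  have h2 := hU'.2.2 _ le_sup_left (sup_le hU'.1 (zpowers_le.2 (hU.1 hb))) h1
  exact h2.le (le_sup_right (a := U') (mem_zpowers b))

/-- An involution modulo `E` fixes exactly the square root of the order. -/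
theorem card_sq {U : Subgroup G} (hU : IsSyl N[E] U) {a : G} (ha : a ∈ U) (haE : a ∉ E)
    (h2 : a * a ∈ E) : Nat.card V = Nat.card (fixOne V a) * Nat.card (fixOne V a) := by
  refine le_antisymm ?_ ?_
  · let f : V → fixOne V a := fun x => ⟨(x : G) * (a * x * a⁻¹), mem_fixOne.2
      ⟨V.mul_mem x.2 (d.conj_mem (hU.1 ha) x.2), by
        have hx : a * (a * x * a⁻¹) * a⁻¹ = (x : G) := by
          rw [show a * (a * x * a⁻¹) * a⁻¹ = a * a * x * (a * a)⁻¹ by group, d.cen _ x.2 _ h2,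
            mul_inv_cancel_right]
        calc a * ((x : G) * (a * x * a⁻¹)) = (a * x * a⁻¹) * (a * (a * x * a⁻¹) * a⁻¹) * a := by group
          _ = (a * x * a⁻¹) * x * a := by rw [hx]
          _ = (x : G) * (a * x * a⁻¹) * a := by rw [d.comm _ (d.conj_mem (hU.1 ha) x.2) _ x.2]⟩⟩
    have h : ∀ x y : V, f x = f y → (x : G)⁻¹ * y ∈ fixOne V a := fun x y e => by
      have e' : (x : G) * (a * x * a⁻¹) = y * (a * y * a⁻¹) := congrArg Subtype.val e
      refine mem_fixOne.2 ⟨V.mul_mem (V.inv_mem x.2) y.2, ?_⟩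
      have ex : ∀ z : V, (z : G)⁻¹ = z := fun z => inv_eq_of_mul_eq_one_right (d.sq _ z.2)
      have hxy : (x : G)⁻¹ * y = a * x * a⁻¹ * (a * y * a⁻¹)⁻¹ := by
        rw [eq_mul_inv_iff_mul_eq, mul_assoc, inv_mul_eq_iff_eq_mul, e']
      calc a * ((x : G)⁻¹ * y) = a * (x * (y : G)⁻¹) * a⁻¹ * a := by rw [ex x, ex y]; group
        _ = (a * x * a⁻¹ * (a * y * a⁻¹)⁻¹) * a := by group
        _ = (x : G)⁻¹ * y * a := by rw [hxy]
    refine (card_le_range_mul f h).trans (Nat.mul_le_mul_right _ ?_)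
    exact Nat.card_le_card_of_injective _ Subtype.val_injective
  · obtain ⟨U', hU', hne⟩ := d.rad.two_syl U hU
    obtain ⟨g, hg, rfl⟩ := hU.exists_conj hU'
    have hd : fixOne V a ⊓ fixOne V (g * a * g⁻¹) = ⊥ := (eq_bot_iff_forall _).2 fun v hv =>
      d.fix_eq_one hU hU' hne ha haE (conj_mem_cj.2 ha) (fun h => haE ?_) hv.1 hv.2
    · have h1 := CfsgLib.Fusion.card_mul_le_sup_inf (fixOne V a) (fixOne V (g * a * g⁻¹))
      rw [hd, card_bot, mul_one, d.fixOne_conj g a hg, card_cj] at h1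
      rw [← d.fixOne_conj g a hg] at h1
      exact h1.trans (card_le_of_le (sup_le inf_le_left inf_le_left))
    · have h3 := normalizer_conj_mem (inv_mem hg : g⁻¹ ∈ N[E]) h
      rwa [show g⁻¹ * (g * a * g⁻¹) * g⁻¹⁻¹ = a by group] at h3

/-- The consequences of an offender. -/
theorem main {U A : Subgroup G} (hU : IsSyl N[E] U) (hAU : A ≤ U) (hA : IsMulCommutative A)
    (hAE : ¬ A ≤ E)
    (hoff : Nat.card V * Nat.card (A ⊓ E : Subgroup G) ≤ Nat.card A * Nat.card (A ⊓ V : Subgroup G)) :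
    ∃ q : ℕ, 2 ≤ q ∧ Nat.card V = q * q ∧ Nat.card A = Nat.card (A ⊓ E : Subgroup G) * q ∧
      Nat.card (A ⊓ V : Subgroup G) = q ∧ U = A ⊔ E ∧
      Nat.card {W : Subgroup G // IsSyl N[E] W} = q + 1 ∧
      ∀ W : Subgroup G, IsSyl N[E] W → Nat.card W = Nat.card E * q ∧ Nat.card (fixSub V W) = q ∧
        ∀ w ∈ W, (w ∉ E → fixOne V w = fixSub V W) := by
  classical
  obtain ⟨a, ha, haE, ha2⟩ := exists_sq_mem (hU.2.1.to_le hAU) hAE
  set r := Nat.card (fixOne V a) with hr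
  have hVr := d.card_sq hU (hAU ha) haE ha2
  rw [← hr] at hVr
  have hV1 : 1 < Nat.card V := (one_lt_card_iff_ne_bot V).2 d.ne
  have hr2 : 2 ≤ r := by
    by_contra h
    have : r * r ≤ 1 := Nat.mul_le_mul (show r ≤ 1 by omega) (show r ≤ 1 by omega)
    omega
  -- every other Sylow subgroup has a square root element
  have hpick : ∀ W : Subgroup G, IsSyl N[E] W → ∃ w ∈ W, w ∉ E ∧ w * w ∈ E ∧ Nat.card (fixOne V w) = r := by
    intro W hW
    obtain ⟨w, hw, hwE, hw2⟩ := exists_sq_mem hW.2.1 (fun h => d.rad.syl_ne hW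
      (le_antisymm h (d.le_syl hW)))
    exact ⟨w, hw, hwE, hw2, Nat.mul_self_inj.1 ((d.card_sq hW hw hwE hw2).symm.trans hVr)⟩
  choose w hwW hwE hw2 hwr using fun W : {W : Subgroup G // IsSyl N[E] W} => hpick W.1 W.2
  set n := Nat.card {W : Subgroup G // IsSyl N[E] W} with hn
  have hn1 : n * (r - 1) ≤ Nat.card V - 1 :=
    card_mul_le_of_disjoint (fun W => fixOne V (w W)) r (fun _ => inf_le_left) hwr fun W W' hne =>
      (eq_bot_iff_forall _).2 fun v hv => d.fix_eq_one W.2 W'.2 (fun e => hne (Subtype.ext e.symm))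
        (hwW W) (hwE W) (hwW W') (hwE W') hv.1 hv.2
  have hnr : n ≤ r + 1 := by
    refine Nat.le_of_mul_le_mul_right (hn1.trans (le_of_eq ?_)) (by omega : 0 < r - 1)
    rw [hVr]
    obtain ⟨k, hk⟩ : ∃ k, r = k + 1 := ⟨r - 1, by omega⟩
    rw [hk]
    simp only [Nat.add_sub_cancel]
    refine Nat.sub_eq_of_eq_add ?_
    ring
  -- orbits on the other Sylow subgroups
  have horb : ∀ (W : Subgroup G), IsSyl N[E] W → ∀ B : Subgroup G, B ≤ W →
      Nat.card B ≤ (n - 1) * Nat.card (B ⊓ E : Subgroup G) := by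
    intro W hW B hB
    obtain ⟨W', hW', hne⟩ := d.rad.two_syl W hW
    have hne' : ∀ b : B, cj (b : G) W' ≠ W := fun b e => hne (by
      have hb : (b : G)⁻¹ ∈ N[W] := le_normalizer (W.inv_mem (hB b.2))
      have h1 := congrArg (cj (b : G)⁻¹) e
      rwa [cj_mul, inv_mul_cancel, cj_one, cj_eq_self_iff.2 hb] at h1)
    let f : B → {X : {W : Subgroup G // IsSyl N[E] W} // X.1 ≠ W} := fun b =>
      ⟨⟨cj (b : G) W', d.move hW' (hW.1 (hB b.2))⟩, hne' b⟩
    have h : ∀ b c : B, f b = f c → (b : G)⁻¹ * c ∈ B ⊓ E := fun b c e => by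
      have e' : cj (b : G) W' = cj (c : G) W' := congrArg (fun X => X.1.1) e
      refine ⟨B.mul_mem (B.inv_mem b.2) c.2, d.semireg hW hW' hne (hB (B.mul_mem (B.inv_mem b.2) c.2)) ?_⟩
      rw [← cj_mul, ← e', cj_mul, inv_mul_cancel, cj_one]
    refine (card_le_range_mul f h).trans (Nat.mul_le_mul_right _ ?_)
    refine (Nat.card_le_card_of_injective _ Subtype.val_injective).trans (le_of_eq ?_)
    haveI := Fintype.ofFinite {W : Subgroup G // IsSyl N[E] W}
    rw [Nat.card_eq_fintype_card, Fintype.card_subtype_compl, hn, Nat.card_eq_fintype_card,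
      show Fintype.card {X : {W : Subgroup G // IsSyl N[E] W} // X.1 = W} = 1 from
        Fintype.card_eq_one_iff.2 ⟨⟨⟨W, hW⟩, rfl⟩, fun X => Subtype.ext (Subtype.ext X.2)⟩]
  -- the numerical squeeze
  set i := Nat.card (A ⊓ E : Subgroup G) with hi
  set j := Nat.card (A ⊓ V : Subgroup G) with hj
  have hi0 : 0 < i := Nat.card_pos
  have hAmem : ∀ b ∈ A, A ⊓ V ≤ fixOne V b := fun b hb x hx => mem_fixOne.2
    ⟨hx.2, congrArg Subtype.val (hA.is_comm.comm ⟨b, hb⟩ ⟨x, hx.1⟩)⟩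
  have hjr : j ≤ r := card_le_of_le (hAmem a ha)
  have hAle : Nat.card A ≤ r * i := (horb U hU A hAU).trans (Nat.mul_le_mul_right _ (by omega))
  have hAeq : Nat.card A = r * i := by
    refine le_antisymm hAle (Nat.le_of_mul_le_mul_right ?_ (show 0 < r by omega))
    calc r * i * r = r * r * i := by ring
      _ = Nat.card V * i := by rw [hVr]
      _ ≤ Nat.card A * j := hoff
      _ ≤ Nat.card A * r := Nat.mul_le_mul_left _ hjr
  have hjeq : j = r := by
    refine le_antisymm hjr (Nat.le_of_mul_le_mul_left ?_ (show 0 < r * i by positivity))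
    calc r * i * r = r * r * i := by ring
      _ = Nat.card V * i := by rw [hVr]
      _ ≤ r * i * j := hAeq ▸ hoff
  have hneq : n = r + 1 := by
    refine le_antisymm hnr ?_
    have h1 := horb U hU A hAU
    rw [hAeq] at h1
    have := Nat.le_of_mul_le_mul_right h1 hi0
    omega
  have hsupU : A ⊔ E ≤ U := sup_le hAU (d.le_syl hU)
  have hUle : Nat.card U ≤ r * Nat.card E := by
    refine (horb U hU U le_rfl).trans (Nat.mul_le_mul (by omega) (card_le_of_le inf_le_right))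
  have hUeq : U = A ⊔ E := by
    refine (eq_of_le_of_card_ge hsupU (hUle.trans ?_)).symm
    have h1 := CfsgLib.Fusion.card_mul_le_sup_inf A E
    rw [← hi, hAeq] at h1
    refine Nat.le_of_mul_le_mul_right (le_of_eq_of_le ?_ h1) hi0
    ring
  have hUcard : Nat.card U = Nat.card E * r := by
    refine le_antisymm (hUle.trans_eq (mul_comm _ _)) ?_
    have h1 := CfsgLib.Fusion.card_mul_le_sup_inf A E
    rw [← hi, hAeq, ← hUeq] at h1
    refine Nat.le_of_mul_le_mul_right (le_of_eq_of_le ?_ h1) hi0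
    ring
  have hEA : ∀ u ∈ U, u ∉ E → fixOne V u = A ⊓ V := by
    intro u hu huE
    have hset : (U : Set G) = (A : Set G) * (E : Set G) := by
      rw [hUeq]
      exact Subgroup.coe_mul_of_left_le_normalizer_right A E (hAU.trans hU.1)
    obtain ⟨b, hb, e, he, hbe⟩ : ∃ b ∈ A, ∃ e ∈ E, b * e = u := by
      have h1 : u ∈ (A : Set G) * (E : Set G) := hset ▸ hu
      exact Set.mem_mul.1 h1
    have hfix : fixOne V u = fixOne V b := by
      ext x
      simp only [mem_fixOne]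
      refine and_congr_right fun hx => ?_
      rw [← hbe, mul_assoc, d.cen x hx e he, ← mul_assoc, ← mul_assoc, mul_left_inj]
    rw [hfix]
    have hbE : b ∉ E := fun h => huE (hbe ▸ E.mul_mem h he)
    obtain ⟨c, hc, hcE, hc2⟩ := exists_sq_mem (hU.2.1.to_le (zpowers_le.2 (hAU hb)))
      (fun h => hbE (h (mem_zpowers b)))
    obtain ⟨m, hm⟩ := mem_zpowers_iff.1 hc
    have hle : fixOne V b ≤ fixOne V c := fun x hx => by
      obtain ⟨hx1, hx2⟩ := mem_fixOne.1 hx
      refine mem_fixOne.2 ⟨hx1, ?_⟩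
      rw [← hm]
      exact ((show Commute b x from hx2).zpow_left m).eq
    refine (eq_of_le_of_card_ge (hAmem b hb) ((card_le_of_le hle).trans ?_)).symm
    rw [← hj, hjeq]
    exact le_of_eq (Nat.mul_self_inj.1 ((d.card_sq hU (zpowers_le.2 (hAU hb) hc) hcE hc2).symm.trans hVr))
  have hfixU : fixSub V U = A ⊓ V := by
    refine le_antisymm (fun x hx => ?_) fun x hx => ?_
    · rw [← hEA a (hAU ha) haE]
      exact mem_fixOne.2 ⟨hx.1, (mem_fixSub.1 hx).2 a (hAU ha)⟩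
    · refine mem_fixSub.2 ⟨hx.2, fun u hu => ?_⟩
      by_cases huE : u ∈ E
      · exact d.cen x hx.2 u huE
      · rw [← hEA u hu huE] at hx
        exact (mem_fixOne.1 hx).2
  refine ⟨r, hr2, hVr, by rw [hAeq, mul_comm], hjeq, hUeq, hneq, fun W hW => ?_⟩
  obtain ⟨g, hg, rfl⟩ := hU.exists_conj hW
  have hfixW : fixSub V (cj g U) = cj g (fixSub V U) := by
    ext x
    rw [mem_cj, mem_fixSub, mem_fixSub]
    refine ⟨fun ⟨h1, h2⟩ => ⟨by simpa using d.conj_mem ((N[E]).inv_mem hg) h1, fun u hu => ?_⟩,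
      fun ⟨h1, h2⟩ => ⟨?_, fun u hu => ?_⟩⟩
    · calc u * (g⁻¹ * x * g) = g⁻¹ * ((g * u * g⁻¹) * x) * g := by group
        _ = g⁻¹ * (x * (g * u * g⁻¹)) * g := by rw [h2 _ (conj_mem_cj.2 hu)]
        _ = g⁻¹ * x * g * u := by group
    · have := d.conj_mem hg h1
      rwa [show g * (g⁻¹ * x * g) * g⁻¹ = x by group] at this
    · calc u * x = g * ((g⁻¹ * u * g) * (g⁻¹ * x * g)) * g⁻¹ := by group
        _ = g * ((g⁻¹ * x * g) * (g⁻¹ * u * g)) * g⁻¹ := by rw [h2 _ (mem_cj.1 hu)]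
        _ = x * u := by group
  refine ⟨by rw [card_cj, hUcard], by rw [hfixW, card_cj, hfixU, ← hj, hjeq], fun u hu huE => ?_⟩
  obtain ⟨u0, hu0, rfl⟩ := hu
  show fixOne V (g * u0 * g⁻¹) = _
  rw [d.fixOne_conj g u0 hg, hfixW, hfixU, hEA u0 hu0]
  intro h
  exact huE (normalizer_conj_mem hg h)

end Spread

end CfsgLib.CIT
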