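import Cfsg.Agent.Lib.CIT.Perfect
import Cfsg.Agent.Lib.CIT.Outer
import Cfsg.Agent.Lib.CIT.QThm
import Cfsg.Agent.Lib.PGroup.TwoPQModule
import Cfsg.Agent.S4235
import Cfsg.Agent.S0144

/-!
# Nonsolvable CN groups

A nonsolvable CN group is simple, or contains `PSL₂(9)` with index two, or is CIT and is an extension
of a nontrivial two-group by `SL₂(2ⁿ)` or a Suzuki group.
-/

set_option autoImplicit false
set_option linter.unusedSectionVars false
set_option linter.style.haveILetI false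

namespace CfsgLib.CIT

open Subgroup

universe u

variable {G : Type u} [Group G] [Finite G]

theorem IsCN.of_mulEquiv {H : Type*} [Group H] (h : IsCN G) (e : G ≃* H) : IsCN H := by
  intro x hx
  haveI := h (e.symm x) fun h1 => hx (e.symm.map_eq_one_iff.1 h1)
  have hmem : ∀ c : centralizer ({x} : Set H), e.symm (c : H) ∈ centralizer ({e.symm x} : Set G) := fun c =>
    mem_centralizer_singleton_iff.2 (by
      rw [← map_mul, ← map_mul, mem_centralizer_singleton_iff.1 c.2])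
  let f : centralizer ({x} : Set H) →* centralizer ({e.symm x} : Set G) :=
    MonoidHom.mk' (fun c => ⟨e.symm (c : H), hmem c⟩) fun a b => Subtype.ext (map_mul e.symm _ _)
  have hf : Function.Injective f := fun a b hab =>
    Subtype.ext (e.symm.injective (congrArg Subtype.val hab))
  exact Group.nilpotent_of_mulEquiv (MonoidHom.ofInjective hf).symm

/-- A nontrivial solvable normal subgroup gives a nontrivial core for some prime. -/
theorem exists_pCore_ne_bot {R : Subgroup G} (hR : R.Normal) (hs : Group.IsSolvable R) (hne : R ≠ ⊥) :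
    ∃ p : ℕ, p.Prime ∧ Cfsg.pCore p G ≠ ⊥ := by
  haveI := hs
  haveI : Nontrivial R := (Subgroup.nontrivial_iff_ne_bot R).2 hne
  obtain ⟨A, hA, hA1, hAc⟩ := CfsgLib.TwoPQ.exists_abelian_normal (G := R)
  have hcard : Nat.card A ≠ 1 := fun h => hA1 (Subgroup.card_eq_one.1 h)
  obtain ⟨p, hp, hpd⟩ := Nat.exists_prime_and_dvd hcard
  haveI : Fact p.Prime := ⟨hp⟩
  obtain ⟨⟨w, hw⟩, hwo⟩ := exists_prime_orderOf_dvd_card' (G := A) p hpd
  rw [Subgroup.orderOf_mk] at hwo
  let W : Subgroup R :=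
    { carrier := {x | x ∈ A ∧ x ^ p = 1}
      one_mem' := ⟨one_mem A, one_pow p⟩
      mul_mem' := fun {a b} ha hb => ⟨A.mul_mem ha.1 hb.1, by
        rw [(show Commute a b from hAc a ha.1 b hb.1).mul_pow, ha.2, hb.2, one_mul]⟩
      inv_mem' := fun {a} ha => ⟨A.inv_mem ha.1, by rw [inv_pow, ha.2, inv_one]⟩ }
  have hWn : W.Normal := ⟨fun x hx g => ⟨hA.conj_mem x hx.1 g, by rw [conj_pow, hx.2, mul_one, mul_inv_cancel]⟩⟩
  have hWp : IsPGroup p W := fun x => ⟨1, Subtype.ext (by rw [pow_one, Subgroup.coe_pow]; exact x.2.2)⟩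
  have hwW : w ∈ W := ⟨hw, hwo ▸ pow_orderOf_eq_one w⟩
  haveI := CfsgLib.Coprime.pCore_characteristic (G := R) p
  haveI := hR
  have hn : ((Cfsg.pCore p R).map R.subtype).Normal := ConjAct.normal_of_characteristic_of_normal
  have hle : (Cfsg.pCore p R).map R.subtype ≤ Cfsg.pCore p G :=
    CfsgLib.Coprime.le_pCore (hN := hn) ((CfsgLib.Coprime.pCore_isPGroup p).map R.subtype)
  refine ⟨p, hp, fun e => ?_⟩
  rw [e, le_bot_iff, Subgroup.map_eq_bot_iff, R.ker_subtype, le_bot_iff] at hle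
  have : w ∈ Cfsg.pCore p R := CfsgLib.Coprime.le_pCore (hN := hWn) hWp hwW
  rw [hle, Subgroup.mem_bot] at this
  rw [this, orderOf_one] at hwo
  exact hp.one_lt.ne hwo

/-- An involution of a Sylow subgroup centralizes a central element of an odd normal `p`-subgroup. -/
theorem exists_invol_centralizes (hns : ¬ Group.IsSolvable G)
    (hcz : ∀ z : G, orderOf z = 2 → Group.IsSolvable (centralizer ({z} : Set G)))
    {p : ℕ} (hp : p.Prime) (hp2 : p ≠ 2) {P : Subgroup G} (hP : P.Normal) (hPp : IsPGroup p P)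
    (hne : P ≠ ⊥) :
    ∃ T : Sylow 2 G, ∃ v ∈ (T : Subgroup G), orderOf v = 2 ∧
      ∃ q ∈ P, q ≠ 1 ∧ Odd (orderOf q) ∧ (∀ y ∈ P, y * q = q * y) ∧ v * q = q * v := by
  classical
  haveI : Fact (Nat.Prime 2) := ⟨Nat.prime_two⟩
  haveI : Fact p.Prime := ⟨hp⟩
  obtain ⟨T⟩ : Nonempty (Sylow 2 G) := inferInstance
  obtain ⟨z, hzT, hz, hzc⟩ := exists_central_invol (T := T) (two_dvd_card_of_nsolv hns)
  haveI : Nontrivial P := (Subgroup.nontrivial_iff_ne_bot P).2 hne
  haveI := hPp.center_nontrivial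
  obtain ⟨⟨⟨q, hqP⟩, hqc⟩, hq1⟩ := exists_ne (1 : Subgroup.center P)
  have hodd : ∀ y ∈ P, Odd (orderOf y) := fun y hy => by
    obtain ⟨k, hk⟩ := IsPGroup.iff_orderOf.1 hPp ⟨y, hy⟩
    rw [Subgroup.orderOf_mk] at hk
    rw [hk]
    exact (hp.odd_of_ne_two hp2).pow
  have hq1' : q ≠ 1 := fun e => hq1 (Subtype.ext (Subtype.ext e))
  have hqcen : ∀ y ∈ P, y * q = q * y := fun y hy =>
    congrArg Subtype.val (Subgroup.mem_center_iff.1 hqc ⟨y, hy⟩)
  have hsq : ∀ y ∈ P, y ≠ 1 → y * y ≠ 1 := fun y hy hy1 e => by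
    obtain ⟨j, hj⟩ := hodd y hy
    refine hy1 ?_
    have h := pow_orderOf_eq_one y
    rw [hj, pow_succ, pow_mul, pow_two, e, one_pow, one_mul] at h
    exact h
  by_cases hu : ∀ x ∈ (T : Subgroup G), orderOf x = 2 → x = z
  · exfalso
    refine hns ?_
    have hc := CfsgLib.Invol.zcentral_of_unique_invol T hz hu
    haveI := CfsgLib.Coprime.pPrimeCore_characteristic (G := G) 2
    set O := Cfsg.pPrimeCore 2 G
    have hOodd : Odd (Nat.card O) :=
      Nat.odd_iff.2 (Nat.two_dvd_ne_zero.1 (CfsgLib.Coprime.pPrimeCore_not_dvd Nat.prime_two))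
    haveI := hcz z hz
    haveI : Group.IsSolvable (G ⧸ O) := by
      refine Group.isSolvable_of_surjective
        (f := (QuotientGroup.mk' O).comp (centralizer ({z} : Set G)).subtype) fun x => ?_
      obtain ⟨g, rfl⟩ := QuotientGroup.mk'_surjective O x
      have hy : orderOf (g * z * g⁻¹) = 2 := by rw [orderOf_conj_eq, hz]
      have hzy : z * (g * z * g⁻¹) ∈ O := by
        have h := hc g
        rwa [inv_eq_of_mul_eq_one_right (CfsgLib.Invol.invol_mul_self hz),
          show z * g * z * g⁻¹ = z * (g * z * g⁻¹) by group] at h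
      obtain ⟨d, hd, hde⟩ := CfsgLib.Invol.exists_conj_eq_of_odd hz hy
        (hOodd.of_dvd_nat (by rw [← Subgroup.orderOf_mk _ hzy]; exact orderOf_dvd_natCard _))
      have hdO : d ∈ O := (zpowers_le.2 hzy) hd
      refine ⟨⟨d⁻¹ * g, mem_centralizer_singleton_iff.2 ?_⟩, ?_⟩
      · calc d⁻¹ * g * z = d⁻¹ * (g * z * g⁻¹) * g := by group
          _ = d⁻¹ * (d * z * d⁻¹) * g := by rw [hde]
          _ = z * (d⁻¹ * g) := by group
      · show QuotientGroup.mk' O (d⁻¹ * g) = _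
        rw [map_mul, map_inv, show QuotientGroup.mk' O d = 1 from (QuotientGroup.eq_one_iff d).2 hdO,
          inv_one, one_mul]
    haveI : Group.IsSolvable O := CfsgLib.FrobSystem.isSolvable_subgroup_of_odd hOodd
    exact Group.isSolvable_of_ker_le_range O.subtype (QuotientGroup.mk' O) (by simp)
  · push Not at hu
    obtain ⟨x, hxT, hx, hxz⟩ := hu
    have hxzc : x * z = z * x := hzc x hxT
    have key : ∀ {w : G}, w ∈ (T : Subgroup G) → orderOf w = 2 → w * q * w⁻¹ ≠ q⁻¹ →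
        ∃ v ∈ (T : Subgroup G), orderOf v = 2 ∧
          ∃ q ∈ P, q ≠ 1 ∧ Odd (orderOf q) ∧ (∀ y ∈ P, y * q = q * y) ∧ v * q = q * v := by
      intro w hwT hw hwq
      have hwP : w * q * w⁻¹ ∈ P := hP.conj_mem q hqP w
      refine ⟨w, hwT, hw, q * (w * q * w⁻¹), P.mul_mem hqP hwP, fun e => hwq
        (inv_eq_of_mul_eq_one_right e).symm, hodd _ (P.mul_mem hqP hwP), fun y hy => ?_, ?_⟩
      · have h1 : y * (w * q * w⁻¹) = w * q * w⁻¹ * y := by
          have := hqcen _ (hP.conj_mem y hy w⁻¹)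
          rw [inv_inv] at this
          calc y * (w * q * w⁻¹) = w * (w⁻¹ * y * w * q) * w⁻¹ := by group
            _ = w * (q * (w⁻¹ * y * w)) * w⁻¹ := by rw [this]
            _ = w * q * w⁻¹ * y := by group
        exact ((show Commute y q from hqcen y hy).mul_right h1).eq
      · have hw2 : w⁻¹ = w := inv_eq_of_mul_eq_one_right (CfsgLib.Invol.invol_mul_self hw)
        calc w * (q * (w * q * w⁻¹)) = w * q * w⁻¹ * (w * w * q * w⁻¹) := by group
          _ = w * q * w⁻¹ * (q * w⁻¹) := by rw [CfsgLib.Invol.invol_mul_self hw, one_mul]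
          _ = q * (w * q * w⁻¹) * w⁻¹ := by rw [← mul_assoc, hqcen _ hwP]
          _ = q * (w * q * w⁻¹) * w := by rw [hw2]
    by_cases h1 : z * q * z⁻¹ = q⁻¹
    · by_cases h2 : x * q * x⁻¹ = q⁻¹
      · refine ⟨T, z * x, mul_mem hzT hxT, orderOf_eq_prime ?_ fun e => hxz ?_, q, hqP, hq1', hodd q hqP,
          hqcen, ?_⟩
        · rw [pow_two, mul_assoc, ← mul_assoc x, hxzc, ← mul_assoc, ← mul_assoc,
            CfsgLib.Invol.invol_mul_self hz, one_mul, CfsgLib.Invol.invol_mul_self hx]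
        · rw [← inv_eq_of_mul_eq_one_right e, inv_eq_of_mul_eq_one_right (CfsgLib.Invol.invol_mul_self hz)]
        · calc z * x * q = z * (x * q * x⁻¹) * x := by group
            _ = z * q⁻¹ * x := by rw [h2]
            _ = (z * q * z⁻¹)⁻¹ * (z * x) := by group
            _ = q * (z * x) := by rw [h1, inv_inv]
      · obtain ⟨v, hv⟩ := key hxT hx h2
        exact ⟨T, v, hv⟩
    · obtain ⟨v, hv⟩ := key hzT hz h1
      exact ⟨T, v, hv⟩

/-- A CN group with an odd normal `p`-subgroup is solvable. -/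
theorem pCore_eq_bot_of_cn (hns : ¬ Group.IsSolvable G) (hCN : IsCN G) {p : ℕ} (hp : p.Prime)
    (hp2 : p ≠ 2) : Cfsg.pCore p G = ⊥ := by
  by_contra hne
  haveI : Fact (Nat.Prime 2) := ⟨Nat.prime_two⟩
  haveI : Fact p.Prime := ⟨hp⟩
  have hP := CfsgLib.Coprime.pCore_normal' (G := G) p
  obtain ⟨T, v, hvT, hv, q, hqP, hq1, hqo, hqc, hvq⟩ := exists_invol_centralizes hns
    (fun z hz => by
      haveI := hCN z (CfsgLib.Invol.invol_ne_one hz)
      infer_instance) hp hp2 hP (CfsgLib.Coprime.pCore_isPGroup p) hne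
  obtain ⟨z, hzT, hz, hzc⟩ := exists_central_invol (T := T) (two_dvd_card_of_nsolv hns)
  have hqz : q * z = z * q := cn_comm hCN (CfsgLib.Invol.invol_ne_one hv) hvq.symm (hzc v hvT).symm
    (coprime_of_two_odd T.2 hzT hqo).symm
  have hTq : ∀ t ∈ (T : Subgroup G), t * q = q * t := fun t ht =>
    mem_centralizer_iff.1 (cn_centralizes hCN hz hzc hqo hqz) t ht
  have hTP : ∀ t ∈ (T : Subgroup G), ∀ y ∈ Cfsg.pCore p G, t * y = y * t := fun t ht y hy =>
    cn_comm hCN hq1 (hTq t ht) (hqc y hy) (coprime_of_two_odd T.2 ht (by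
      obtain ⟨k, hk⟩ := IsPGroup.iff_orderOf.1 (CfsgLib.Coprime.pCore_isPGroup (G := G) p) ⟨y, hy⟩
      rw [Subgroup.orderOf_mk] at hk
      rw [hk]
      exact (hp.odd_of_ne_two hp2).pow))
  refine hns ?_
  have hn : Subgroup.normalizer ((T : Subgroup G) : Set G) = ⊤ := by
    refine Subgroup.normalizer_eq_top_iff.2 ⟨fun t ht g => ?_⟩
    refine cn_mem_sylow hCN hq1 hTq ?_ (isPGroup_cj (g := g) T.2 |>.to_le
      (zpowers_le.2 (conj_mem_cj.2 ht)))
    have hy : g⁻¹ * q * g ∈ Cfsg.pCore p G := by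
      have := hP.conj_mem q hqP g⁻¹
      rwa [inv_inv] at this
    calc g * t * g⁻¹ * q = g * (t * (g⁻¹ * q * g)) * g⁻¹ := by group
      _ = g * ((g⁻¹ * q * g) * t) * g⁻¹ := by rw [hTP t ht _ hy]
      _ = q * (g * t * g⁻¹) := by group
  haveI : Group.IsSolvable (⊤ : Subgroup G) := hn ▸ Cfsg.Agent.S4235.isSolvable_normalizer T
  exact Group.isSolvable_of_surjective (f := (Subgroup.topEquiv : (⊤ : Subgroup G) ≃* G).toMonoidHom)
    (Subgroup.topEquiv : (⊤ : Subgroup G) ≃* G).surjective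

/-- A CIT group has no odd normal `p`-subgroup. -/
theorem pCore_eq_bot_of_cit (hns : ¬ Group.IsSolvable G) (hc : IsCIT G) {p : ℕ} (hp : p.Prime)
    (hp2 : p ≠ 2) : Cfsg.pCore p G = ⊥ := by
  by_contra hne
  haveI : Fact (Nat.Prime 2) := ⟨Nat.prime_two⟩
  haveI : Fact p.Prime := ⟨hp⟩
  obtain ⟨T, v, -, hv, q, -, hq1, hqo, -, hvq⟩ := exists_invol_centralizes hns
    (fun z hz => by
      haveI := (hc.isPGroup_centralizer_mem (isPGroup_zpowers_invol hz) (mem_zpowers z)
        (CfsgLib.Invol.invol_ne_one hz)).isNilpotent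
      infer_instance) hp hp2 (CfsgLib.Coprime.pCore_normal' p) (CfsgLib.Coprime.pCore_isPGroup p) hne
  exact hq1 (hc v q hv hqo hvq.symm)

/-- A nonsolvable CN group with a nontrivial solvable normal subgroup. -/
theorem cn_with_core (hns : ¬ Group.IsSolvable G) (hCN : IsCN G) (hR : ¬ NoSolv G) :
    ∃ (N : Subgroup G) (_ : N.Normal), N ≠ ⊥ ∧ IsPGroup 2 N ∧ IsCIT G ∧
      ((∃ (K : Type) (_ : Field K) (_ : Fintype K), (∃ n : ℕ, 2 ≤ n ∧ Fintype.card K = 2 ^ n) ∧
          Nonempty (G ⧸ N ≃* Matrix.SpecialLinearGroup (Fin 2) K)) ∨ Cfsg.Lie.IsoSuzuki (G ⧸ N)) := by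
  haveI : Fact (Nat.Prime 2) := ⟨Nat.prime_two⟩
  simp only [NoSolv, not_forall] at hR
  obtain ⟨R, hRn, hRs, hne⟩ := hR
  obtain ⟨p, hp, hD⟩ := exists_pCore_ne_bot hRn hRs hne
  obtain rfl : p = 2 := by_contra fun h => hD (pCore_eq_bot_of_cn hns hCN hp h)
  haveI := CfsgLib.Coprime.pCore_normal' (G := G) 2
  set D := Cfsg.pCore 2 G with hDdef
  have hDp : IsPGroup 2 D := CfsgLib.Coprime.pCore_isPGroup 2
  have hDT : ∀ S : Subgroup G, IsSyl ⊤ S → D ≤ S := fun S hS => by
    rw [hDdef, ← pc_top]; exact hS.pc_le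
  have hc : IsCIT G := by
    by_contra hc
    obtain ⟨T⟩ : Nonempty (Sylow 2 G) := inferInstance
    refine hns ?_
    have hn : Subgroup.normalizer ((T : Subgroup G) : Set G) = ⊤ := eq_top_iff.2 fun g _ =>
      cj_eq_self_iff.1 (cn_ti hCN hc _ _ ((Sylow.isSylTop T).cj_top g) (Sylow.isSylTop T) fun e =>
        hD (eq_bot_iff.2 (e ▸ le_inf (hDT _ ((Sylow.isSylTop T).cj_top g)) (hDT _ (Sylow.isSylTop T)))))
    haveI : Group.IsSolvable (⊤ : Subgroup G) := hn ▸ Cfsg.Agent.S4235.isSolvable_normalizer T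
    exact Group.isSolvable_of_surjective (f := (Subgroup.topEquiv : (⊤ : Subgroup G) ≃* G).toMonoidHom)
      (Subgroup.topEquiv : (⊤ : Subgroup G) ≃* G).surjective
  have hc' := hc.quotient D hDp
  have hns' : ¬ Group.IsSolvable (G ⧸ D) := fun hs => hns (by
    haveI := hs
    haveI := hDp.isNilpotent
    exact Group.isSolvable_of_ker_le_range D.subtype (QuotientGroup.mk' D) (by simp))
  have hR' : NoSolv (G ⧸ D) := fun R' hn hs => by_contra fun h1 => by
    obtain ⟨r, hr, hr1⟩ := exists_pCore_ne_bot hn hs h1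
    rcases eq_or_ne r 2 with rfl | h2
    · exact hr1 (CfsgLib.Coprime.pCore_quotient_eq_bot 2)
    · exact hr1 (pCore_eq_bot_of_cit hns' hc' hr h2)
  have hTI : ∀ S S' : Subgroup (G ⧸ D), IsSyl ⊤ S → IsSyl ⊤ S' → S ⊓ S' ≠ ⊥ → S = S' := by
    intro S S' hS hS' hne
    have hsurj : Function.Surjective (QuotientGroup.mk' D) := QuotientGroup.mk'_surjective D
    have hker : IsPGroup 2 (QuotientGroup.mk' D).ker := by rw [QuotientGroup.ker_mk']; exact hDp
    have hlift : ∀ S : Subgroup (G ⧸ D), IsSyl ⊤ S → IsSyl ⊤ (S.comap (QuotientGroup.mk' D)) := by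
      intro S hS
      refine ⟨le_top, hS.2.1.comap_of_ker_isPGroup _ hker, fun V hle _ hV => le_antisymm ?_ hle⟩
      intro v hv
      have h1 : V.map (QuotientGroup.mk' D) = S := hS.2.2 _
        ((map_comap_eq_self_of_surjective hsurj S).ge.trans (map_mono hle)) le_top (hV.map _)
      exact mem_comap.2 (h1 ▸ mem_map_of_mem _ hv)
    by_contra hSS
    refine hne (eq_bot_iff.2 ?_)
    have h := isTIMod_top _ G rfl hc hD _ _ (hlift S hS) (hlift S' hS') fun e =>
      hSS (comap_injective hsurj e)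
    rw [pc_top] at h
    intro x hx
    obtain ⟨g, rfl⟩ := hsurj x
    exact mem_bot.2 ((QuotientGroup.eq_one_iff g).2 (h ⟨hx.1, hx.2⟩))
  obtain ⟨T⟩ : Nonempty (Sylow 2 (G ⧸ D)) := inferInstance
  exact ⟨D, inferInstance, hD, hDp, hc, sl_or_isoSuzuki (ti_conj T hTI)
    (ker_of_cit hc' T (two_dvd_card_of_nsolv hns') hTI) hns' hR'⟩

/-- A nonsolvable CN group without solvable normal subgroups. -/
theorem cn_without_core (hns : ¬ Group.IsSolvable G) (hCN : IsCN G) (hR : NoSolv G) :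
    (IsSimpleGroup G ∧ ¬ IsMulCommutative G) ∨
    (∃ L : Subgroup G, L.Normal ∧ L.index = 2 ∧ ∃ (F : Type) (_ : Field F) (_ : Fintype F),
      Fintype.card F = 9 ∧ Nonempty (L ≃* Matrix.ProjectiveSpecialLinearGroup (Fin 2) F)) := by
  classical
  obtain ⟨_, ⟨n, rfl⟩, hn⟩ := Set.exists_min_image (Set.range fun k : ℕ => derivedSeries G k)
    (fun H : Subgroup G => Nat.card H) (Set.toFinite _) ⟨_, 0, rfl⟩
  set L := derivedSeries G n with hLdef
  have hLn : L.Normal := derivedSeries_normal G n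
  have hLL : ⁅L, L⁆ = L := Subgroup.eq_of_le_of_card_ge (commutator_le_self L)
    (hn _ ⟨n + 1, derivedSeries_succ G n⟩)
  have hp : commutator L = ⊤ := Subgroup.map_injective L.subtype_injective (by
    rw [map_subtype_commutator, hLL, ← MonoidHom.range_eq_map, range_subtype])
  have hL0 : L ≠ ⊥ := fun e => hns ((Group.isSolvable_def G).2 ⟨n, e⟩)
  haveI : Nontrivial L := (Subgroup.nontrivial_iff_ne_bot L).2 hL0
  haveI := hLn
  have hRL : NoSolv L := fun R hRn hRs => by_contra fun h => by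
    obtain ⟨p, hp, hD⟩ := exists_pCore_ne_bot hRn hRs h
    haveI : Fact p.Prime := ⟨hp⟩
    haveI := CfsgLib.Coprime.pCore_characteristic (G := L) p
    haveI := ((CfsgLib.Coprime.pCore_isPGroup (G := L) p).map L.subtype).isNilpotent
    refine hD ((Subgroup.map_eq_bot_iff_of_injective _ L.subtype_injective).1 (hR _ ?_ inferInstance))
    exact ConjAct.normal_of_characteristic_of_normal
  obtain ⟨hsimp, hna⟩ := isSimple_of_perfect hp hRL (hCN.subgroup L)
  haveI := hsimp
  have hinj : Function.Injective (MulAut.conjNormal : G →* MulAut L) := by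
    refine (MonoidHom.ker_eq_bot_iff _).1 (hR _ inferInstance ?_)
    obtain ⟨⟨x, hxL⟩, hx1⟩ := exists_ne (1 : L)
    haveI := hCN x fun e => hx1 (Subtype.ext e)
    refine Group.isSolvable_of_isSolvable_injective (f := Subgroup.inclusion
      (show (MulAut.conjNormal : G →* MulAut L).ker ≤ centralizer ({x} : Set G) from fun g hg => ?_))
      (Subgroup.inclusion_injective _)
    refine mem_centralizer_singleton_iff.2 (mul_inv_eq_iff_eq_mul.1 ?_)
    have h : ((MulAut.conjNormal g) ⟨x, hxL⟩ : L) = ⟨x, hxL⟩ := by rw [MonoidHom.mem_ker.1 hg]; rfl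
    exact (MulAut.conjNormal_apply g ⟨x, hxL⟩).symm.trans (congrArg Subtype.val h)
  -- transfer to a concrete simple group
  have main : ∀ (P : Type) [Group P] [Finite P] (e : L ≃* P)
      (Q : Prop), (∀ 𝒢 : Subgroup (MulAut P), (MulAut.conj : P →* MulAut P).range ≤ 𝒢 → IsCN 𝒢 →
        𝒢 = (MulAut.conj : P →* MulAut P).range ∨
          (Q ∧ (MulAut.conj : P →* MulAut P).range.relIndex 𝒢 = 2)) →
      (IsSimpleGroup G ∧ ¬ IsMulCommutative G) ∨ (Q ∧ L.index = 2) := by
    intro P _ _ e Q hout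
    set ψ : G →* MulAut P := (MulAut.congr e).toMonoidHom.comp MulAut.conjNormal with hψ
    have hψi : Function.Injective ψ := (MulAut.congr e).injective.comp hinj
    have hl : ∀ l : L, ψ (l : G) = MulAut.conj (e l) := by
      intro l
      refine MulEquiv.ext fun y => ?_
      have h1 : (MulAut.conjNormal (l : G)) (e.symm y) = l * e.symm y * l⁻¹ :=
        Subtype.ext (by rw [MulAut.conjNormal_apply]; rfl)
      show e ((MulAut.conjNormal (l : G)) (e.symm y)) = e l * y * (e l)⁻¹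
      rw [h1, map_mul, map_mul, map_inv, e.apply_symm_apply]
    have hmap : L.map ψ = (MulAut.conj : P →* MulAut P).range := by
      ext f
      constructor
      · rintro ⟨g, hg, rfl⟩
        exact ⟨e ⟨g, hg⟩, (hl ⟨g, hg⟩).symm⟩
      · rintro ⟨y, rfl⟩
        exact ⟨_, (e.symm y).2, by rw [hl, e.apply_symm_apply]⟩
    rcases hout ψ.range (hmap ▸ Subgroup.map_le_range ψ L)
      (hCN.of_mulEquiv (MonoidHom.ofInjective hψi)) with h | ⟨hQ, h⟩
    · left
      have hLt : L = ⊤ := Subgroup.map_injective hψi (by rw [hmap, ← h, ← MonoidHom.range_eq_map])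
      let eL : L ≃* G := (MulEquiv.subgroupCongr hLt).trans Subgroup.topEquiv
      exact ⟨eL.symm.isSimpleGroup, fun hG => hna (isMulCommutative_iff.2 fun a b =>
        eL.injective (by rw [map_mul, map_mul]; exact hG.is_comm.comm _ _))⟩
    · right
      refine ⟨hQ, ?_⟩
      rwa [← hmap, MonoidHom.range_eq_map ψ, relIndex_map_map_of_injective _ _ hψi, relIndex_top_right] at h
  have hsimpP : ∀ {P : Type} [Group P] (e : L ≃* P), IsSimpleGroup P ∧ ¬ IsMulCommutative P := by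
    intro P _ e
    haveI := e.symm.toEquiv.nontrivial
    exact ⟨e.symm.isSimpleGroup, fun h => hna (isMulCommutative_iff.2 fun a b =>
      e.injective (by rw [map_mul, map_mul]; exact h.is_comm.comm _ _))⟩
  rcases simple_cn_cases (hCN.subgroup L) hna with ⟨K, iK, iK', hq, ⟨e⟩⟩ | ⟨K, iK, iK', h4, ⟨e⟩⟩ |
      ⟨F, iF, iF', m, hm, hF, ⟨e⟩⟩
  · obtain ⟨hsP, hnaP⟩ := hsimpP e
    haveI := hsP
    by_cases he : Fintype.card K % 2 = 0
    · haveI : CharP K 2 := CfsgLib.Classical.PSL2Spectrum.char_two_of_dvd (Nat.dvd_of_mod_eq_zero he)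
      exact Or.inl ((main _ e False fun 𝒢 hin hcn =>
        Or.inl (inner_psl_two_even hnaP hin hcn)).resolve_right fun h => h.1)
    have hodd : Fintype.card K % 2 = 1 := by omega
    have h9p : Fintype.card K = 9 ∨ (Fintype.card K).Prime := by
      rcases hq with h | ⟨k, hk, hK⟩ | ⟨h, -⟩
      · exact Or.inl h
      · exact absurd (Nat.mod_eq_zero_of_dvd (hK ▸ dvd_pow_self 2 (by omega))) he
      · exact Or.inr h
    have h5 : 5 ≤ Fintype.card K := by
      rcases h9p with h | h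
      · omega
      have h3 : Fintype.card K ≠ 3 := fun h3 => by
        have hcard := CfsgLib.Classical.card_psl2 (F := K)
        rw [h3, show Nat.gcd 2 (3 - 1) = 2 from rfl] at hcard
        exact hnaP (isMulCommutative_iff.2 (IsSimpleGroup.comm_iff_isSolvable.2
          (Cfsg.Agent.S0144.result 2 3 2 1 Nat.prime_two Nat.prime_three (by omega))))
      have := h.two_le
      omega
    rcases main _ e (Fintype.card K = 9) fun 𝒢 hin hcn =>
        psl_two_odd_index hnaP h5 hodd h9p hin hcn with h | ⟨h9, hidx⟩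
    · exact Or.inl h
    · exact Or.inr ⟨L, hLn, hidx, K, iK, iK', h9, ⟨e⟩⟩
  · obtain ⟨hsP, hnaP⟩ := hsimpP e
    haveI := hsP
    haveI : CharP K 2 := CfsgLib.Classical.PSL2Spectrum.char_two_of_dvd (h4 ▸ by norm_num)
    exact Or.inl ((main _ e False fun 𝒢 hin hcn =>
      Or.inl (inner_psl_three hnaP hin hcn)).resolve_right fun h => h.1)
  · obtain ⟨e'⟩ := CfsgLib.Lie.Suz.exists_twEquiv (F := F) hm hF
    exact Or.inl ((main _ (e.trans e'.symm) False fun 𝒢 hin hcn =>
      Or.inl (inner_suz hm hF hin hcn)).resolve_right fun h => h.1)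

/-- The structure of nonsolvable CN groups. -/
theorem cn_structure (hns : ¬ Group.IsSolvable G) (hCN : IsCN G) :
    (IsSimpleGroup G ∧ ¬ IsMulCommutative G) ∨
    (∃ L : Subgroup G, L.Normal ∧ L.index = 2 ∧ ∃ (F : Type) (_ : Field F) (_ : Fintype F),
      Fintype.card F = 9 ∧ Nonempty (L ≃* Matrix.ProjectiveSpecialLinearGroup (Fin 2) F)) ∨
    (∃ (N : Subgroup G) (_ : N.Normal), N ≠ ⊥ ∧ IsPGroup 2 N ∧ IsCIT G ∧
      ((∃ (K : Type) (_ : Field K) (_ : Fintype K), (∃ n : ℕ, 2 ≤ n ∧ Fintype.card K = 2 ^ n) ∧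
          Nonempty (G ⧸ N ≃* Matrix.SpecialLinearGroup (Fin 2) K)) ∨ Cfsg.Lie.IsoSuzuki (G ⧸ N))) := by
  by_cases hR : NoSolv G
  · rcases cn_without_core hns hCN hR with h | h
    · exact Or.inl h
    · exact Or.inr (Or.inl h)
  · exact Or.inr (Or.inr (cn_with_core hns hCN hR))

end CfsgLib.CIT
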